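import Mathlib
import Groth.Prelude.Def_DRing3

/-!
# Injective modules over Noetherian rings: `Γ_I` preserves injectives, localisation maps are onto
-/

namespace Groth.Agent.H88

universe u

variable {R : Type u} [CommRing R]

/-- For an injective module `N` over a Noetherian ring: every fraction `y / g^n` is represented
by an element of `N`. -/
theorem exists_pow_smul_eq_of_injective [IsNoetherianRing R] (N : Type u) [AddCommGroup N]
    [Module R N] [Module.Injective R N] (g : R) (y : N) (n : ℕ) :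
    ∃ (y' : N) (k : ℕ), g ^ (k + n) • y' = g ^ k • y := by
  let F : ℕ →o Submodule R R :=
    ⟨fun k => LinearMap.ker (LinearMap.toSpanSingleton R R (g ^ k)), by
      intro a b hab r hr
      rw [LinearMap.mem_ker, LinearMap.toSpanSingleton_apply] at hr ⊢
      obtain ⟨c, rfl⟩ := Nat.exists_eq_add_of_le hab
      rw [pow_add, smul_eq_mul, ← mul_assoc]
      rw [smul_eq_mul] at hr
      rw [hr, zero_mul]⟩
  obtain ⟨k, hk⟩ := (monotone_stabilizes_iff_noetherian (R := R) (M := R)).mpr inferInstance F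
  have hFk : F (k + n) = F k := (hk (k + n) (Nat.le_add_right k n)).symm
  let f : (R ⧸ F (k + n)) →ₗ[R] R :=
    (F (k + n)).liftQ (LinearMap.toSpanSingleton R R (g ^ (k + n))) le_rfl
  have hf : Function.Injective f := by
    rw [← LinearMap.ker_eq_bot]
    exact Submodule.ker_liftQ_eq_bot _ _ _ le_rfl
  let ψ : (R ⧸ F (k + n)) →ₗ[R] N :=
    (F (k + n)).liftQ (LinearMap.toSpanSingleton R N (g ^ k • y)) (by
      intro r hr
      rw [hFk] at hr
      have hr' : r • g ^ k = 0 := by
        have := LinearMap.mem_ker.mp hr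
        rwa [LinearMap.toSpanSingleton_apply] at this
      rw [LinearMap.mem_ker, LinearMap.toSpanSingleton_apply, smul_smul]
      rw [smul_eq_mul] at hr'
      rw [hr', zero_smul])
  obtain ⟨h, hh⟩ := Module.Injective.out f hf ψ
  refine ⟨h 1, k, ?_⟩
  have h1 := hh (Submodule.Quotient.mk 1)
  have h2 : f (Submodule.Quotient.mk 1) = g ^ (k + n) := by
    change (F (k + n)).liftQ _ _ (Submodule.Quotient.mk 1) = _
    rw [Submodule.liftQ_apply]
    simp [LinearMap.toSpanSingleton_apply]
  have h3 : ψ (Submodule.Quotient.mk 1) = g ^ k • y := by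
    change (F (k + n)).liftQ _ _ (Submodule.Quotient.mk 1) = _
    rw [Submodule.liftQ_apply]
    simp [LinearMap.toSpanSingleton_apply]
  rw [h2, h3] at h1
  rw [← h1, ← map_smul, smul_eq_mul, mul_one]

/-- Consequence: any localisation map of an injective module at the powers of `g` is onto. -/
theorem surjective_of_isLocalizedModule_powers {N N' : Type*} [AddCommGroup N] [AddCommGroup N']
    [Module R N] [Module R N'] (g : R) (ℓ : N →ₗ[R] N') [IsLocalizedModule (Submonoid.powers g) ℓ]
    (h : ∀ (y : N) (n : ℕ), ∃ (y' : N) (k : ℕ), g ^ (k + n) • y' = g ^ k • y) :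
    Function.Surjective ℓ := by
  intro z
  obtain ⟨⟨w, s⟩, hws⟩ := IsLocalizedModule.surj (Submonoid.powers g) ℓ z
  obtain ⟨n, hn⟩ := s.2
  obtain ⟨y', k, hy'⟩ := h w n
  refine ⟨y', ?_⟩
  have hws' : (s : R) • z = ℓ w := hws
  have h1 : g ^ (k + n) • ℓ y' = g ^ (k + n) • z := by
    rw [← map_smul, hy', map_smul, ← hws', ← hn, smul_smul, ← pow_add]
  exact (IsLocalizedModule.smul_inj ℓ (⟨g ^ (k + n), k + n, rfl⟩ : Submonoid.powers g) _ _).mp h1

/-- Over a Noetherian ring, `Γ_I` of an injective module satisfies Baer's criterion. -/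
theorem baer_torsionSub [IsNoetherianRing R] (I : Ideal R) (N : Type u) [AddCommGroup N]
    [Module R N] [Module.Injective R N] : Module.Baer R (DRing.torsionSub I N) := by
  intro J ψ
  -- Step 1: a uniform exponent
  have step1 : ∃ n : ℕ, ∀ x : J, ∀ a ∈ I ^ n, a • (ψ x : N) = 0 := by
    have hfg : (⊤ : Submodule R J).FG := Module.Finite.fg_top
    obtain ⟨t, ht⟩ := hfg
    have key : ∀ t : Finset J, ∃ n : ℕ, ∀ x ∈ Submodule.span R (t : Set J), ∀ a ∈ I ^ n,
        a • (ψ x : N) = 0 := by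
      intro t
      classical
      induction t using Finset.induction_on with
      | empty =>
        refine ⟨0, fun x hx a _ => ?_⟩
        rw [Finset.coe_empty, Submodule.span_empty, Submodule.mem_bot] at hx
        rw [hx, map_zero, Submodule.coe_zero, smul_zero]
      | insert b t _ ih =>
        obtain ⟨n, hn⟩ := ih
        obtain ⟨m, hm⟩ := (ψ b).2
        refine ⟨n + m, fun x hx a ha => ?_⟩
        rw [Finset.coe_insert, Submodule.mem_span_insert] at hx
        obtain ⟨r, z, hz, rfl⟩ := hx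
        rw [map_add, map_smul, Submodule.coe_add, Submodule.coe_smul, smul_add, smul_comm,
          hm a (Ideal.pow_le_pow_right (Nat.le_add_left m n) ha), smul_zero, zero_add]
        exact hn z hz a (Ideal.pow_le_pow_right (Nat.le_add_right n m) ha)
    obtain ⟨n, hn⟩ := key t
    exact ⟨n, fun x a ha => hn x (by rw [ht]; trivial) a ha⟩
  obtain ⟨n, hn⟩ := step1
  -- Step 2: Artin–Rees
  obtain ⟨c, hc⟩ := Ideal.exists_pow_inf_eq_pow_smul I (J : Submodule R R)
  have step2 : ∀ x : J, (x : R) ∈ I ^ (c + n) → (ψ x : N) = 0 := by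
    intro x hx
    have h1 : (x : R) ∈ I ^ (c + n) • (⊤ : Submodule R R) ⊓ J := by
      refine ⟨?_, x.2⟩
      change (x : R) ∈ I ^ (c + n) • (⊤ : Ideal R)
      rw [smul_eq_mul, Ideal.mul_top]
      exact hx
    rw [hc (c + n) (Nat.le_add_right c n), Nat.add_sub_cancel_left] at h1
    have h2 : ∀ z : R, z ∈ I ^ n • (I ^ c • (⊤ : Submodule R R) ⊓ J) →
        ∃ hz : z ∈ J, (ψ ⟨z, hz⟩ : N) = 0 := by
      intro z hz
      refine Submodule.smul_induction_on hz ?_ ?_
      · intro a ha y hy
        refine ⟨J.smul_mem a hy.2, ?_⟩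
        have : (⟨a • y, J.smul_mem a hy.2⟩ : J) = a • ⟨y, hy.2⟩ := rfl
        rw [this, map_smul, Submodule.coe_smul]
        exact hn _ a ha
      · rintro y y' ⟨hy, e⟩ ⟨hy', e'⟩
        refine ⟨J.add_mem hy hy', ?_⟩
        have : (⟨y + y', J.add_mem hy hy'⟩ : J) = ⟨y, hy⟩ + ⟨y', hy'⟩ := rfl
        rw [this, map_add, Submodule.coe_add, e, e', add_zero]
    obtain ⟨_, h3⟩ := h2 x h1
    exact h3
  -- Step 3: extend
  set m := c + n with hm
  let K : Submodule R J := Submodule.comap J.subtype (I ^ m)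
  let f : (J ⧸ K) →ₗ[R] (R ⧸ I ^ m) :=
    K.liftQ ((I ^ m).mkQ ∘ₗ J.subtype) (by
      intro x hx
      rw [LinearMap.mem_ker, LinearMap.comp_apply, Submodule.mkQ_apply,
        Submodule.Quotient.mk_eq_zero]
      exact hx)
  have hf : Function.Injective f := by
    rw [← LinearMap.ker_eq_bot]
    refine Submodule.ker_liftQ_eq_bot _ _ _ ?_
    intro x hx
    rw [LinearMap.mem_ker, LinearMap.comp_apply, Submodule.mkQ_apply,
      Submodule.Quotient.mk_eq_zero] at hx
    exact hx
  let ψ' : (J ⧸ K) →ₗ[R] N :=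
    K.liftQ ((DRing.torsionSub I N).subtype ∘ₗ ψ) (by
      intro x hx
      rw [LinearMap.mem_ker, LinearMap.comp_apply, Submodule.subtype_apply]
      exact step2 x hx)
  obtain ⟨h, hh⟩ := Module.Injective.out f hf ψ'
  have hmem : ∀ r : R, (h ∘ₗ (I ^ m).mkQ) r ∈ DRing.torsionSub I N := by
    intro r
    refine ⟨m, fun a ha => ?_⟩
    rw [LinearMap.comp_apply, ← map_smul, ← map_smul, Submodule.mkQ_apply, smul_eq_mul,
      (Submodule.Quotient.mk_eq_zero _).mpr (Ideal.mul_mem_right r _ ha), map_zero]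
  refine ⟨LinearMap.codRestrict (DRing.torsionSub I N) (h ∘ₗ (I ^ m).mkQ) hmem, ?_⟩
  intro x hx
  apply Subtype.ext
  rw [LinearMap.codRestrict_apply, LinearMap.comp_apply]
  have h1 := hh (Submodule.Quotient.mk ⟨x, hx⟩)
  have h2 : f (Submodule.Quotient.mk ⟨x, hx⟩) = (I ^ m).mkQ x := by
    change K.liftQ _ _ (Submodule.Quotient.mk ⟨x, hx⟩) = _
    rw [Submodule.liftQ_apply]
    rfl
  have h3 : ψ' (Submodule.Quotient.mk ⟨x, hx⟩) = (ψ ⟨x, hx⟩ : N) := by
    change K.liftQ _ _ (Submodule.Quotient.mk ⟨x, hx⟩) = _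
    rw [Submodule.liftQ_apply]
    rfl
  rw [h2, h3] at h1
  exact h1

end Groth.Agent.H88
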