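import Mathlib

/-!
# The cone of a morphism of short exact sequences of complexes of modules is degreewise short exact
-/

namespace Groth.Agent.H88

open CategoryTheory Limits CochainComplex HomComplex

universe u

section General

variable {C : Type*} [Category C] [Preadditive C] [HasBinaryBiproducts C]
variable {K₁ L₁ K₂ L₂ : CochainComplex C ℤ} (φ₁ : K₁ ⟶ L₁) (φ₂ : K₂ ⟶ L₂)
  (a : K₁ ⟶ K₂) (b : L₁ ⟶ L₂) (comm : φ₁ ≫ b = a ≫ φ₂)

lemma map_f_fst_v (p q : ℤ) (hpq : p + 1 = q) :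
    (mappingCone.map φ₁ φ₂ a b comm).f p ≫ (mappingCone.fst φ₂).1.v p q hpq =
      (mappingCone.fst φ₁).1.v p q hpq ≫ a.f q := by
  subst hpq
  simp [mappingCone.ext_from_iff _ (p + 1) p rfl, mappingCone.map]

lemma map_f_snd_v (p : ℤ) :
    (mappingCone.map φ₁ φ₂ a b comm).f p ≫ (mappingCone.snd φ₂).v p p (add_zero p) =
      (mappingCone.snd φ₁).v p p (add_zero p) ≫ b.f p := by
  simp [mappingCone.ext_from_iff _ (p + 1) p rfl, mappingCone.map]

end General

section Modules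

variable {R : Type u} [CommRing R]

/-- Three-term exactness `0 → A → B → C → 0` of linear maps. -/
def Ex3 {A B C : Type*} [AddCommGroup A] [AddCommGroup B] [AddCommGroup C] [Module R A]
    [Module R B] [Module R C] (f : A →ₗ[R] B) (g : B →ₗ[R] C) : Prop :=
  Function.Injective f ∧ Function.Exact f g ∧ Function.Surjective g

variable {K L : CochainComplex (ModuleCat.{u} R) ℤ} (φ : K ⟶ L)

/-- Elements of the cone are determined by their two components. -/
lemma cone_elt_ext (p q : ℤ) (hpq : p + 1 = q) (x y : (mappingCone φ).X p)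
    (h1 : ((mappingCone.fst φ).1.v p q hpq).hom x = ((mappingCone.fst φ).1.v p q hpq).hom y)
    (h2 : ((mappingCone.snd φ).v p p (add_zero p)).hom x =
      ((mappingCone.snd φ).v p p (add_zero p)).hom y) : x = y := by
  have hid := mappingCone.id_X φ p q hpq
  have hx := congrArg (fun m => m.hom x) hid
  have hy := congrArg (fun m => m.hom y) hid
  simp only [ModuleCat.hom_add, ModuleCat.hom_comp, LinearMap.add_apply, LinearMap.comp_apply,
    ModuleCat.hom_id, LinearMap.id_coe, id_eq] at hx hy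
  rw [← hx, ← hy, h1, h2]

/-- An element of the cone with prescribed components. -/
lemma cone_elt_exists (p q : ℤ) (hpq : p + 1 = q) (u : K.X q) (v : L.X p) :
    ∃ x : (mappingCone φ).X p, ((mappingCone.fst φ).1.v p q hpq).hom x = u ∧
      ((mappingCone.snd φ).v p p (add_zero p)).hom x = v := by
  refine ⟨((mappingCone.inl φ).v q p (by omega)).hom u + ((mappingCone.inr φ).f p).hom v, ?_, ?_⟩
  · have h1 := congrArg (fun m => m.hom u) (mappingCone.inl_v_fst_v φ q p (by omega))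
    have h2 := congrArg (fun m => m.hom v) (mappingCone.inr_f_fst_v φ p q hpq)
    simp only [ModuleCat.hom_comp, LinearMap.comp_apply, ModuleCat.hom_id, LinearMap.id_coe, id_eq,
      ModuleCat.hom_zero, LinearMap.zero_apply] at h1 h2
    rw [map_add, h1, h2, add_zero]
  · have h1 := congrArg (fun m => m.hom u) (mappingCone.inl_v_snd_v φ q p (by omega))
    have h2 := congrArg (fun m => m.hom v) (mappingCone.inr_f_snd_v φ p)
    simp only [ModuleCat.hom_comp, LinearMap.comp_apply, ModuleCat.hom_id, LinearMap.id_coe, id_eq,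
      ModuleCat.hom_zero, LinearMap.zero_apply] at h1 h2
    rw [map_add, h1, h2, zero_add]

variable {K₁ L₁ K₂ L₂ K₃ L₃ : CochainComplex (ModuleCat.{u} R) ℤ}
  (φ₁ : K₁ ⟶ L₁) (φ₂ : K₂ ⟶ L₂) (φ₃ : K₃ ⟶ L₃)
  (a : K₁ ⟶ K₂) (b : L₁ ⟶ L₂) (comm : φ₁ ≫ b = a ≫ φ₂)
  (a' : K₂ ⟶ K₃) (b' : L₂ ⟶ L₃) (comm' : φ₂ ≫ b' = a' ≫ φ₃)

lemma map_fst_apply (p q : ℤ) (hpq : p + 1 = q) (x : (mappingCone φ₁).X p) :
    ((mappingCone.fst φ₂).1.v p q hpq).hom (((mappingCone.map φ₁ φ₂ a b comm).f p).hom x) =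
      (a.f q).hom (((mappingCone.fst φ₁).1.v p q hpq).hom x) :=
  congrArg (fun m => m.hom x) (map_f_fst_v φ₁ φ₂ a b comm p q hpq)

lemma map_snd_apply (p : ℤ) (x : (mappingCone φ₁).X p) :
    ((mappingCone.snd φ₂).v p p (add_zero p)).hom (((mappingCone.map φ₁ φ₂ a b comm).f p).hom x) =
      (b.f p).hom (((mappingCone.snd φ₁).v p p (add_zero p)).hom x) :=
  congrArg (fun m => m.hom x) (map_f_snd_v φ₁ φ₂ a b comm p)

/-- The cone of a morphism of degreewise short exact sequences is degreewise short exact. -/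
theorem cone_map_ex3 (p q : ℤ) (hpq : p + 1 = q)
    (ha : Ex3 (a.f q).hom (a'.f q).hom) (hb : Ex3 (b.f p).hom (b'.f p).hom) :
    Ex3 ((mappingCone.map φ₁ φ₂ a b comm).f p).hom
      ((mappingCone.map φ₂ φ₃ a' b' comm').f p).hom := by
  obtain ⟨ha1, ha2, ha3⟩ := ha
  obtain ⟨hb1, hb2, hb3⟩ := hb
  refine ⟨?_, ?_, ?_⟩
  · intro x y hxy
    apply cone_elt_ext φ₁ p q hpq
    · apply ha1
      rw [← map_fst_apply φ₁ φ₂ a b comm, ← map_fst_apply φ₁ φ₂ a b comm, hxy]
    · apply hb1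
      rw [← map_snd_apply φ₁ φ₂ a b comm, ← map_snd_apply φ₁ φ₂ a b comm, hxy]
  · intro y
    constructor
    · intro hy
      have h1 : (a'.f q).hom (((mappingCone.fst φ₂).1.v p q hpq).hom y) = 0 := by
        rw [← map_fst_apply φ₂ φ₃ a' b' comm', hy, map_zero]
      have h2 : (b'.f p).hom (((mappingCone.snd φ₂).v p p (add_zero p)).hom y) = 0 := by
        rw [← map_snd_apply φ₂ φ₃ a' b' comm', hy, map_zero]
      obtain ⟨u, hu⟩ := (ha2 _).mp h1
      obtain ⟨v, hv⟩ := (hb2 _).mp h2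
      obtain ⟨x, hx1, hx2⟩ := cone_elt_exists φ₁ p q hpq u v
      refine ⟨x, ?_⟩
      apply cone_elt_ext φ₂ p q hpq
      · rw [map_fst_apply, hx1, hu]
      · rw [map_snd_apply, hx2, hv]
    · rintro ⟨x, rfl⟩
      apply cone_elt_ext φ₃ p q hpq
      · rw [map_fst_apply, map_fst_apply, map_zero]
        exact (ha2 _).mpr ⟨_, rfl⟩
      · rw [map_snd_apply, map_snd_apply, map_zero]
        exact (hb2 _).mpr ⟨_, rfl⟩
  · intro z
    obtain ⟨u, hu⟩ := ha3 (((mappingCone.fst φ₃).1.v p q hpq).hom z)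
    obtain ⟨v, hv⟩ := hb3 (((mappingCone.snd φ₃).v p p (add_zero p)).hom z)
    obtain ⟨y, hy1, hy2⟩ := cone_elt_exists φ₂ p q hpq u v
    refine ⟨y, ?_⟩
    apply cone_elt_ext φ₃ p q hpq
    · rw [map_fst_apply, hy1, hu]
    · rw [map_snd_apply, hy2, hv]

end Modules

end Groth.Agent.H88
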