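import Mathlib
import Groth.Prelude.Def_DerCA
import Groth.Agent.H88.ConeExact

/-!
# Functoriality of the extended Čech complex in the module, and its degreewise exactness
-/

namespace Groth.Agent.H88

open CategoryTheory Limits CochainComplex HomComplex

universe u

variable {R : Type u} [CommRing R]

theorem locCxUnit_naturality (S : Submonoid R) {K L : DRing.Cx R} (a : K ⟶ L) :
    DerCA.locCxUnit S K ≫ (DerCA.locCx S).map a = a ≫ DerCA.locCxUnit S L := by
  ext n : 1
  exact ((DerCA.locUnit S).naturality (a.f n)).symm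

section cocone

variable {K₁ L₁ K₂ L₂ : DRing.Cx R} (φ₁ : K₁ ⟶ L₁) (φ₂ : K₂ ⟶ L₂)
  (a : K₁ ⟶ K₂) (b : L₁ ⟶ L₂) (comm : φ₁ ≫ b = a ≫ φ₂)

/-- The map induced on mapping cocones by a commutative square. -/
noncomputable def coconeMap : mappingCocone φ₁ ⟶ mappingCocone φ₂ :=
  (mappingCone.map φ₁ φ₂ a b comm)⟦(-1 : ℤ)⟧'

theorem coconeMap_f (p : ℤ) :
    (coconeMap φ₁ φ₂ a b comm).f p = (mappingCone.map φ₁ φ₂ a b comm).f (p + -1) := rfl

set_option backward.defeqAttrib.useBackward true in
set_option backward.isDefEq.respectTransparency false in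
theorem coconeMap_fst :
    coconeMap φ₁ φ₂ a b comm ≫ mappingCocone.fst φ₂ = mappingCocone.fst φ₁ ≫ a := by
  ext p
  simp [coconeMap, mappingCocone.fst, mappingCocone,
    Cochain.leftShift_v (n := 1) _ _ _ _ _ p _ (p + -1) (by lia), map_f_fst_v]

theorem homologyMap_coconeMap_fst_apply (i : ℤ) (x : (mappingCocone φ₁).homology i) :
    (HomologicalComplex.homologyMap (mappingCocone.fst φ₂) i).hom
        ((HomologicalComplex.homologyMap (coconeMap φ₁ φ₂ a b comm) i).hom x) =
      (HomologicalComplex.homologyMap a i).hom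
        ((HomologicalComplex.homologyMap (mappingCocone.fst φ₁) i).hom x) := by
  have h2 : HomologicalComplex.homologyMap (coconeMap φ₁ φ₂ a b comm) i ≫
      HomologicalComplex.homologyMap (mappingCocone.fst φ₂) i =
      HomologicalComplex.homologyMap (mappingCocone.fst φ₁) i ≫
        HomologicalComplex.homologyMap a i := by
    rw [← HomologicalComplex.homologyMap_comp, ← HomologicalComplex.homologyMap_comp,
      coconeMap_fst]
  exact congrArg (fun m => m.hom x) h2

end cocone

/-- Functoriality of the extended Čech complex in the module. -/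
noncomputable def extCechMap {M N : ModuleCat.{u} R} (f : M ⟶ N) :
    ∀ fs : List R, DerCA.extCech M fs ⟶ DerCA.extCech N fs
  | [] => (HomologicalComplex.single (ModuleCat.{u} R) (ComplexShape.up ℤ) 0).map f
  | g :: fs =>
    coconeMap (DerCA.locCxUnit (Submonoid.powers g) (DerCA.extCech M fs))
      (DerCA.locCxUnit (Submonoid.powers g) (DerCA.extCech N fs)) (extCechMap f fs)
      ((DerCA.locCx (Submonoid.powers g)).map (extCechMap f fs)) (locCxUnit_naturality _ _)

section functoriality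

theorem coconeMap_comp {K₁ L₁ K₂ L₂ K₃ L₃ : DRing.Cx R} (φ₁ : K₁ ⟶ L₁) (φ₂ : K₂ ⟶ L₂)
    (φ₃ : K₃ ⟶ L₃) (a : K₁ ⟶ K₂) (b : L₁ ⟶ L₂) (comm : φ₁ ≫ b = a ≫ φ₂)
    (a' : K₂ ⟶ K₃) (b' : L₂ ⟶ L₃) (comm' : φ₂ ≫ b' = a' ≫ φ₃) :
    coconeMap φ₁ φ₃ (a ≫ a') (b ≫ b') (by rw [reassoc_of% comm, comm', Category.assoc]) =
      coconeMap φ₁ φ₂ a b comm ≫ coconeMap φ₂ φ₃ a' b' comm' := by
  unfold coconeMap
  rw [mappingCone.map_comp φ₁ φ₂ φ₃ a b comm a' b' comm']
  exact Functor.map_comp _ _ _

theorem coconeMap_zero {K₁ L₁ K₂ L₂ : DRing.Cx R} (φ₁ : K₁ ⟶ L₁) (φ₂ : K₂ ⟶ L₂) :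
    coconeMap φ₁ φ₂ 0 0 (by simp) = 0 := by
  unfold coconeMap
  have : mappingCone.map φ₁ φ₂ 0 0 (by simp) = 0 := by
    refine HomologicalComplex.hom_ext _ _ (fun n => ?_)
    rw [mappingCone.ext_from_iff _ (n + 1) n rfl]
    simp [mappingCone.map]
  rw [this]
  exact Functor.map_zero _ _ _

theorem coconeMap_congr {K₁ L₁ K₂ L₂ : DRing.Cx R} (φ₁ : K₁ ⟶ L₁) (φ₂ : K₂ ⟶ L₂)
    {a a' : K₁ ⟶ K₂} {b b' : L₁ ⟶ L₂} (comm : φ₁ ≫ b = a ≫ φ₂) (ha : a = a') (hb : b = b') :
    coconeMap φ₁ φ₂ a b comm = coconeMap φ₁ φ₂ a' b' (by rw [← ha, ← hb]; exact comm) := by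
  subst ha hb
  rfl

theorem extCechMap_zero {M N : ModuleCat.{u} R} :
    ∀ fs : List R, extCechMap (0 : M ⟶ N) fs = 0
  | [] => by
    change (HomologicalComplex.single (ModuleCat.{u} R) (ComplexShape.up ℤ) 0).map (0 : M ⟶ N) = 0
    exact Functor.map_zero _ _ _
  | g :: fs => by
    rw [extCechMap]
    rw [coconeMap_congr _ _ _ (extCechMap_zero fs)
      (by rw [extCechMap_zero fs, Functor.map_zero])]
    exact coconeMap_zero _ _

theorem extCechMap_comp {M N P : ModuleCat.{u} R} (f : M ⟶ N) (h : N ⟶ P) :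
    ∀ fs : List R, extCechMap (f ≫ h) fs = extCechMap f fs ≫ extCechMap h fs
  | [] => by
    change (HomologicalComplex.single (ModuleCat.{u} R) (ComplexShape.up ℤ) 0).map (f ≫ h) =
      (HomologicalComplex.single (ModuleCat.{u} R) (ComplexShape.up ℤ) 0).map f ≫
        (HomologicalComplex.single (ModuleCat.{u} R) (ComplexShape.up ℤ) 0).map h
    exact Functor.map_comp _ _ _
  | g :: fs => by
    rw [extCechMap, extCechMap, extCechMap]
    rw [coconeMap_congr _ _ _ (extCechMap_comp f h fs)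
      (by rw [extCechMap_comp f h fs, Functor.map_comp])]
    exact coconeMap_comp _ _ _ _ _ _ _ _ _

end functoriality

section exactness

theorem ex3_of_shortExact {S : ShortComplex (ModuleCat.{u} R)} (hS : S.ShortExact) :
    Ex3 S.f.hom S.g.hom :=
  ⟨(ModuleCat.mono_iff_injective _).mp hS.mono_f,
    (ShortComplex.ShortExact.moduleCat_exact_iff_function_exact _).mp hS.exact,
    (ModuleCat.epi_iff_surjective _).mp hS.epi_g⟩

theorem shortExact_of_ex3 (S : ShortComplex (ModuleCat.{u} R)) (h : Ex3 S.f.hom S.g.hom) :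
    S.ShortExact :=
  { exact := (ShortComplex.ShortExact.moduleCat_exact_iff_function_exact _).mpr h.2.1
    mono_f := (ModuleCat.mono_iff_injective _).mpr h.1
    epi_g := (ModuleCat.epi_iff_surjective _).mpr h.2.2 }

theorem ex3_locFunctor (S : Submonoid R) {A B C : ModuleCat.{u} R} (f : A ⟶ B) (g : B ⟶ C)
    (h : Ex3 f.hom g.hom) :
    Ex3 ((DerCA.locFunctor S).map f).hom ((DerCA.locFunctor S).map g).hom := by
  obtain ⟨h1, h2, h3⟩ := h
  exact ⟨IsLocalizedModule.map_injective S (LocalizedModule.mkLinearMap S A)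
      (LocalizedModule.mkLinearMap S B) f.hom h1,
    IsLocalizedModule.map_exact S (LocalizedModule.mkLinearMap S A)
      (LocalizedModule.mkLinearMap S B) (LocalizedModule.mkLinearMap S C) f.hom g.hom h2,
    IsLocalizedModule.map_surjective S (LocalizedModule.mkLinearMap S B)
      (LocalizedModule.mkLinearMap S C) g.hom h3⟩

theorem extCechMap_ex3 {S : ShortComplex (ModuleCat.{u} R)} (hS : S.ShortExact) :
    ∀ (fs : List R) (n : ℤ), Ex3 ((extCechMap S.f fs).f n).hom ((extCechMap S.g fs).f n).hom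
  | [], n => by
    have h1 := (hS.map_of_exact
      (HomologicalComplex.single (ModuleCat.{u} R) (ComplexShape.up ℤ) 0)).map_of_exact
        (HomologicalComplex.eval (ModuleCat.{u} R) (ComplexShape.up ℤ) n)
    exact ex3_of_shortExact h1
  | g :: fs, n => by
    have ha := extCechMap_ex3 hS fs n
    have hb := ex3_locFunctor (Submonoid.powers g) _ _ (extCechMap_ex3 hS fs (n + -1))
    exact cone_map_ex3 (DerCA.locCxUnit (Submonoid.powers g) (DerCA.extCech S.X₁ fs))
      (DerCA.locCxUnit (Submonoid.powers g) (DerCA.extCech S.X₂ fs))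
      (DerCA.locCxUnit (Submonoid.powers g) (DerCA.extCech S.X₃ fs))
      (extCechMap S.f fs) ((DerCA.locCx (Submonoid.powers g)).map (extCechMap S.f fs))
      (locCxUnit_naturality _ _)
      (extCechMap S.g fs) ((DerCA.locCx (Submonoid.powers g)).map (extCechMap S.g fs))
      (locCxUnit_naturality _ _) (n + -1) n (by omega) ha hb

/-- The short complex of extended Čech complexes attached to a short complex of modules. -/
noncomputable def extCechSC (S : ShortComplex (ModuleCat.{u} R)) (fs : List R) :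
    ShortComplex (DRing.Cx R) :=
  ShortComplex.mk (extCechMap S.f fs) (extCechMap S.g fs)
    (by rw [← extCechMap_comp, S.zero, extCechMap_zero])

theorem extCechSC_shortExact {S : ShortComplex (ModuleCat.{u} R)} (hS : S.ShortExact)
    (fs : List R) : (extCechSC S fs).ShortExact :=
  HomologicalComplex.shortExact_of_degreewise_shortExact _
    (fun n => shortExact_of_ex3 _ (extCechMap_ex3 hS fs n))

end exactness

end Groth.Agent.H88
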