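import Mathlib
import Groth.Prelude.Def_DerCA
import Groth.Prelude.Def_DRing3
import Groth.Agent.H46.LocCxHomology

/-!
# The long exact sequence of the mapping cocone `K → K_g`, in terms of functions
-/

namespace Groth.Agent.H88

open CategoryTheory Limits Pretriangulated

universe u

attribute [local instance] HasDerivedCategory.standard

variable {R : Type u} [CommRing R]

/-- The long exact cohomology sequence of the mapping cocone of `K ⟶ K_g`, in function form:
`H^{q-1}(K) → H^{q-1}(K_g) → H^q(C) → H^q(K) → H^q(K_g)`. -/
theorem cocone_seq (K : DRing.Cx R) (g : R) (q : ℤ) :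
    ∃ δ : ((DerCA.locCx (Submonoid.powers g)).obj K).homology (q - 1) ⟶
        (CochainComplex.mappingCocone (DerCA.locCxUnit (Submonoid.powers g) K)).homology q,
      Function.Exact (HomologicalComplex.homologyMap (DerCA.locCxUnit (Submonoid.powers g) K) (q - 1)).hom
        δ.hom ∧
      Function.Exact δ.hom
        (HomologicalComplex.homologyMap (CochainComplex.mappingCocone.fst
          (DerCA.locCxUnit (Submonoid.powers g) K)) q).hom ∧
      Function.Exact
        (HomologicalComplex.homologyMap (CochainComplex.mappingCocone.fst
          (DerCA.locCxUnit (Submonoid.powers g) K)) q).hom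
        (HomologicalComplex.homologyMap (DerCA.locCxUnit (Submonoid.powers g) K) q).hom := by
  set φ := DerCA.locCxUnit (Submonoid.powers g) K with hφ
  let T := CochainComplex.mappingCocone.triangle φ
  have hT : DerivedCategory.Q.mapTriangle.obj T ∈ distTriang _ :=
    DerivedCategory.mappingCocone_triangle_distinguished φ
  have ex1 := CochainComplex.homologyMap_exact₁_of_distTriang T hT (q - 1) q (by omega)
  have ex2 := CochainComplex.homologyMap_exact₂_of_distTriang T hT q
  have ex3 := CochainComplex.homologyMap_exact₃_of_distTriang T hT (q - 1) q (by omega)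
  rw [ShortComplex.ShortExact.moduleCat_exact_iff_function_exact] at ex1 ex2 ex3
  exact ⟨CochainComplex.homologyδOfTriangle T (q - 1) q (by omega), ex3, ex1, ex2⟩

/-- If `f : M → N` is a localisation map and `M` is trivial then so is `N`. -/
theorem subsingleton_of_isLocalizedModule {M N : Type*} [AddCommGroup M] [AddCommGroup N]
    [Module R M] [Module R N] (S : Submonoid R) (f : M →ₗ[R] N) [IsLocalizedModule S f]
    [Subsingleton M] : Subsingleton N := by
  refine ⟨fun a b => ?_⟩
  have h0 : ∀ z : N, z = 0 := by
    intro z
    obtain ⟨⟨w, s⟩, hws⟩ := IsLocalizedModule.surj S f z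
    have hw : w = 0 := Subsingleton.elim _ _
    have h1 : (s : R) • z = 0 := by
      have : s • z = f w := hws
      rw [hw, map_zero] at this
      exact this
    exact (IsLocalizedModule.smul_inj f s z 0).mp (by rw [smul_zero]; exact h1)
  rw [h0 a, h0 b]

end Groth.Agent.H88
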