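import Mathlib
import Groth.Prelude.Def_DerCA
import Groth.Prelude.Def_DRing3
import Groth.Agent.H46.LocCxHomology
import Groth.Agent.H88.ExtCechSeq
import Groth.Agent.S9264

/-!
# `H^0` of the extended Čech complex is `Γ_I`
-/

namespace Groth.Agent.H88

open CategoryTheory Limits Pretriangulated

universe u

variable {R : Type u} [CommRing R]

theorem mem_torsionSub_insert_iff (g : R) (s : Set R) (M : Type u) [AddCommGroup M] [Module R M]
    (m : M) :
    m ∈ DRing.torsionSub (Ideal.span (insert g s)) M ↔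
      m ∈ DRing.torsionSub (Ideal.span s) M ∧ ∃ n : ℕ, g ^ n • m = 0 := by
  constructor
  · rintro ⟨n, hn⟩
    refine ⟨⟨n, fun a ha => hn a ?_⟩, n, hn _ ?_⟩
    · exact Ideal.pow_right_mono (Ideal.span_mono (Set.subset_insert g s)) n ha
    · exact Ideal.pow_mem_pow (Ideal.subset_span (Set.mem_insert g s)) n
  · rintro ⟨⟨n, hn⟩, k, hk⟩
    refine ⟨k + n, fun a ha => ?_⟩
    have h1 : Ideal.span (insert g s) = Ideal.span {g} ⊔ Ideal.span s := by
      rw [← Ideal.span_union]; rfl
    rw [h1] at ha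
    have h2 := Ideal.sup_pow_add_le_pow_sup_pow (n := k) (m := n) ha
    obtain ⟨x, hx, y, hy, rfl⟩ := Submodule.mem_sup.mp h2
    rw [Ideal.span_singleton_pow, Ideal.mem_span_singleton'] at hx
    obtain ⟨r, rfl⟩ := hx
    rw [add_smul, mul_smul, hk, smul_zero, hn y hy, add_zero]

theorem torsionSub_empty (M : Type u) [AddCommGroup M] [Module R M] :
    DRing.torsionSub (Ideal.span (∅ : Set R)) M = ⊤ := by
  rw [eq_top_iff]
  intro m _
  refine ⟨1, fun a ha => ?_⟩
  rw [pow_one, Ideal.span_empty] at ha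
  rw [(Ideal.mem_bot.mp ha), zero_smul]

/-- Induction step: an embedding of `H^0(K)` in `M` induces an embedding of `H^0` of the cocone of
`K → K_g`, whose image is the `g`-power torsion of the former image. -/
theorem exists_H0_embedding_step (M : ModuleCat.{u} R) (K : DRing.Cx R) (g : R)
    (hneg : IsZero (K.homology (0 - 1))) (ι : K.homology 0 →ₗ[R] M) (hinj : Function.Injective ι) :
    ∃ ι' : (CochainComplex.mappingCocone (DerCA.locCxUnit (Submonoid.powers g) K)).homology 0 →ₗ[R] M,
      Function.Injective ι' ∧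
        ∀ m : M, m ∈ LinearMap.range ι' ↔ m ∈ LinearMap.range ι ∧ ∃ n : ℕ, g ^ n • m = 0 := by
  obtain ⟨δ, -, ex1, ex2⟩ := cocone_seq K g 0
  have hloc : ∀ j, IsLocalizedModule (Submonoid.powers g)
      (HomologicalComplex.homologyMap (DerCA.locCxUnit (Submonoid.powers g) K) j).hom :=
    fun j => Groth.Agent.H46.isLocalizedModule_homologyMap_locCxUnit _ K j
  -- `H^{-1}(K_g) = 0`
  have hsub : Subsingleton (((DerCA.locCx (Submonoid.powers g)).obj K).homology (0 - 1)) := by
    haveI : Subsingleton (K.homology (0 - 1)) := ModuleCat.subsingleton_of_isZero hneg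
    haveI := hloc (0 - 1)
    exact subsingleton_of_isLocalizedModule (Submonoid.powers g)
      (HomologicalComplex.homologyMap (DerCA.locCxUnit (Submonoid.powers g) K) (0 - 1)).hom
  have hπinj : Function.Injective (HomologicalComplex.homologyMap (CochainComplex.mappingCocone.fst
      (DerCA.locCxUnit (Submonoid.powers g) K)) 0).hom := by
    rw [injective_iff_map_eq_zero]
    intro x hx
    obtain ⟨z, rfl⟩ := (ex1 x).mp hx
    rw [Subsingleton.elim z 0, map_zero]
  refine ⟨ι ∘ₗ (HomologicalComplex.homologyMap (CochainComplex.mappingCocone.fst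
      (DerCA.locCxUnit (Submonoid.powers g) K)) 0).hom, ?_, ?_⟩
  · rw [LinearMap.coe_comp]
    exact hinj.comp hπinj
  intro m
  constructor
  · rintro ⟨x, rfl⟩
    rw [LinearMap.comp_apply]
    refine ⟨⟨_, rfl⟩, ?_⟩
    have h0 := (ex2 _).mpr ⟨x, rfl⟩
    haveI := hloc 0
    obtain ⟨c, hc⟩ := (IsLocalizedModule.eq_zero_iff (Submonoid.powers g)
      (HomologicalComplex.homologyMap (DerCA.locCxUnit (Submonoid.powers g) K) 0).hom).mp h0
    obtain ⟨n, hn⟩ := c.2
    refine ⟨n, ?_⟩
    have hn' : g ^ n = (c : R) := hn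
    rw [← map_smul, hn']
    erw [hc]
    rw [map_zero]
  · rintro ⟨⟨y, rfl⟩, n, hn⟩
    have h1 : g ^ n • y = 0 := by
      apply hinj
      rw [map_smul, hn, map_zero]
    haveI := hloc 0
    have h0 : (HomologicalComplex.homologyMap (DerCA.locCxUnit (Submonoid.powers g) K) 0).hom y = 0 :=
      (IsLocalizedModule.eq_zero_iff (Submonoid.powers g)
        (HomologicalComplex.homologyMap (DerCA.locCxUnit (Submonoid.powers g) K) 0).hom).mpr
          ⟨⟨g ^ n, n, rfl⟩, h1⟩
    obtain ⟨x, hx⟩ := (ex2 y).mp h0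
    exact ⟨x, by rw [LinearMap.comp_apply, hx]⟩

/-- `H^0` of the extended Čech complex embeds in `M` with image `Γ_I(M)`. -/
theorem exists_H0_embedding (M : ModuleCat.{u} R) :
    ∀ fs : List R, ∃ ι : (DerCA.extCech M fs).homology 0 →ₗ[R] M,
      Function.Injective ι ∧
        LinearMap.range ι = DRing.torsionSub (Ideal.span {x | x ∈ fs}) M := by
  intro fs
  induction fs with
  | nil =>
    refine ⟨(HomologicalComplex.singleObjHomologySelfIso (ComplexShape.up ℤ) 0 M).hom.hom, ?_, ?_⟩
    · exact ((ConcreteCategory.isIso_iff_bijective _).mp inferInstance).1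
    · have h2 : {x : R | x ∈ ([] : List R)} = ∅ := by ext; simp
      rw [h2, torsionSub_empty]
      exact LinearMap.range_eq_top.mpr ((ConcreteCategory.isIso_iff_bijective _).mp inferInstance).2
  | cons g fs ih =>
    obtain ⟨ι, hinj, hrange⟩ := ih
    obtain ⟨ι', hinj', hrange'⟩ := exists_H0_embedding_step M (DerCA.extCech M fs) g
      (Groth.Agent.S9264.result R fs M (0 - 1) (Or.inl (by norm_num))) ι hinj
    refine ⟨ι', hinj', ?_⟩
    have hset : {x : R | x ∈ g :: fs} = insert g {x | x ∈ fs} := by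
      ext x; simp
    rw [hset]
    ext m
    rw [mem_torsionSub_insert_iff, ← hrange]
    exact hrange' m

/-- `H^0` of the extended Čech complex is `Γ_I(M)`. -/
theorem nonempty_H0_iso (M : ModuleCat.{u} R) (fs : List R) :
    Nonempty ((DerCA.extCech M fs).homology 0 ≅
      (DRing.gammaI (Ideal.span {x | x ∈ fs})).obj M) := by
  obtain ⟨ι, hinj, hrange⟩ := exists_H0_embedding M fs
  let e1 : (DerCA.extCech M fs).homology 0 ≃ₗ[R] LinearMap.range ι :=
    LinearEquiv.ofInjective ι hinj
  let e2 : LinearMap.range ι ≃ₗ[R] DRing.torsionSub (Ideal.span {x | x ∈ fs}) M :=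
    LinearEquiv.ofEq _ _ hrange
  exact ⟨(e1.trans e2).toModuleIso⟩

end Groth.Agent.H88
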