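import Mathlib
import Groth.Prelude.Def_DerCA
import Groth.Prelude.Def_DRing3
import Groth.Agent.H46.LocCxHomology
import Groth.Agent.H88.ExtCechSeq
import Groth.Agent.H88.ExtCechH0
import Groth.Agent.H88.ExtCechFunctor
import Groth.Agent.S9264

/-!
# `H^0` of the extended Čech complex is `Γ_I`, naturally in the module
-/

namespace Groth.Agent.H88

open CategoryTheory Limits Pretriangulated CochainComplex

universe u

variable {R : Type u} [CommRing R]

/-- Induction step with the explicit formula `ι' = ι ∘ π`. -/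
theorem H0_embedding_step_explicit (M : ModuleCat.{u} R) (K : DRing.Cx R) (g : R)
    (hneg : IsZero (K.homology (0 - 1))) (ι : K.homology 0 →ₗ[R] M) (hinj : Function.Injective ι) :
    Function.Injective (ι ∘ₗ (HomologicalComplex.homologyMap (CochainComplex.mappingCocone.fst
      (DerCA.locCxUnit (Submonoid.powers g) K)) 0).hom) ∧
      ∀ m : M, m ∈ LinearMap.range (ι ∘ₗ (HomologicalComplex.homologyMap
        (CochainComplex.mappingCocone.fst (DerCA.locCxUnit (Submonoid.powers g) K)) 0).hom) ↔
          m ∈ LinearMap.range ι ∧ ∃ n : ℕ, g ^ n • m = 0 := by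
  obtain ⟨δ, -, ex1, ex2⟩ := cocone_seq K g 0
  have hloc : ∀ j, IsLocalizedModule (Submonoid.powers g)
      (HomologicalComplex.homologyMap (DerCA.locCxUnit (Submonoid.powers g) K) j).hom :=
    fun j => Groth.Agent.H46.isLocalizedModule_homologyMap_locCxUnit _ K j
  have hsub : Subsingleton (((DerCA.locCx (Submonoid.powers g)).obj K).homology (0 - 1)) := by
    haveI : Subsingleton (K.homology (0 - 1)) := ModuleCat.subsingleton_of_isZero hneg
    haveI := hloc (0 - 1)
    exact subsingleton_of_isLocalizedModule (Submonoid.powers g)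
      (HomologicalComplex.homologyMap (DerCA.locCxUnit (Submonoid.powers g) K) (0 - 1)).hom
  have hπinj : Function.Injective (HomologicalComplex.homologyMap (CochainComplex.mappingCocone.fst
      (DerCA.locCxUnit (Submonoid.powers g) K)) 0).hom := by
    rw [injective_iff_map_eq_zero]
    intro x hx
    obtain ⟨z, rfl⟩ := (ex1 x).mp hx
    rw [Subsingleton.elim z 0, map_zero]
  refine ⟨?_, ?_⟩
  · rw [LinearMap.coe_comp]
    exact hinj.comp hπinj
  intro m
  constructor
  · rintro ⟨x, rfl⟩
    rw [LinearMap.comp_apply]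
    refine ⟨⟨_, rfl⟩, ?_⟩
    have h0 := (ex2 _).mpr ⟨x, rfl⟩
    haveI := hloc 0
    obtain ⟨c, hc⟩ := (IsLocalizedModule.eq_zero_iff (Submonoid.powers g)
      (HomologicalComplex.homologyMap (DerCA.locCxUnit (Submonoid.powers g) K) 0).hom).mp h0
    obtain ⟨n, hn⟩ := c.2
    refine ⟨n, ?_⟩
    have hn' : g ^ n = (c : R) := hn
    rw [← map_smul, hn']
    erw [hc]
    rw [map_zero]
  · rintro ⟨⟨y, rfl⟩, n, hn⟩
    have h1 : g ^ n • y = 0 := by
      apply hinj
      rw [map_smul, hn, map_zero]
    haveI := hloc 0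
    have h0 : (HomologicalComplex.homologyMap (DerCA.locCxUnit (Submonoid.powers g) K) 0).hom y = 0 :=
      (IsLocalizedModule.eq_zero_iff (Submonoid.powers g)
        (HomologicalComplex.homologyMap (DerCA.locCxUnit (Submonoid.powers g) K) 0).hom).mpr
          ⟨⟨g ^ n, n, rfl⟩, h1⟩
    obtain ⟨x, hx⟩ := (ex2 y).mp h0
    exact ⟨x, by rw [LinearMap.comp_apply, hx]⟩

/-- `H^0` of the extended Čech complex embeds in `M` with image `Γ_I(M)`, naturally in `M`. -/
theorem exists_H0_embedding_nat (fs : List R) :
    ∃ ι : ∀ M : ModuleCat.{u} R, (DerCA.extCech M fs).homology 0 →ₗ[R] M,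
      (∀ M : ModuleCat.{u} R, Function.Injective (ι M) ∧
        LinearMap.range (ι M) = DRing.torsionSub (Ideal.span {x | x ∈ fs}) M) ∧
      ∀ (M N : ModuleCat.{u} R) (f : M ⟶ N) (x : (DerCA.extCech M fs).homology 0),
        ι N ((HomologicalComplex.homologyMap (extCechMap f fs) 0).hom x) = f.hom (ι M x) := by
  induction fs with
  | nil =>
    refine ⟨fun M => (HomologicalComplex.singleObjHomologySelfIso (ComplexShape.up ℤ) 0 M).hom.hom,
      fun M => ⟨?_, ?_⟩, ?_⟩
    · exact ((ConcreteCategory.isIso_iff_bijective _).mp inferInstance).1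
    · have h2 : {x : R | x ∈ ([] : List R)} = ∅ := by ext; simp
      rw [h2, torsionSub_empty]
      exact LinearMap.range_eq_top.mpr ((ConcreteCategory.isIso_iff_bijective _).mp inferInstance).2
    · intro M N f x
      have h := HomologicalComplex.singleObjHomologySelfIso_hom_naturality (ComplexShape.up ℤ) 0 f
      exact congrArg (fun m => m.hom x) h
  | cons g fs ih =>
    obtain ⟨ι, hι, hnat⟩ := ih
    refine ⟨fun M => ι M ∘ₗ (HomologicalComplex.homologyMap (CochainComplex.mappingCocone.fst
      (DerCA.locCxUnit (Submonoid.powers g) (DerCA.extCech M fs))) 0).hom, fun M => ?_, ?_⟩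
    · obtain ⟨hinj', hrange'⟩ := H0_embedding_step_explicit M (DerCA.extCech M fs) g
        (Groth.Agent.S9264.result R fs M (0 - 1) (Or.inl (by norm_num))) (ι M) (hι M).1
      refine ⟨hinj', ?_⟩
      have hset : {x : R | x ∈ g :: fs} = insert g {x | x ∈ fs} := by
        ext x; simp
      rw [hset]
      ext m
      rw [mem_torsionSub_insert_iff, ← (hι M).2]
      exact hrange' m
    · intro M N f x
      rw [LinearMap.comp_apply, LinearMap.comp_apply, ← hnat M N f]
      congr 1
      exact homologyMap_coconeMap_fst_apply _ _ _ _ _ 0 x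

end Groth.Agent.H88
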