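import Mathlib
import Groth.Prelude.Def_DerCA
import Groth.Prelude.Def_DRing3
import Groth.Agent.H46.LocCxHomology
import Groth.Agent.H88.ExtCechSeq
import Groth.Agent.H88.ExtCechH0
import Groth.Agent.H88.InjTorsion
import Groth.Agent.S9264

/-!
# The extended Čech complex of an injective module over a Noetherian ring is acyclic in positive degrees
-/

namespace Groth.Agent.H88

open CategoryTheory Limits Pretriangulated

universe u

variable {R : Type u} [CommRing R]

theorem isZero_extCechH_pos_of_injective [IsNoetherianRing R] (E : Type u) [AddCommGroup E]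
    [Module R E] [Module.Injective R E] :
    ∀ (fs : List R) (q : ℤ), 1 ≤ q → IsZero (DerCA.extCechH fs (ModuleCat.of R E) q) := by
  intro fs
  induction fs with
  | nil =>
    intro q hq
    exact Groth.Agent.S9264.result R [] (ModuleCat.of R E) q (Or.inr (by simp; omega))
  | cons g fs ih =>
    intro q hq
    obtain ⟨δ, ex3, ex1, -⟩ := cocone_seq (DerCA.extCech (ModuleCat.of R E) fs) g q
    have hloc : ∀ j, IsLocalizedModule (Submonoid.powers g)
        (HomologicalComplex.homologyMap (DerCA.locCxUnit (Submonoid.powers g)
          (DerCA.extCech (ModuleCat.of R E) fs)) j).hom :=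
      fun j => Groth.Agent.H46.isLocalizedModule_homologyMap_locCxUnit _ _ j
    change IsZero ((CochainComplex.mappingCocone (DerCA.locCxUnit (Submonoid.powers g)
      (DerCA.extCech (ModuleCat.of R E) fs))).homology q)
    haveI hKq : Subsingleton ((DerCA.extCech (ModuleCat.of R E) fs).homology q) :=
      ModuleCat.subsingleton_of_isZero (ih q hq)
    -- it suffices that `δ = 0`
    suffices hδ : ∀ z, δ.hom z = 0 by
      haveI : Subsingleton ((CochainComplex.mappingCocone (DerCA.locCxUnit (Submonoid.powers g)
          (DerCA.extCech (ModuleCat.of R E) fs))).homology q) := by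
        refine ⟨fun a b => ?_⟩
        have h0 : ∀ x : (CochainComplex.mappingCocone (DerCA.locCxUnit (Submonoid.powers g)
            (DerCA.extCech (ModuleCat.of R E) fs))).homology q, x = 0 := by
          intro x
          obtain ⟨z, rfl⟩ := (ex1 x).mp (Subsingleton.elim _ _)
          exact hδ z
        rw [h0 a, h0 b]
      exact ModuleCat.isZero_of_subsingleton _
    intro z
    rw [ex3 z]
    -- surjectivity of `H^{q-1}(K) → H^{q-1}(K_g)`
    rcases (le_iff_eq_or_lt.mp hq) with hq1 | hq2
    · -- `q = 1`
      subst hq1
      haveI := hloc (1 - 1)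
      refine surjective_of_isLocalizedModule_powers g _ ?_ z
      intro y n
      -- transport to `Γ_I(E)`
      have e10 : (1 : ℤ) - 1 = 0 := by norm_num
      obtain ⟨ι, hinj, hrange⟩ := exists_H0_embedding (ModuleCat.of R E) fs
      have key : ∀ (j : ℤ) (hj : j = 0)
          (y : (DerCA.extCech (ModuleCat.of R E) fs).homology j) (n : ℕ),
          ∃ (y' : (DerCA.extCech (ModuleCat.of R E) fs).homology j) (k : ℕ),
            g ^ (k + n) • y' = g ^ k • y := by
        intro j hj
        subst hj
        intro y n
        haveI : Module.Injective R (DRing.torsionSub (Ideal.span {x | x ∈ fs}) E) :=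
          (baer_torsionSub (Ideal.span {x | x ∈ fs}) E).injective
        have hy : ι y ∈ DRing.torsionSub (Ideal.span {x | x ∈ fs}) E := by
          rw [← hrange]; exact ⟨y, rfl⟩
        obtain ⟨y', k, hk⟩ := exists_pow_smul_eq_of_injective
          (DRing.torsionSub (Ideal.span {x | x ∈ fs}) E) g ⟨ι y, hy⟩ n
        have hy' : (y' : E) ∈ LinearMap.range ι := by rw [hrange]; exact y'.2
        obtain ⟨w, hw⟩ := hy'
        refine ⟨w, k, hinj ?_⟩
        rw [map_smul, map_smul, hw]
        exact congrArg Subtype.val hk
      exact key (1 - 1) e10 y n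
    · -- `q ≥ 2`
      haveI : Subsingleton ((DerCA.extCech (ModuleCat.of R E) fs).homology (q - 1)) :=
        ModuleCat.subsingleton_of_isZero (ih (q - 1) (by omega))
      haveI := hloc (q - 1)
      haveI := subsingleton_of_isLocalizedModule (Submonoid.powers g)
        (HomologicalComplex.homologyMap (DerCA.locCxUnit (Submonoid.powers g)
          (DerCA.extCech (ModuleCat.of R E) fs)) (q - 1)).hom
      exact ⟨0, Subsingleton.elim _ _⟩

end Groth.Agent.H88
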