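import Mathlib
import Groth.Prelude.Def_DerCA
import Groth.Prelude.Def_DRing3
import Groth.Agent.H58.LCLes
import Groth.Agent.H58.LCGamma
import Groth.Agent.H2.LCInjective
import Groth.Agent.H88.ExtCechFunctor
import Groth.Agent.H88.ExtCechH0Nat
import Groth.Agent.H88.ExtCechInj

/-!
# The cohomology of the extended Čech complex is local cohomology (Noetherian rings)
-/

namespace Groth.Agent.H88

open CategoryTheory Limits

universe u

variable {R : Type u} [CommRing R]

/-- Two surjections with matching kernels (under an equivalence of the sources) have isomorphic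
targets. -/
theorem nonempty_equiv_of_surjective_of_ker {A A' B B' : Type*} [AddCommGroup A] [AddCommGroup A']
    [AddCommGroup B] [AddCommGroup B'] [Module R A] [Module R A'] [Module R B] [Module R B']
    (d : A →ₗ[R] B) (d' : A' →ₗ[R] B') (hd : Function.Surjective d) (hd' : Function.Surjective d')
    (θ : A ≃ₗ[R] A') (h : ∀ x, d x = 0 ↔ d' (θ x) = 0) : Nonempty (B ≃ₗ[R] B') := by
  have hmap : (LinearMap.ker d).map (θ : A →ₗ[R] A') = LinearMap.ker d' := by
    ext y
    constructor
    · rintro ⟨x, hx, rfl⟩
      exact (h x).mp hx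
    · intro hy
      refine ⟨θ.symm y, ?_, by simp⟩
      rw [SetLike.mem_coe, LinearMap.mem_ker, h]
      simpa using hy
  exact ⟨(d.quotKerEquivOfSurjective hd).symm.trans
    ((Submodule.Quotient.equiv _ _ θ hmap).trans (d'.quotKerEquivOfSurjective hd'))⟩

/-- The canonical short exact sequence `0 → M → E → E/M → 0` with `E` injective. -/
noncomputable def injSES (M : ModuleCat.{u} R) : ShortComplex (ModuleCat.{u} R) :=
  ShortComplex.mk (Injective.ι M) (cokernel.π (Injective.ι M)) (cokernel.condition _)

theorem injSES_shortExact (M : ModuleCat.{u} R) : (injSES M).ShortExact :=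
  { exact := ShortComplex.exact_cokernel _
    mono_f := by dsimp [injSES]; infer_instance
    epi_g := by dsimp [injSES]; infer_instance }

instance (M : ModuleCat.{u} R) : Injective (injSES M).X₂ := by
  dsimp [injSES]; infer_instance

variable [IsNoetherianRing R]

open Groth.Agent.H58.LC in
/-- The natural isomorphism in degree `0`. -/
theorem exists_theta (fs : List R) :
    ∃ θ : ∀ M : ModuleCat.{u} R, (DerCA.extCech M fs).homology 0 ≃ₗ[R]
        (localCohomology (Ideal.span {x | x ∈ fs}) 0).obj M,
      ∀ (M N : ModuleCat.{u} R) (f : M ⟶ N) (x : (DerCA.extCech M fs).homology 0),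
        θ N ((HomologicalComplex.homologyMap (extCechMap f fs) 0).hom x) =
          ((localCohomology (Ideal.span {x | x ∈ fs}) 0).map f).hom (θ M x) := by
  obtain ⟨ι, hι, hnat⟩ := exists_H0_embedding_nat (R := R) fs
  let e1 : ∀ M : ModuleCat.{u} R, (DerCA.extCech M fs).homology 0 ≃ₗ[R]
      DRing.torsionSub (Ideal.span {x | x ∈ fs}) M := fun M =>
    (LinearEquiv.ofInjective (ι M) (hι M).1).trans (LinearEquiv.ofEq _ _ (hι M).2)
  have he1 : ∀ (M : ModuleCat.{u} R) (x : (DerCA.extCech M fs).homology 0),
      ((e1 M x : DRing.torsionSub (Ideal.span {x | x ∈ fs}) M) : M) = ι M x :=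
    fun M x => rfl
  refine ⟨fun M => (e1 M).trans (H0equiv (Ideal.span {x | x ∈ fs}) M).symm, ?_⟩
  intro M N f x
  apply (H0equiv (Ideal.span {x | x ∈ fs}) N).injective
  apply Subtype.ext
  rw [H0equiv_map]
  simp only [LinearEquiv.trans_apply, LinearEquiv.apply_symm_apply]
  rw [he1, he1, hnat]

open Groth.Agent.H58.LC Groth.Agent.H2.LCInjective in
theorem nonempty_extCechH_equiv_localCohomology (fs : List R) :
    ∀ (i : ℕ) (M : ModuleCat.{u} R), Nonempty ((DerCA.extCech M fs).homology (i : ℤ) ≃ₗ[R]
      (localCohomology (Ideal.span {x | x ∈ fs}) i).obj M) := by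
  obtain ⟨θ, hθ⟩ := exists_theta (R := R) fs
  -- vanishing of Čech cohomology of the injective middle term
  have hvan : ∀ (M : ModuleCat.{u} R) (q : ℤ), 1 ≤ q →
      IsZero ((DerCA.extCech (injSES M).X₂ fs).homology q) := by
    intro M q hq
    have hinj : Injective (injSES M).X₂ := inferInstance
    haveI : Module.Injective R ((injSES M).X₂ : Type u) :=
      Module.injective_module_of_injective_object R ((injSES M).X₂ : Type u) (inj := hinj)
    exact isZero_extCechH_pos_of_injective ((injSES M).X₂ : Type u) fs q hq
  intro i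
  induction i using Nat.twoStepInduction with
  | zero => intro M; exact ⟨θ M⟩
  | one =>
    intro M
    have hS := injSES_shortExact M
    have hSc := extCechSC_shortExact hS fs
    -- Čech side
    let dT := hSc.δ 0 1 rfl
    have ex1 : Function.Exact dT.hom
        (HomologicalComplex.homologyMap (extCechMap (injSES M).f fs) 1).hom :=
      (ShortComplex.ShortExact.moduleCat_exact_iff_function_exact _).mp
        (hSc.homology_exact₁ 0 1 rfl)
    have ex3 : Function.Exact
        (HomologicalComplex.homologyMap (extCechMap (injSES M).g fs) 0).hom dT.hom :=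
      (ShortComplex.ShortExact.moduleCat_exact_iff_function_exact _).mp
        (hSc.homology_exact₃ 0 1 rfl)
    have hdT : Function.Surjective dT.hom := by
      intro y
      haveI : Subsingleton ((DerCA.extCech (injSES M).X₂ fs).homology 1) :=
        ModuleCat.subsingleton_of_isZero (hvan M 1 le_rfl)
      exact (ex1 y).mp (Subsingleton.elim _ _)
    have hdH : Function.Surjective (δ (Ideal.span {x | x ∈ fs}) 0 hS) :=
      δ_zero_surjective (Ideal.span {x | x ∈ fs}) hS
    refine nonempty_equiv_of_surjective_of_ker (R := R) dT.hom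
      (δ (Ideal.span {x | x ∈ fs}) 0 hS) hdT hdH (θ (injSES M).X₃) ?_
    intro x
    constructor
    · intro hx
      obtain ⟨y, rfl⟩ := (ex3 x).mp hx
      have := hθ _ _ (injSES M).g y
      erw [this]
      exact δ_map_g _ _ hS _
    · intro hx
      obtain ⟨y, hy⟩ := exact₃ _ 0 hS _ hx
      have h1 : x = (HomologicalComplex.homologyMap (extCechMap (injSES M).g fs) 0).hom
          ((θ (injSES M).X₂).symm y) := by
        apply (θ (injSES M).X₃).injective
        rw [hθ, LinearEquiv.apply_symm_apply]
        exact hy.symm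
      rw [h1]
      exact (ex3 _).mpr ⟨_, rfl⟩
  | more i _ ih =>
    intro M
    have hS := injSES_shortExact M
    have hSc := extCechSC_shortExact hS fs
    obtain ⟨e⟩ := ih (injSES M).X₃
    have e1 : (DerCA.extCech (injSES M).X₃ fs).homology ((i + 1 : ℕ) : ℤ) ≅
        (DerCA.extCech (injSES M).X₁ fs).homology ((i + 1 + 1 : ℕ) : ℤ) :=
      hSc.δIso _ _ (by simp) (hvan M _ (by push_cast; omega)) (hvan M _ (by push_cast; omega))
    exact ⟨e1.symm.toLinearEquiv.trans (e.trans (δEquiv (Ideal.span {x | x ∈ fs}) hS i))⟩

end Groth.Agent.H88
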