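import Mathlib
import Groth.Agent.H88.ConeExact
import Groth.Agent.H88.ExtCechFunctor

/-!
# Uniqueness of cohomological functors "with supports in `V(f_1, …, f_r)`"

Two families of functors `𝒯^p` on `A`-modules which have long exact sequences (in the weak form
below), agree with `Γ_{(f)}` in degree `0`, vanish in positive degrees on `(f)`-power torsion
modules and vanish in all degrees on modules on which some `f_i` acts bijectively, take isomorphic
values.  No naturality is required.
-/

namespace Groth.Agent.H88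

open CategoryTheory Limits

universe u

variable {A : Type u} [CommRing A]

/-- The submodule of elements killed by a power of each element of the list. -/
def gammaList (fs : List A) (M : Type u) [AddCommGroup M] [Module A M] : Submodule A M where
  carrier := {m | ∀ f ∈ fs, ∃ n : ℕ, f ^ n • m = 0}
  zero_mem' := fun f _ => ⟨0, smul_zero _⟩
  add_mem' := by
    intro m m' hm hm' f hf
    obtain ⟨n, hn⟩ := hm f hf
    obtain ⟨n', hn'⟩ := hm' f hf
    refine ⟨n + n', ?_⟩
    rw [smul_add, pow_add, mul_smul, mul_smul, hn', smul_zero, smul_comm, hn, smul_zero, add_zero]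
  smul_mem' := by
    intro c m hm f hf
    obtain ⟨n, hn⟩ := hm f hf
    exact ⟨n, by rw [smul_comm, hn, smul_zero]⟩

theorem mem_gammaList {fs : List A} {M : Type u} [AddCommGroup M] [Module A M] {m : M} :
    m ∈ gammaList fs M ↔ ∀ f ∈ fs, ∃ n : ℕ, f ^ n • m = 0 := Iff.rfl

/-- The hypotheses on a family of functors. -/
structure IsSuppCohFamily (fs : List A) (T : ℕ → ModuleCat.{u} A → Type u)
    [∀ p M, AddCommGroup (T p M)] : Prop where
  zero : ∀ M : ModuleCat.{u} A, Nonempty (T 0 M ≃+ gammaList fs M)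
  torsion : ∀ K : ModuleCat.{u} A, (∀ k : K, k ∈ gammaList fs K) → ∀ p : ℕ, 1 ≤ p →
    Subsingleton (T p K)
  bij : ∀ (P : ModuleCat.{u} A) (f : A), f ∈ fs → Function.Bijective (fun x : P => f • x) →
    ∀ p : ℕ, Subsingleton (T p P)
  mid : ∀ (S : ShortComplex (ModuleCat.{u} A)), S.ShortExact → ∀ p : ℕ,
    Subsingleton (T p S.X₁) → Subsingleton (T p S.X₃) → Subsingleton (T p S.X₂)
  iso₂₃ : ∀ (S : ShortComplex (ModuleCat.{u} A)), S.ShortExact → ∀ p : ℕ,
    Subsingleton (T p S.X₁) → Subsingleton (T (p + 1) S.X₁) → Nonempty (T p S.X₂ ≃+ T p S.X₃)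
  iso₃₁ : ∀ (S : ShortComplex (ModuleCat.{u} A)), S.ShortExact → ∀ p : ℕ,
    Subsingleton (T p S.X₂) → Subsingleton (T (p + 1) S.X₂) → Nonempty (T p S.X₃ ≃+ T (p + 1) S.X₁)

section construction

variable (fs : List A) (M : ModuleCat.{u} A)

/-- `M / Γ_{(f)}(M)` -/
noncomputable abbrev mbar : ModuleCat.{u} A := ModuleCat.of A ((M : Type u) ⧸ gammaList fs M)

/-- `0 → Γ(M) → M → M/Γ(M) → 0` -/
noncomputable def torsionSES : ShortComplex (ModuleCat.{u} A) :=
  ShortComplex.mk (ModuleCat.ofHom (gammaList fs M).subtype)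
    (ModuleCat.ofHom (gammaList fs M).mkQ : M ⟶ mbar fs M) (by
      ext x
      exact (Submodule.Quotient.mk_eq_zero _).mpr x.2)

theorem torsionSES_shortExact : (torsionSES fs M).ShortExact := by
  apply shortExact_of_ex3
  refine ⟨Subtype.val_injective, ?_, Submodule.mkQ_surjective _⟩
  intro x
  change (gammaList fs M).mkQ x = 0 ↔ x ∈ Set.range (gammaList fs M).subtype
  rw [Submodule.mkQ_apply, Submodule.Quotient.mk_eq_zero]
  constructor
  · intro hx
    exact ⟨⟨x, hx⟩, rfl⟩
  · rintro ⟨y, rfl⟩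
    exact y.2

theorem gammaList_mbar_eq_bot (x : mbar fs M) (hx : x ∈ gammaList fs (mbar fs M)) : x = 0 := by
  obtain ⟨m, rfl⟩ := Submodule.mkQ_surjective _ x
  rw [Submodule.mkQ_apply, Submodule.Quotient.mk_eq_zero]
  intro f hf
  obtain ⟨n, hn⟩ := hx f hf
  rw [Submodule.mkQ_apply, ← Submodule.Quotient.mk_smul, Submodule.Quotient.mk_eq_zero] at hn
  obtain ⟨n', hn'⟩ := hn f hf
  exact ⟨n' + n, by rw [pow_add, mul_smul, hn']⟩

/-- The product of the localisations of `N` at the elements of a list. -/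
noncomputable def locProd (N : ModuleCat.{u} A) : List A → ModuleCat.{u} A
  | [] => ModuleCat.of A PUnit.{u + 1}
  | f :: l => ModuleCat.of A (LocalizedModule (Submonoid.powers f) N × locProd N l)

/-- The diagonal map into the product of localisations. -/
noncomputable def toLocProd (N : ModuleCat.{u} A) : ∀ l : List A, N ⟶ locProd N l
  | [] => 0
  | f :: l => ModuleCat.ofHom
      (LinearMap.prod (LocalizedModule.mkLinearMap (Submonoid.powers f) N) (toLocProd N l).hom)

theorem toLocProd_eq_zero_iff (N : ModuleCat.{u} A) : ∀ (l : List A) (x : N),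
    (toLocProd N l).hom x = 0 ↔ x ∈ gammaList l N
  | [], x => by
    constructor
    · intro _ f hf
      simp at hf
    · intro _
      rfl
  | f :: l, x => by
    have ih := toLocProd_eq_zero_iff N l x
    change ((LocalizedModule.mkLinearMap (Submonoid.powers f) N x, (toLocProd N l).hom x) :
      LocalizedModule (Submonoid.powers f) N × locProd N l) = 0 ↔ _
    rw [Prod.mk_eq_zero, ih, mem_gammaList, mem_gammaList,
      IsLocalizedModule.eq_zero_iff (Submonoid.powers f)]
    constructor
    · rintro ⟨⟨c, hc⟩, h2⟩ g hg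
      rcases List.mem_cons.mp hg with rfl | hg
      · obtain ⟨n, hn⟩ := c.2
        have hn' : g ^ n = (c : A) := hn
        exact ⟨n, by rw [hn']; exact hc⟩
      · exact h2 g hg
    · intro h
      refine ⟨?_, fun g hg => h g (List.mem_cons_of_mem _ hg)⟩
      obtain ⟨n, hn⟩ := h f List.mem_cons_self
      exact ⟨⟨f ^ n, n, rfl⟩, hn⟩

/-- The cokernel of the diagonal map. -/
noncomputable abbrev locCoker (N : ModuleCat.{u} A) (l : List A) : ModuleCat.{u} A :=
  ModuleCat.of A ((locProd N l : Type u) ⧸ LinearMap.range (toLocProd N l).hom)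

/-- `N → ∏ N_f → coker` -/
noncomputable def locSES (N : ModuleCat.{u} A) (l : List A) : ShortComplex (ModuleCat.{u} A) :=
  ShortComplex.mk (toLocProd N l)
    (ModuleCat.ofHom (LinearMap.range (toLocProd N l).hom).mkQ : locProd N l ⟶ locCoker N l) (by
      ext x
      exact (Submodule.Quotient.mk_eq_zero _).mpr ⟨x, rfl⟩)

theorem locSES_shortExact (N : ModuleCat.{u} A) (l : List A)
    (h : ∀ x : N, x ∈ gammaList l N → x = 0) : (locSES N l).ShortExact := by
  apply shortExact_of_ex3
  refine ⟨?_, ?_, Submodule.mkQ_surjective _⟩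
  · rw [injective_iff_map_eq_zero]
    intro x hx
    exact h x ((toLocProd_eq_zero_iff N l x).mp hx)
  · intro x
    change (LinearMap.range (toLocProd N l).hom).mkQ x = 0 ↔ x ∈ Set.range (toLocProd N l).hom
    rw [Submodule.mkQ_apply, Submodule.Quotient.mk_eq_zero]
    rfl

/-- `0 → N_f → N_f × P → P → 0` -/
noncomputable def prodSES (Q P : ModuleCat.{u} A) : ShortComplex (ModuleCat.{u} A) :=
  ShortComplex.mk (ModuleCat.ofHom (LinearMap.inl A Q P) : Q ⟶ ModuleCat.of A (Q × P))
    (ModuleCat.ofHom (LinearMap.snd A Q P) : ModuleCat.of A (Q × P) ⟶ P) (by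
      ext x
      rfl)

theorem prodSES_shortExact (Q P : ModuleCat.{u} A) : (prodSES Q P).ShortExact := by
  apply shortExact_of_ex3
  have h : Ex3 (LinearMap.inl A Q P) (LinearMap.snd A Q P) := by
    refine ⟨LinearMap.inl_injective, ?_, LinearMap.snd_surjective⟩
    intro x
    constructor
    · intro hx
      exact ⟨x.1, Prod.ext rfl (Eq.symm hx)⟩
    · rintro ⟨y, rfl⟩
      rfl
  exact h

end construction

namespace IsSuppCohFamily

variable {fs : List A} {T : ℕ → ModuleCat.{u} A → Type u} [∀ p M, AddCommGroup (T p M)]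
  (hT : IsSuppCohFamily fs T)

include hT

theorem subsingleton_of_subsingleton (Z : ModuleCat.{u} A) [Subsingleton Z] (p : ℕ) :
    Subsingleton (T p Z) := by
  rcases Nat.eq_zero_or_pos p with rfl | hp
  · obtain ⟨e⟩ := hT.zero Z
    exact e.toEquiv.subsingleton
  · exact hT.torsion Z (fun k => by rw [Subsingleton.elim k 0]; exact Submodule.zero_mem _) p hp

theorem subsingleton_locProd (N : ModuleCat.{u} A) : ∀ (l : List A), (∀ f ∈ l, f ∈ fs) →
    ∀ p : ℕ, Subsingleton (T p (locProd N l))
  | [], _, p => by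
    haveI : Subsingleton (locProd N []) := inferInstanceAs (Subsingleton PUnit)
    exact hT.subsingleton_of_subsingleton _ p
  | f :: l, hl, p => by
    have h1 : Subsingleton (T p (ModuleCat.of A (LocalizedModule (Submonoid.powers f) N))) := by
      refine hT.bij _ f (hl f List.mem_cons_self) ?_ p
      have hu := IsLocalizedModule.map_units
        (LocalizedModule.mkLinearMap (Submonoid.powers f) N)
        (⟨f, 1, pow_one f⟩ : Submonoid.powers f)
      exact (Module.End.isUnit_iff _).mp hu
    have h2 := subsingleton_locProd N l (fun g hg => hl g (List.mem_cons_of_mem _ hg)) p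
    exact hT.mid _ (prodSES_shortExact (ModuleCat.of A (LocalizedModule (Submonoid.powers f) N))
      (locProd N l)) p h1 h2

/-- Dimension shifting: `T^{p+1}(M) ≃ T^p(N_M)`. -/
theorem nonempty_shift (M : ModuleCat.{u} A) (p : ℕ) :
    Nonempty (T (p + 1) M ≃+ T p (locCoker (mbar fs M) fs)) := by
  have hK : ∀ q : ℕ, 1 ≤ q → Subsingleton (T q (torsionSES fs M).X₁) := fun q hq =>
    hT.torsion _ (fun k => by
      intro f hf
      obtain ⟨n, hn⟩ := k.2 f hf
      exact ⟨n, Subtype.ext hn⟩) q hq
  obtain ⟨e1⟩ := hT.iso₂₃ _ (torsionSES_shortExact fs M) (p + 1) (hK _ (by omega))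
    (hK _ (by omega))
  have hS := locSES_shortExact (mbar fs M) fs (gammaList_mbar_eq_bot fs M)
  obtain ⟨e2⟩ := hT.iso₃₁ _ hS p (hT.subsingleton_locProd _ fs (fun _ h => h) p)
    (hT.subsingleton_locProd _ fs (fun _ h => h) (p + 1))
  exact ⟨e1.trans e2.symm⟩

end IsSuppCohFamily

/-- Two families satisfying the hypotheses take isomorphic values. -/
theorem IsSuppCohFamily.nonempty_addEquiv {fs : List A} {T T' : ℕ → ModuleCat.{u} A → Type u}
    [∀ p M, AddCommGroup (T p M)] [∀ p M, AddCommGroup (T' p M)]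
    (hT : IsSuppCohFamily fs T) (hT' : IsSuppCohFamily fs T') :
    ∀ (p : ℕ) (M : ModuleCat.{u} A), Nonempty (T p M ≃+ T' p M)
  | 0, M => by
    obtain ⟨e⟩ := hT.zero M
    obtain ⟨e'⟩ := hT'.zero M
    exact ⟨e.trans e'.symm⟩
  | p + 1, M => by
    obtain ⟨e⟩ := hT.nonempty_shift M p
    obtain ⟨e'⟩ := hT'.nonempty_shift M p
    obtain ⟨e0⟩ := IsSuppCohFamily.nonempty_addEquiv hT hT' p (locCoker (mbar fs M) fs)
    exact ⟨e.trans (e0.trans e'.symm)⟩

end Groth.Agent.H88
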