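import Mathlib
import Groth.Agent.H88.DimShift
import Groth.Agent.H88.ExtCechH0
import Groth.Agent.H88.ExtCechFunctor
import Groth.Agent.H46.ExtCechBij

/-!
# The extended Čech cohomology is a family of cohomological functors with supports
-/

namespace Groth.Agent.H88

open CategoryTheory Limits

universe u

variable {R : Type u} [CommRing R]

theorem torsionSub_span_list_eq_gammaList (fs : List R) (M : Type u) [AddCommGroup M]
    [Module R M] : DRing.torsionSub (Ideal.span {x | x ∈ fs}) M = gammaList fs M := by
  induction fs with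
  | nil =>
    have h2 : {x : R | x ∈ ([] : List R)} = ∅ := by ext; simp
    rw [h2, torsionSub_empty]
    ext m
    simp [mem_gammaList]
  | cons g fs ih =>
    have hset : {x : R | x ∈ g :: fs} = insert g {x | x ∈ fs} := by
      ext x; simp
    rw [hset]
    ext m
    rw [mem_torsionSub_insert_iff, ih, mem_gammaList, mem_gammaList]
    constructor
    · rintro ⟨h1, h2⟩ f hf
      rcases List.mem_cons.mp hf with rfl | hf
      · exact h2
      · exact h1 f hf
    · intro h
      exact ⟨fun f hf => h f (List.mem_cons_of_mem _ hf), h g List.mem_cons_self⟩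

/-- If every element of `M` is killed by an element of `S` then `M_S = 0`. -/
theorem subsingleton_of_isLocalizedModule_of_torsion {M N : Type*} [AddCommGroup M]
    [AddCommGroup N] [Module R M] [Module R N] (S : Submonoid R) (f : M →ₗ[R] N)
    [IsLocalizedModule S f] (h : ∀ m : M, ∃ s : S, s • m = 0) : Subsingleton N := by
  refine ⟨fun a b => ?_⟩
  have h0 : ∀ z : N, z = 0 := by
    intro z
    obtain ⟨⟨w, s⟩, hws⟩ := IsLocalizedModule.surj S f z
    obtain ⟨t, ht⟩ := h w
    have h1 : f w = 0 := (IsLocalizedModule.eq_zero_iff S f).mpr ⟨t, ht⟩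
    have h2 : (s : R) • z = 0 := by
      have : s • z = f w := hws
      rw [h1] at this
      exact this
    exact (IsLocalizedModule.smul_inj f s z 0).mp (by rw [smul_zero]; exact h2)
  rw [h0 a, h0 b]

/-- The extended Čech cohomology of a power-torsion module vanishes in positive degrees. -/
theorem isZero_extCechH_of_torsion (K : ModuleCat.{u} R) :
    ∀ (l : List R), (∀ k : K, k ∈ gammaList l K) → ∀ q : ℤ, 1 ≤ q →
      IsZero ((DerCA.extCech K l).homology q) := by
  intro l
  induction l with
  | nil =>
    intro _ q hq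
    exact Groth.Agent.S9264.result R [] K q (Or.inr (by simp; omega))
  | cons g l ih =>
    intro hK q hq
    have hK' : ∀ k : K, k ∈ gammaList l K := fun k f hf => hK k f (List.mem_cons_of_mem _ hf)
    obtain ⟨δ, ex1, ex2, -⟩ := cocone_seq (DerCA.extCech K l) g q
    have hloc := Groth.Agent.H46.isLocalizedModule_homologyMap_locCxUnit (Submonoid.powers g)
      (DerCA.extCech K l) (q - 1)
    -- `H^{q-1}` of the localised complex vanishes
    have hsub : Subsingleton (((DerCA.locCx (Submonoid.powers g)).obj
        (DerCA.extCech K l)).homology (q - 1)) := by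
      rcases eq_or_lt_of_le hq with h1 | h1
      · -- `q = 1`
        have hq0 : q - 1 = 0 := by omega
        rw [hq0] at hloc ⊢
        obtain ⟨ι, hι, -⟩ := exists_H0_embedding K l
        refine subsingleton_of_isLocalizedModule_of_torsion (Submonoid.powers g)
          (HomologicalComplex.homologyMap
            (DerCA.locCxUnit (Submonoid.powers g) (DerCA.extCech K l)) 0).hom ?_
        intro z
        obtain ⟨n, hn⟩ := hK (ι z) g List.mem_cons_self
        refine ⟨⟨g ^ n, n, rfl⟩, hι ?_⟩
        rw [map_zero]
        change ι (g ^ n • z) = 0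
        rw [map_smul, hn]
      · haveI : Subsingleton ((DerCA.extCech K l).homology (q - 1)) :=
          ModuleCat.subsingleton_of_isZero (ih hK' (q - 1) (by omega))
        exact subsingleton_of_isLocalizedModule (Submonoid.powers g)
          (HomologicalComplex.homologyMap
            (DerCA.locCxUnit (Submonoid.powers g) (DerCA.extCech K l)) (q - 1)).hom
    haveI : Subsingleton ((DerCA.extCech K l).homology q) :=
      ModuleCat.subsingleton_of_isZero (ih hK' q hq)
    have h0 : ∀ x : (CochainComplex.mappingCocone (DerCA.locCxUnit (Submonoid.powers g)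
        (DerCA.extCech K l))).homology q, x = 0 := by
      intro x
      obtain ⟨y, rfl⟩ := (ex2 x).mp (Subsingleton.elim _ _)
      rw [Subsingleton.elim y 0, map_zero]
    haveI : Subsingleton ((DerCA.extCech K (g :: l)).homology q) :=
      ⟨fun a b => (h0 a).trans (h0 b).symm⟩
    exact ModuleCat.isZero_of_subsingleton _

/-- If `A → B → C → D` is exact at `B` and `C` with `A` and `D` trivial then `B → C` is
bijective. -/
theorem bijective_of_exact_of_subsingleton {A B C D : Type*} [AddCommGroup A] [AddCommGroup B]
    [AddCommGroup C] [AddCommGroup D] (f : A →+ B) (g : B →+ C) (h : C →+ D)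
    (hfg : Function.Exact f g) (hgh : Function.Exact g h) [Subsingleton A] [Subsingleton D] :
    Function.Bijective g := by
  constructor
  · rw [injective_iff_map_eq_zero]
    intro x hx
    obtain ⟨a, rfl⟩ := (hfg x).mp hx
    rw [Subsingleton.elim a 0, map_zero]
  · intro c
    exact (hgh c).mp (Subsingleton.elim _ _)

theorem isSuppCohFamily_extCech (fs : List R) :
    IsSuppCohFamily fs (fun (p : ℕ) (M : ModuleCat.{u} R) =>
      ((DerCA.extCech M fs).homology (p : ℤ) : Type u)) where
  zero M := by
    obtain ⟨ι, hinj, hrange⟩ := exists_H0_embedding M fs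
    let e1 : (DerCA.extCech M fs).homology 0 ≃ₗ[R] LinearMap.range ι :=
      LinearEquiv.ofInjective ι hinj
    let e2 : LinearMap.range ι ≃ₗ[R] gammaList fs M :=
      LinearEquiv.ofEq _ _ (hrange.trans (torsionSub_span_list_eq_gammaList fs M))
    exact ⟨(e1.trans e2).toAddEquiv⟩
  torsion K hK p hp :=
    ModuleCat.subsingleton_of_isZero (isZero_extCechH_of_torsion K fs hK p (by exact_mod_cast hp))
  bij P f hf hbij p :=
    ModuleCat.subsingleton_of_isZero (Groth.Agent.H46.isZero_extCechH_of_actsBij fs P f
      (Ideal.subset_span hf) hbij p)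
  mid S hS p h1 h3 := by
    have hSc := extCechSC_shortExact hS fs
    have ex := (ShortComplex.ShortExact.moduleCat_exact_iff_function_exact _).mp
      (hSc.homology_exact₂ (p : ℤ))
    refine ⟨fun a b => ?_⟩
    have h0 : ∀ x : (DerCA.extCech S.X₂ fs).homology (p : ℤ), x = 0 := by
      intro x
      obtain ⟨y, rfl⟩ := (ex x).mp (h3.elim _ _)
      rw [show y = 0 from h1.elim _ _]
      exact map_zero _
    exact (h0 a).trans (h0 b).symm
  iso₂₃ S hS p h1 h1' := by
    have hSc := extCechSC_shortExact hS fs
    have ex2 := (ShortComplex.ShortExact.moduleCat_exact_iff_function_exact _).mp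
      (hSc.homology_exact₂ (p : ℤ))
    have ex3 := (ShortComplex.ShortExact.moduleCat_exact_iff_function_exact _).mp
      (hSc.homology_exact₃ (p : ℤ) ((p + 1 : ℕ) : ℤ) (by simp))
    haveI : Subsingleton ((extCechSC S fs).X₁.homology (p : ℤ)) := h1
    haveI : Subsingleton ((extCechSC S fs).X₁.homology ((p + 1 : ℕ) : ℤ)) := h1'
    have hb := bijective_of_exact_of_subsingleton
      (HomologicalComplex.homologyMap (extCechMap S.f fs) (p : ℤ)).hom.toAddMonoidHom
      (HomologicalComplex.homologyMap (extCechMap S.g fs) (p : ℤ)).hom.toAddMonoidHom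
      (hSc.δ (p : ℤ) ((p + 1 : ℕ) : ℤ) (by simp)).hom.toAddMonoidHom ex2 ex3
    exact ⟨AddEquiv.ofBijective _ hb⟩
  iso₃₁ S hS p h2 h2' := by
    have hSc := extCechSC_shortExact hS fs
    haveI : Subsingleton ((extCechSC S fs).X₂.homology (p : ℤ)) := h2
    haveI : Subsingleton ((extCechSC S fs).X₂.homology ((p + 1 : ℕ) : ℤ)) := h2'
    have e := hSc.δIso (p : ℤ) ((p + 1 : ℕ) : ℤ) (by simp)
      (ModuleCat.isZero_of_subsingleton _) (ModuleCat.isZero_of_subsingleton _)
    exact ⟨e.toLinearEquiv.toAddEquiv⟩

end Groth.Agent.H88
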