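import Mathlib

/-!
# Consequences of the covariant long exact `Ext` sequence, in the form needed for dimension shifting
-/

namespace Groth.Agent.H88

open CategoryTheory Limits Abelian

universe w v u

variable {C : Type u} [Category.{v} C] [Abelian C] [HasExt.{w} C]
  {S : ShortComplex C} (hS : S.ShortExact) (X : C)

include hS

theorem ext_mid (p : ℕ) (h1 : Subsingleton (Ext X S.X₁ p)) (h3 : Subsingleton (Ext X S.X₃ p)) :
    Subsingleton (Ext X S.X₂ p) := by
  refine ⟨fun a b => ?_⟩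
  have h0 : ∀ x : Ext X S.X₂ p, x = 0 := by
    intro x
    obtain ⟨y, rfl⟩ := Ext.covariant_sequence_exact₂ X hS x (h3.elim _ _)
    rw [h1.elim y 0, Ext.zero_comp]
  exact (h0 a).trans (h0 b).symm

theorem ext_iso₂₃ (p : ℕ) (h1 : Subsingleton (Ext X S.X₁ p))
    (h1' : Subsingleton (Ext X S.X₁ (p + 1))) : Nonempty (Ext X S.X₂ p ≃+ Ext X S.X₃ p) := by
  refine ⟨AddEquiv.ofBijective ((Ext.mk₀ S.g).postcomp X (add_zero p)) ⟨?_, ?_⟩⟩
  · rw [injective_iff_map_eq_zero]
    intro x hx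
    obtain ⟨y, rfl⟩ := Ext.covariant_sequence_exact₂ X hS x hx
    rw [h1.elim y 0, Ext.zero_comp]
  · intro z
    exact Ext.covariant_sequence_exact₃ X hS z rfl (h1'.elim _ _)

theorem ext_iso₃₁ (p : ℕ) (h2 : Subsingleton (Ext X S.X₂ p))
    (h2' : Subsingleton (Ext X S.X₂ (p + 1))) :
    Nonempty (Ext X S.X₃ p ≃+ Ext X S.X₁ (p + 1)) := by
  refine ⟨AddEquiv.ofBijective (hS.extClass.postcomp X rfl) ⟨?_, ?_⟩⟩
  · rw [injective_iff_map_eq_zero]
    intro x hx
    obtain ⟨y, rfl⟩ := Ext.covariant_sequence_exact₃ X hS x rfl hx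
    rw [h2.elim y 0, Ext.zero_comp]
  · intro z
    exact Ext.covariant_sequence_exact₁ X hS z (h2'.elim _ _) rfl

end Groth.Agent.H88
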