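import Mathlib
import Groth.Prelude.Def_Coh
import Groth.Prelude.Def_LocCohZ
import Groth.Agent.Lead.Coh.AffineOpen
import Groth.Agent.Lead.Coh.QcqsInd
import Groth.Agent.H88.ExtCechSupp

/-!
# Cohomology of `K~` on opens where `K` is locally power-torsion
-/

namespace Groth.Agent.H88

open CategoryTheory Limits AlgebraicGeometry TopologicalSpace Opposite Abelian

universe u

variable {R : CommRingCat.{u}}

/-- The open `D(f_1) ∪ … ∪ D(f_r)` of `Spec R`, as the complement of the zero locus of the ideal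
generated by the list. -/
def punct (fs : List R) : (Spec R).Opens :=
  ⟨(PrimeSpectrum.zeroLocus (R := R) ((Ideal.span {a : R | a ∈ fs} : Ideal R) : Set R))ᶜ,
    (PrimeSpectrum.isClosed_zeroLocus _).isOpen_compl⟩

theorem mem_punct_iff (fs : List R) (x : PrimeSpectrum R) :
    x ∈ (punct fs).1 ↔ ∃ f ∈ fs, x ∈ PrimeSpectrum.basicOpen f := by
  have h : x ∈ (punct fs).1 ↔ x ∈ (PrimeSpectrum.zeroLocus (R := R)
    ((Ideal.span {a : R | a ∈ fs} : Ideal R) : Set R))ᶜ := Iff.rfl
  rw [h, Set.mem_compl_iff, PrimeSpectrum.zeroLocus_span, PrimeSpectrum.mem_zeroLocus,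
    Set.not_subset]
  constructor
  · rintro ⟨f, hf, hx⟩
    exact ⟨f, hf, hx⟩
  · rintro ⟨f, hf, hx⟩
    exact ⟨f, hf, hx⟩

theorem basicOpen_le_punct (fs : List R) (f : R) (hf : f ∈ fs) :
    PrimeSpectrum.basicOpen f ≤ punct fs :=
  fun x hx => (mem_punct_iff fs x).mpr ⟨f, hf, hx⟩

/-- Sections of `K~` over a basic open `D(g)` vanish when every element of `K` is killed by a
power of `g`. -/
theorem section_basicOpen_eq_zero (K : ModuleCat.{u} R) (g : R)
    (hK : ∀ k : K, ∃ n : ℕ, g ^ n • k = 0)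
    (s : (Coh.toAb (tilde K)).obj.obj (op (PrimeSpectrum.basicOpen g))) : s = 0 := by
  haveI : Subsingleton ((modulesSpecToSheaf.obj (tilde K)).presheaf.obj
      (op (PrimeSpectrum.basicOpen g))) :=
    subsingleton_of_isLocalizedModule_of_torsion (Submonoid.powers g)
      (tilde.toOpen K (PrimeSpectrum.basicOpen g)).hom (fun k => by
        obtain ⟨n, hn⟩ := hK k
        exact ⟨⟨g ^ n, n, rfl⟩, hn⟩)
  exact Subsingleton.elim (α := (modulesSpecToSheaf.obj (tilde K)).presheaf.obj
      (op (PrimeSpectrum.basicOpen g))) s 0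

/-- Sections of `K~` vanish over opens on which `K` is locally power torsion. -/
theorem section_eq_zero_of_torsion (K : ModuleCat.{u} R) (fs : List R)
    (hK : ∀ k : K, ∀ f ∈ fs, ∃ n : ℕ, f ^ n • k = 0) (W : (Spec R).Opens) (hW : W ≤ punct fs)
    (s : (Coh.toAb (tilde K)).obj.obj (op W)) : s = 0 := by
  -- choose basic opens around each point
  have hx : ∀ x : W, ∃ g : R, (x : Spec R) ∈ PrimeSpectrum.basicOpen g ∧
      PrimeSpectrum.basicOpen g ≤ W ∧ ∀ k : K, ∃ n : ℕ, g ^ n • k = 0 := by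
    intro x
    obtain ⟨f, hf, hxf⟩ := (mem_punct_iff fs x.1).mp (hW x.2)
    obtain ⟨_, ⟨g, rfl⟩, hxg, hgW⟩ := Opens.isBasis_iff_nbhd.mp PrimeSpectrum.isBasis_basic_opens
      (show x.1 ∈ (W ⊓ PrimeSpectrum.basicOpen f : Opens (PrimeSpectrum R)) from ⟨x.2, hxf⟩)
    refine ⟨g, hxg, fun y hy => (hgW hy).1, fun k => ?_⟩
    have hgf : PrimeSpectrum.basicOpen g ≤ PrimeSpectrum.basicOpen f := fun y hy => (hgW hy).2
    rw [PrimeSpectrum.basicOpen_le_basicOpen_iff] at hgf
    obtain ⟨N, hN⟩ := hgf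
    obtain ⟨a, ha⟩ := Ideal.mem_span_singleton'.mp hN
    obtain ⟨n, hn⟩ := hK k f hf
    refine ⟨N * n, ?_⟩
    rw [pow_mul, ← ha, mul_pow, mul_smul, hn, smul_zero]
  choose g hxg hgW hgK using hx
  refine TopCat.Sheaf.eq_of_locally_eq'
    (⟨(Coh.toAb (tilde K)).obj, (Coh.toAb (tilde K)).property⟩ : TopCat.Sheaf _ _)
    (fun x : W => PrimeSpectrum.basicOpen (g x)) W (fun x => homOfLE (hgW x)) ?_ s 0 ?_
  · intro y hy
    exact Opens.mem_iSup.mpr ⟨⟨y, hy⟩, hxg ⟨y, hy⟩⟩
  · intro x
    rw [map_zero]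
    exact section_basicOpen_eq_zero K (g x) (hgK x) _

end Groth.Agent.H88

namespace Groth.Agent.H88

open CategoryTheory Limits AlgebraicGeometry TopologicalSpace Opposite Abelian
open Groth.Agent.Lead.Coh

universe u

variable {R : CommRingCat.{u}}

/-- Degree-zero vanishing from the vanishing of sections. -/
theorem hVanish_zero_of_sections {T : Type u} [TopologicalSpace T]
    [HasExt.{u} (Sheaf (Opens.grothendieckTopology T) AddCommGrpCat.{u})]
    (F : Sheaf (Opens.grothendieckTopology T) AddCommGrpCat.{u}) (W : Opens T)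
    (h : ∀ s : F.obj.obj (op W), s = 0) : HVanish F 0 W := by
  intro x
  apply Ext.addEquiv₀.injective
  rw [map_zero]
  apply (homEquivSections W F).injective
  rw [h (homEquivSections W F _), h (homEquivSections W F 0)]

theorem isCompact_punct (fs : List R) : IsCompact ((punct fs : (Spec R).Opens) : Set (Spec R)) := by
  classical
  have h := (PrimeSpectrum.isCompact_isOpen_iff (R := R)
    (s := (PrimeSpectrum.zeroLocus (R := R) ((fs.toFinset : Finset R) : Set R))ᶜ)).mpr
    ⟨fs.toFinset, rfl⟩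
  have e : ((punct fs : (Spec R).Opens) : Set (Spec R)) =
      (PrimeSpectrum.zeroLocus (R := R) ((fs.toFinset : Finset R) : Set R))ᶜ := by
    change (PrimeSpectrum.zeroLocus (R := R)
      ((Ideal.span {a : R | a ∈ fs} : Ideal R) : Set R))ᶜ = _
    rw [PrimeSpectrum.zeroLocus_span]
    congr 2
    ext a
    simp
  rw [e]
  exact h.1

/-- All cohomology groups of `K~` over `D(f_1) ∪ … ∪ D(f_r)` vanish when `K` is power-torsion for
each `f_i`. -/
theorem hVanish_punct_of_torsion (K : ModuleCat.{u} R) (fs : List R)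
    (hK : ∀ k : K, ∀ f ∈ fs, ∃ n : ℕ, f ^ n • k = 0) (n : ℕ) :
    HVanish (T := Spec R) (Coh.toAb (tilde K)) n (punct fs) := by
  have key := qcqs_induction (X := Spec R)
    (fun W => W ≤ punct fs → ∀ n, HVanish (T := Spec R) (Coh.toAb (tilde K)) n W)
    (fun _ n => HVanish.bot _ n)
    (fun W₁ W₂ h1 h2 h12 hle n => by
      cases n with
      | zero =>
        exact hVanish_zero_of_sections _ _ (section_eq_zero_of_torsion K fs hK _ hle)
      | succ n =>
        exact HVanish.sup (h1 (le_sup_left.trans hle) (n + 1)) (h2 (le_sup_right.trans hle) (n + 1))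
          (h12 (inf_le_left.trans (le_sup_left.trans hle)) n))
    (punct fs) (IsQuasiSeparated.of_quasiSeparatedSpace _)
    (fun V hV hVU _ n => by
      cases n with
      | zero =>
        exact hVanish_zero_of_sections _ _ (section_eq_zero_of_torsion K fs hK _ hVU)
      | succ n => exact hVanish_of_isAffineOpen (Spec R) (tilde K) hV n)
  exact key (punct fs) le_rfl (isCompact_punct fs) le_rfl n

/-- `H^p_Z(Spec R, K~) = 0` for `p ≥ 1` when `K` is power-torsion for each `f_i`. -/
theorem subsingleton_HZM_of_torsion (K : ModuleCat.{u} R) (fs : List R)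
    (hK : ∀ k : K, ∀ f ∈ fs, ∃ n : ℕ, f ^ n • k = 0) (p : ℕ) (hp : 1 ≤ p) :
    Subsingleton (LocCohZ.HZM (Spec R) (tilde K) p (punct fs)) := by
  obtain ⟨q, rfl⟩ : ∃ q, p = q + 1 := ⟨p - 1, by omega⟩
  have hS := LocCohZ.zqSeq_shortExact (X := (Spec R).carrier) (le_top : punct fs ≤ ⊤)
  refine ⟨fun a b => ?_⟩
  have h0 : ∀ x : LocCohZ.HZM (Spec R) (tilde K) (q + 1) (punct fs), x = 0 := by
    intro x
    obtain ⟨y, rfl⟩ := Ext.contravariant_sequence_exact₃ hS (Coh.toAb (tilde K)) x
      (hVanish_of_isAffineOpen (Spec R) (tilde K) (isAffineOpen_top (Spec R)) q _)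
      (show 1 + q = q + 1 by omega)
    rw [hVanish_punct_of_torsion K fs hK q y]
    exact Ext.comp_zero _ _ _ _ _
  exact (h0 a).trans (h0 b).symm

end Groth.Agent.H88
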