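import Mathlib
import Groth.Agent.H88.TildeTorsion

/-!
# `H^0_Z(Spec R, M~)` is the submodule of power-torsion elements
-/

namespace Groth.Agent.H88

open CategoryTheory Limits AlgebraicGeometry TopologicalSpace Opposite Abelian

universe u

variable {R : CommRingCat.{u}}

theorem toOpen_punct_eq_zero_iff (M : ModuleCat.{u} R) (fs : List R) (m : M) :
    (tilde.toOpen M (punct fs)).hom m = 0 ↔ m ∈ gammaList fs M := by
  constructor
  · intro h f hf
    have h1 : (tilde.toOpen M (PrimeSpectrum.basicOpen f)).hom m = 0 := by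
      have h2 := congrArg ((modulesSpecToSheaf.obj (tilde M)).presheaf.map
        (homOfLE (basicOpen_le_punct fs f hf)).op).hom h
      exact h2.trans (map_zero _)
    obtain ⟨c, hc⟩ := (IsLocalizedModule.eq_zero_iff (Submonoid.powers f)
      (tilde.toOpen M (PrimeSpectrum.basicOpen f)).hom).mp h1
    obtain ⟨n, hn⟩ := c.2
    have hn' : f ^ n = (c : R) := hn
    exact ⟨n, by rw [hn']; exact hc⟩
  · intro hm
    refine TopCat.Sheaf.eq_of_locally_eq'
      (⟨(Coh.toAb (tilde M)).obj, (Coh.toAb (tilde M)).property⟩ : TopCat.Sheaf _ _)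
      (fun f : {f : R // f ∈ fs} => PrimeSpectrum.basicOpen f.1) (punct fs)
      (fun f => homOfLE (basicOpen_le_punct fs f.1 f.2)) ?_ _ 0 ?_
    · intro y hy
      obtain ⟨f, hf, hyf⟩ := (mem_punct_iff fs y).mp hy
      exact Opens.mem_iSup.mpr ⟨⟨f, hf⟩, hyf⟩
    · intro f
      refine Eq.trans ?_ (map_zero _).symm
      obtain ⟨n, hn⟩ := hm f.1 f.2
      change (tilde.toOpen M (PrimeSpectrum.basicOpen f.1)).hom m = 0
      exact (IsLocalizedModule.eq_zero_iff (Submonoid.powers f.1)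
        (tilde.toOpen M (PrimeSpectrum.basicOpen f.1)).hom).mpr ⟨⟨f.1 ^ n, n, rfl⟩, hn⟩

/-- `H^0_Z(Spec R, M~) ≃ Γ_{(f)}(M)`. -/
theorem nonempty_HZM_zero_equiv (M : ModuleCat.{u} R) (fs : List R) :
    Nonempty (LocCohZ.HZM (Spec R) (tilde M) 0 (punct fs) ≃+ gammaList fs M) := by
  let e₀ : M ≃ₗ[R] (modulesSpecToSheaf.obj (tilde M)).presheaf.obj (op ⊤) :=
    (tilde.isoTop M).toLinearEquiv
  have he₀ : ∀ m : M, e₀ m = (tilde.toOpen M ⊤).hom m := fun m => rfl
  have key : ∀ m : M, (e₀ m : (Coh.toAb (tilde M)).obj.obj (op ⊤)) ∈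
      LocCohZ.sectZ (X := (Spec R).carrier) (Coh.toAb (tilde M)) (le_top : punct fs ≤ ⊤) ↔
      m ∈ gammaList fs M := by
    intro m
    exact Iff.trans (Iff.rfl : _ ↔ (tilde.toOpen M (punct fs)).hom m = 0)
      (toOpen_punct_eq_zero_iff M fs m)
  let e₁ : gammaList fs M ≃+
      LocCohZ.sectZ (X := (Spec R).carrier) (Coh.toAb (tilde M)) (le_top : punct fs ≤ ⊤) :=
    { toFun := fun m => ⟨e₀ m.1, (key m.1).mpr m.2⟩
      invFun := fun s => ⟨e₀.symm s.1, (key _).mp (by
        rw [LinearEquiv.apply_symm_apply]; exact s.2)⟩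
      left_inv := fun m => Subtype.ext (e₀.symm_apply_apply m.1)
      right_inv := fun s => Subtype.ext (e₀.apply_symm_apply s.1)
      map_add' := fun m m' => Subtype.ext (map_add e₀ m.1 m'.1) }
  exact ⟨(LocCohZ.sect0Equiv (X := (Spec R).carrier) (Coh.toAb (tilde M))
    (le_top : punct fs ≤ ⊤)).trans e₁.symm⟩

end Groth.Agent.H88
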