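import Mathlib
import Groth.Agent.H88.TildeSuppZero
import Groth.Agent.Lead.Coh.LocModule

/-!
# `H^p_Z(Spec R, P~) = 0` when some `f_i` acts bijectively on `P`
-/

namespace Groth.Agent.H88

open CategoryTheory Limits AlgebraicGeometry TopologicalSpace Opposite Abelian
open Groth.Agent.Lead.Coh Groth.Agent.H18

universe u

variable {R : CommRingCat.{u}}

/-- Multiplication by `f` on `P~`, as an endomorphism of the underlying abelian sheaf, is induced
by multiplication by `f` on `P`. -/
theorem smulAb_tilde (P : ModuleCat.{u} R) (f : R) :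
    Coh.smulAb (tilde P) ((Scheme.ΓSpecIso R).inv f) =
      (SheafOfModules.toSheaf.{u} (Spec R).ringCatSheaf).map (tilde.map (f • 𝟙 P)) := by
  ext U x
  have h1 := ((tilde.modulesSpecToSheafIso P).app U).hom.hom.map_smul f x
  apply Subtype.ext
  funext y
  let p : PrimeSpectrum R := y.1
  have e : (IsLocalizedModule.map p.asIdeal.primeCompl
      (LocalizedModule.mkLinearMap p.asIdeal.primeCompl P)
      (LocalizedModule.mkLinearMap p.asIdeal.primeCompl P)) (f • LinearMap.id)
        ((x.1 y : LocalizedModule p.asIdeal.primeCompl P)) = f • (x.1 y) := by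
    rw [map_smul, LinearMap.smul_apply, IsLocalizedModule.map_id]
    rfl
  refine Eq.trans ?_ e.symm
  exact congrFun (congrArg Subtype.val h1) y

theorem isIso_smulAb_tilde (P : ModuleCat.{u} R) (f : R)
    (hbij : Function.Bijective (fun x : P => f • x)) :
    IsIso (Coh.smulAb (tilde P) ((Scheme.ΓSpecIso R).inv f)) := by
  rw [smulAb_tilde]
  haveI : IsIso (f • 𝟙 P) := (ConcreteCategory.isIso_iff_bijective _).mpr hbij
  exact (inferInstance : IsIso ((tilde.functor R ⋙
    SheafOfModules.toSheaf.{u} (Spec (CommRingCat.of R)).ringCatSheaf).map (f • 𝟙 P)))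

section general

variable {T : Type u} [TopologicalSpace T]
  [HasExt.{u} (Sheaf (Opens.grothendieckTopology T) AddCommGrpCat.{u})]
  {F : Sheaf (Opens.grothendieckTopology T) AddCommGrpCat.{u}}

theorem bijective_tmul_of_isIso (t : F ⟶ F) [IsIso t] (W : Opens T) (n : ℕ) :
    Function.Bijective (tmul t W n) := by
  refine Function.bijective_iff_has_inverse.mpr ⟨fun x => x.comp (Ext.mk₀ (inv t)) (add_zero n),
    fun x => ?_, fun x => ?_⟩
  · change (x.comp (Ext.mk₀ t) (add_zero n)).comp (Ext.mk₀ (inv t)) (add_zero n) = x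
    rw [Ext.comp_assoc_of_third_deg_zero, Ext.mk₀_comp_mk₀, IsIso.hom_inv_id,
      Ext.comp_mk₀_id]
  · change (x.comp (Ext.mk₀ (inv t)) (add_zero n)).comp (Ext.mk₀ t) (add_zero n) = x
    rw [Ext.comp_assoc_of_third_deg_zero, Ext.mk₀_comp_mk₀, IsIso.inv_hom_id,
      Ext.comp_mk₀_id]

end general

/-- A localisation map is bijective when the elements of the submonoid act bijectively on the
source. -/
theorem bijective_of_isLocalizedModule_of_bijective {A : Type*} [CommRing A] {M N : Type*}
    [AddCommGroup M] [AddCommGroup N] [Module A M] [Module A N] (g : A) (φ : M →ₗ[A] N)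
    [IsLocalizedModule (Submonoid.powers g) φ] (hg : Function.Bijective (fun x : M => g • x)) :
    Function.Bijective φ := by
  have hpow : ∀ n : ℕ, Function.Bijective (fun x : M => g ^ n • x) := by
    intro n
    induction n with
    | zero =>
      have : (fun x : M => g ^ 0 • x) = id := by funext x; simp
      rw [this]; exact Function.bijective_id
    | succ n ih =>
      have : (fun x : M => g ^ (n + 1) • x) = (fun x : M => g ^ n • x) ∘ (fun x : M => g • x) := by
        funext x
        simp [pow_succ, mul_smul]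
      rw [this]
      exact ih.comp hg
  constructor
  · rw [injective_iff_map_eq_zero]
    intro x hx
    obtain ⟨c, hc⟩ := (IsLocalizedModule.eq_zero_iff (Submonoid.powers g) φ).mp hx
    obtain ⟨n, hn⟩ := c.2
    have hn' : g ^ n = (c : A) := hn
    apply (hpow n).1
    change g ^ n • x = g ^ n • 0
    rw [smul_zero, hn']
    exact hc
  · intro y
    obtain ⟨⟨x, s⟩, hxs⟩ := IsLocalizedModule.surj (Submonoid.powers g) φ y
    obtain ⟨n, hn⟩ := s.2
    have hn' : g ^ n = (s : A) := hn
    obtain ⟨x', hx'⟩ := (hpow n).2 x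
    refine ⟨x', ?_⟩
    apply (IsLocalizedModule.smul_inj φ s _ _).mp
    have h1 : s • y = φ x := hxs
    rw [h1, ← hx']
    change (s : A) • φ x' = φ (g ^ n • x')
    rw [map_smul, hn']

end Groth.Agent.H88
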