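import Mathlib
import Groth.Agent.H88.TildeBij

/-!
# `H^p_Z(Spec R, P~) = 0` when some `f_i` acts bijectively on `P` (continued)
-/

namespace Groth.Agent.H88

open CategoryTheory Limits AlgebraicGeometry TopologicalSpace Opposite Abelian
open Groth.Agent.Lead.Coh Groth.Agent.H18

universe u

variable {R : CommRingCat.{u}} (P : ModuleCat.{u} R) (f : R)
  (hbij : Function.Bijective (fun x : P => f • x))

include hbij

theorem bijective_resLin_of_bij (W : (Spec R).Opens) (hc : IsCompact (W : Set (Spec R)))
    (q : ℕ) :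
    Function.Bijective (resLin (tilde P)
      (inf_le_left : W ⊓ (Spec R).basicOpen ((Scheme.ΓSpecIso R).inv f) ≤ W) q) := by
  haveI := isLocalizedModule_resLin (tilde P) ((Scheme.ΓSpecIso R).inv f) W hc
    (IsQuasiSeparated.of_quasiSeparatedSpace _) q
  apply bijective_of_isLocalizedModule_of_bijective ((Scheme.ΓSpecIso R).inv f)
  haveI := isIso_smulAb_tilde P f hbij
  exact bijective_tmul_of_isIso (Coh.smulAb (tilde P) ((Scheme.ΓSpecIso R).inv f)) W q

omit hbij in
theorem basicOpen_inv_le_punct (fs : List R) (hf : f ∈ fs) :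
    (Spec R).basicOpen ((Scheme.ΓSpecIso R).inv f) ≤ punct fs := by
  rw [basicOpen_eq_of_affine]
  exact basicOpen_le_punct fs f hf

theorem hVanish_punct_of_bij (fs : List R) (hf : f ∈ fs) (q : ℕ) :
    HVanish (T := Spec R) (Coh.toAb (tilde P)) (q + 1) (punct fs) := by
  intro y
  have hb := bijective_resLin_of_bij P f hbij (punct fs) (isCompact_punct fs) (q + 1)
  have hAff : IsAffineOpen (punct fs ⊓ (Spec R).basicOpen ((Scheme.ΓSpecIso R).inv f)) := by
    rw [inf_eq_right.mpr (basicOpen_inv_le_punct f fs hf)]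
    exact (isAffineOpen_top (Spec R)).basicOpen _
  have hz := hVanish_of_isAffineOpen (Spec R) (tilde P) hAff q
  apply hb.1
  exact (hz _).trans (hz _).symm

omit hbij in
theorem surjective_resHom_of_eq {T : Type u} [TopologicalSpace T]
    [HasExt.{u} (Sheaf (Opens.grothendieckTopology T) AddCommGrpCat.{u})]
    {F : Sheaf (Opens.grothendieckTopology T) AddCommGrpCat.{u}} {V V' W : Opens T} (h : V = V')
    (hV : V ≤ W) (hV' : V' ≤ W) (q : ℕ)
    (hs : Function.Surjective (resHom (F := F) hV q)) :
    Function.Surjective (resHom (F := F) hV' q) := by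
  subst h
  exact hs

/-- Every section of `P~` over `D(f_1) ∪ … ∪ D(f_r)` extends to a global section. -/
theorem exists_res_top_eq (fs : List R) (hf : f ∈ fs)
    (y : Ext (freeSheaf (Opens.grothendieckTopology (Spec R)) (punct fs))
      (Coh.toAb (tilde P)) 0) :
    ∃ z : Ext (freeSheaf (Opens.grothendieckTopology (Spec R)) (⊤ : (Spec R).Opens))
        (Coh.toAb (tilde P)) 0,
      (Ext.mk₀ (freeSheafMap (Opens.grothendieckTopology (Spec R))
        (homOfLE (le_top : punct fs ≤ ⊤)))).comp z (zero_add 0) = y := by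
  have hb₁ := bijective_resLin_of_bij P f hbij (punct fs) (isCompact_punct fs) 0
  have hb₂ := bijective_resLin_of_bij P f hbij ⊤ isCompact_univ 0
  have heq : (⊤ : (Spec R).Opens) ⊓ (Spec R).basicOpen ((Scheme.ΓSpecIso R).inv f) =
      punct fs ⊓ (Spec R).basicOpen ((Scheme.ΓSpecIso R).inv f) := by
    rw [top_inf_eq, inf_eq_right.mpr (basicOpen_inv_le_punct f fs hf)]
  have hs := surjective_resHom_of_eq (F := Coh.toAb (tilde P)) heq inf_le_left le_top 0 hb₂.2
  obtain ⟨z, hz⟩ := hs (resLin (tilde P)
    (inf_le_left : punct fs ⊓ (Spec R).basicOpen ((Scheme.ΓSpecIso R).inv f) ≤ punct fs) 0 y)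
  refine ⟨z, ?_⟩
  apply hb₁.1
  refine Eq.trans ?_ hz
  exact resM_resM (homOfLE (le_top : punct fs ≤ ⊤)) (homOfLE inf_le_left) (homOfLE le_top) 0 z

/-- `H^p_Z(Spec R, P~) = 0` for all `p` when some `f ∈ fs` acts bijectively on `P`. -/
theorem subsingleton_HZM_of_bij (fs : List R) (hf : f ∈ fs) (p : ℕ) :
    Subsingleton (LocCohZ.HZM (Spec R) (tilde P) p (punct fs)) := by
  rcases Nat.eq_zero_or_pos p with rfl | hp
  · obtain ⟨e⟩ := nonempty_HZM_zero_equiv P fs
    haveI : Subsingleton (gammaList fs P) := by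
      refine ⟨fun a b => ?_⟩
      have h0 : ∀ m : gammaList fs P, m = 0 := by
        intro m
        obtain ⟨n, hn⟩ := m.2 f hf
        apply Subtype.ext
        have hpow : ∀ n : ℕ, ∀ x : P, f ^ n • x = 0 → x = 0 := by
          intro n
          induction n with
          | zero => intro x hx; simpa using hx
          | succ n ih =>
            intro x hx
            rw [pow_succ, mul_smul] at hx
            apply hbij.1
            change f • x = f • 0
            rw [smul_zero]
            exact ih _ hx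
        exact hpow n m.1 hn
      exact (h0 a).trans (h0 b).symm
    exact e.toEquiv.subsingleton
  · obtain ⟨q, rfl⟩ : ∃ q, p = q + 1 := ⟨p - 1, by omega⟩
    have hS := LocCohZ.zqSeq_shortExact (X := (Spec R).carrier) (le_top : punct fs ≤ ⊤)
    refine ⟨fun a b => ?_⟩
    have h0 : ∀ x : LocCohZ.HZM (Spec R) (tilde P) (q + 1) (punct fs), x = 0 := by
      intro x
      obtain ⟨y, rfl⟩ := Ext.contravariant_sequence_exact₃ hS (Coh.toAb (tilde P)) x
        (hVanish_of_isAffineOpen (Spec R) (tilde P) (isAffineOpen_top (Spec R)) q _)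
        (show 1 + q = q + 1 by omega)
      rcases Nat.eq_zero_or_pos q with rfl | hq
      · obtain ⟨z, rfl⟩ := exists_res_top_eq P f hbij fs hf y
        exact hS.extClass_comp_assoc _
      · obtain ⟨q', rfl⟩ : ∃ q', q = q' + 1 := ⟨q - 1, by omega⟩
        rw [hVanish_punct_of_bij P f hbij fs hf q' y]
        exact Ext.comp_zero _ _ _ _ _
    exact (h0 a).trans (h0 b).symm

end Groth.Agent.H88
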