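import Mathlib
import Groth.Prelude.Def_Coh
import Groth.Agent.H47.TildeExact
import Groth.Agent.H49.SectionsExact

/-!
# Short exact sequences of modules give short exact sequences of abelian sheaves on `Spec R`
-/

namespace Groth.Agent.H88

open CategoryTheory Limits AlgebraicGeometry TopologicalSpace

universe u

variable (R : CommRingCat.{u})

/-- The short complex of abelian sheaves `M'~ → M~ → M''~` on `Spec R`. -/
noncomputable def tildeAbSC (S : ShortComplex (ModuleCat.{u} R)) :
    ShortComplex (Sheaf (Opens.grothendieckTopology (Spec R)) AddCommGrpCat.{u}) :=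
  (S.map (tilde.functor R)).map (Groth.Agent.H49.SectionsExact.T (Spec R))

theorem tildeAbSC_X₁ (S : ShortComplex (ModuleCat.{u} R)) :
    (tildeAbSC R S).X₁ = Coh.toAb (tilde S.X₁) := rfl

theorem tildeAbSC_X₂ (S : ShortComplex (ModuleCat.{u} R)) :
    (tildeAbSC R S).X₂ = Coh.toAb (tilde S.X₂) := rfl

theorem tildeAbSC_X₃ (S : ShortComplex (ModuleCat.{u} R)) :
    (tildeAbSC R S).X₃ = Coh.toAb (tilde S.X₃) := rfl

theorem tildeAbSC_shortExact (S : ShortComplex (ModuleCat.{u} R)) (hS : S.ShortExact) :
    (tildeAbSC R S).ShortExact := by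
  haveI := Groth.Agent.H47.tilde_preservesFiniteLimits R
  haveI := Groth.Agent.H47.tilde_preservesFiniteColimits R
  have h1 : (S.map (tilde.functor R)).ShortExact := hS.map_of_exact _
  exact Groth.Agent.H49.SectionsExact.shortExact_toSheaf _ h1

end Groth.Agent.H88
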