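import Mathlib
import Groth.Agent.H88.TildeBij2
import Groth.Agent.H88.TildeSES
import Groth.Agent.H88.ExtLES
import Groth.Agent.H88.DimShift

/-!
# `M ↦ H^p_Z(Spec R, M~)` is a family of functors with supports in `V(f_1, …, f_r)`
-/

namespace Groth.Agent.H88

open CategoryTheory Limits AlgebraicGeometry TopologicalSpace Opposite Abelian

universe u

variable (R : CommRingCat.{u})

theorem isSuppCohFamily_HZM (fs : List R) :
    IsSuppCohFamily fs (fun (p : ℕ) (M : ModuleCat.{u} R) =>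
      LocCohZ.HZM (Spec R) (tilde M) p (punct fs)) where
  zero M := nonempty_HZM_zero_equiv M fs
  torsion K hK p hp := subsingleton_HZM_of_torsion K fs (fun k => hK k) p hp
  bij P f hf hbij p := subsingleton_HZM_of_bij P f hbij fs hf p
  mid S hS p h1 h3 :=
    ext_mid (tildeAbSC_shortExact R S hS) (LocCohZ.zq (le_top : punct fs ≤ ⊤)) p h1 h3
  iso₂₃ S hS p h1 h1' :=
    ext_iso₂₃ (tildeAbSC_shortExact R S hS) (LocCohZ.zq (le_top : punct fs ≤ ⊤)) p h1 h1'
  iso₃₁ S hS p h2 h2' :=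
    ext_iso₃₁ (tildeAbSC_shortExact R S hS) (LocCohZ.zq (le_top : punct fs ≤ ⊤)) p h2 h2'

end Groth.Agent.H88
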