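import Mathlib
import Groth.Prelude.Def_Coh
import Groth.Agent.H88.LerayLinearOver
import Groth.Agent.H8.PushQCoh

/-!
# `H^n(X', F) ≃ₗ[A] H^n(X, f_* F)` for an affine morphism over `Spec A` into a separated scheme
-/

namespace Groth.Agent.H88.LerayLinear

open CategoryTheory Opposite Limits TopologicalSpace Abelian AlgebraicGeometry
open Groth.Agent.Lead.Cech Groth.Agent.Lead.Coh

universe u

variable (A : Type u) [CommRing A] {X' X : Scheme.{u}} [X'.Over (Spec (CommRingCat.of A))]
  [X.Over (Spec (CommRingCat.of A))] (f : X' ⟶ X) (F : X'.Modules)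

/-- **Affine morphisms preserve cohomology, `A`-linearly** (target separated): the linear form of
`H^n(X', F) ≅ H^n(X, f_* F)` for `f` affine and `F` quasi-coherent. -/
theorem nonempty_linearEquiv_HH_push_of_isAffineHom [IsAffineHom f] [X.IsSeparated]
    [F.IsQuasicoherent]
    (hf : f ≫ (X ↘ Spec (CommRingCat.of A)) = (X' ↘ Spec (CommRingCat.of A))) (n : ℕ) :
    Nonempty (Coh.HH X' F n ≃ₗ[A] Coh.HH X ((Coh.push f).obj F) n) := by
  haveI : ((Coh.push f).obj F).IsQuasicoherent :=
    Groth.Agent.H8.isQuasicoherent_pushforward_of_isAffineHom f F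
  let U : X.affineOpens → X.Opens := fun i => i.1
  have hU : iSup U = ⊤ := iSup_affineOpens_eq_top X
  have hG : Acyc (X := X.toTopCat) U (Coh.toAb ((Coh.push f).obj F)) :=
    acyc_of_isAffineOpen _ U (fun i => i.2)
  have hF : Acyc (X := X'.toTopCat) (fun i => f ⁻¹ᵁ U i) (Coh.toAb F) := by
    apply acyc_of_isAffineOpen_cechOpen
    intro p σ
    have h1 : cechOpen (X := X') (fun i => f ⁻¹ᵁ U i) σ = f ⁻¹ᵁ (cechOpen (X := X) U σ) :=
      Groth.Agent.H88.cechOpen_eq_preimage (X := X'.toTopCat) (Y := X.toTopCat) f.base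
        (fun i => f ⁻¹ᵁ U i) U (fun _ => rfl) σ
    rw [h1]
    have h2 : IsAffineOpen (cechOpen (X := X) U σ) := by
      rw [cechOpen_eq_iInf]
      exact IsAffineOpen.iInf (fun a => (σ a).2)
    exact h2.preimage f
  exact nonempty_linearEquiv_HH_push A f F U hf hU hF hG n

end Groth.Agent.H88.LerayLinear
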