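import Mathlib

/-!
# Common field-valued points of two primes over the same prime
-/

namespace Groth.Agent.H88

open TensorProduct

universe u

/-- Two primes `q ⊆ S`, `q' ⊆ S'` lying over the same prime of `R` are the kernels of
ring homomorphisms to a common field which agree on `R`. -/
theorem exists_common_field {R S S' : Type u} [CommRing R] [CommRing S] [CommRing S']
    [Algebra R S] [Algebra R S'] (q : Ideal S) [q.IsPrime] (q' : Ideal S') [q'.IsPrime]
    (h : q'.under R = q.under R) :
    ∃ (Ω : Type u) (_ : Field Ω) (α : S →+* Ω) (α' : S' →+* Ω),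
      α.comp (algebraMap R S) = α'.comp (algebraMap R S') ∧
      RingHom.ker α = q ∧ RingHom.ker α' = q' := by
  let p : Ideal R := q.under R
  let ι : p.ResidueField →+* q.ResidueField :=
    Ideal.ResidueField.map p q (algebraMap R S) rfl
  let ι' : p.ResidueField →+* q'.ResidueField :=
    Ideal.ResidueField.map p q' (algebraMap R S') h.symm
  letI : Algebra p.ResidueField q.ResidueField := ι.toAlgebra
  letI : Algebra p.ResidueField q'.ResidueField := ι'.toAlgebra
  let T := q.ResidueField ⊗[p.ResidueField] q'.ResidueField
  haveI : Nontrivial T :=
    Algebra.TensorProduct.nontrivial_of_algebraMap_injective_of_flat_left _ _ _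
      (algebraMap p.ResidueField q'.ResidueField).injective
  obtain ⟨M, hM⟩ := Ideal.exists_maximal T
  letI : Field (T ⧸ M) := Ideal.Quotient.field M
  let β : q.ResidueField →+* T ⧸ M :=
    (Ideal.Quotient.mk M).comp (Algebra.TensorProduct.includeLeftRingHom)
  let β' : q'.ResidueField →+* T ⧸ M :=
    (Ideal.Quotient.mk M).comp (Algebra.TensorProduct.includeRight
      (R := p.ResidueField) (A := q.ResidueField) (B := q'.ResidueField)).toRingHom
  refine ⟨T ⧸ M, inferInstance, β.comp (algebraMap S q.ResidueField),
    β'.comp (algebraMap S' q'.ResidueField), ?_, ?_, ?_⟩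
  · ext r
    have h1 : algebraMap S q.ResidueField (algebraMap R S r) =
        algebraMap p.ResidueField q.ResidueField (algebraMap R p.ResidueField r) :=
      (Ideal.ResidueField.map_algebraMap p q (algebraMap R S) rfl r).symm
    have h2 : algebraMap S' q'.ResidueField (algebraMap R S' r) =
        algebraMap p.ResidueField q'.ResidueField (algebraMap R p.ResidueField r) :=
      (Ideal.ResidueField.map_algebraMap p q' (algebraMap R S') h.symm r).symm
    simp only [RingHom.coe_comp, Function.comp_apply, h1, h2, β, β']
    congr 1
    have e1 := (Algebra.TensorProduct.includeLeft (R := p.ResidueField) (S := p.ResidueField)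
      (A := q.ResidueField) (B := q'.ResidueField)).commutes (algebraMap R p.ResidueField r)
    have e2 := (Algebra.TensorProduct.includeRight (R := p.ResidueField)
      (A := q.ResidueField) (B := q'.ResidueField)).commutes (algebraMap R p.ResidueField r)
    exact e1.trans e2.symm
  · rw [← RingHom.comap_ker, (RingHom.injective_iff_ker_eq_bot β).mp β.injective,
      ← RingHom.ker_eq_comap_bot, Ideal.ker_algebraMap_residueField]
  · rw [← RingHom.comap_ker, (RingHom.injective_iff_ker_eq_bot β').mp β'.injective,
      ← RingHom.ker_eq_comap_bot, Ideal.ker_algebraMap_residueField]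

end Groth.Agent.H88
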