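import Mathlib

/-!
# Splitting algebras

For a monic polynomial `f` of degree `n` over a commutative ring `R` we construct (by iterated
root adjunction) a finite free `R`-algebra `S'` in the same universe over which `f` becomes a
product of `n` linear factors.
-/

namespace Groth.Agent.H88

open Polynomial

universe u

/-- Existence of a finite free algebra in which a monic polynomial splits into linear factors. -/
theorem exists_split_algebra : ∀ (n : ℕ) (R : Type u) [CommRing R] (f : R[X]), f.Monic →
    f.natDegree = n →
    ∃ (S' : Type u) (_ : CommRing S') (_ : Algebra R S'), Module.Finite R S' ∧ Module.Free R S' ∧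
      (Nontrivial R → Nontrivial S') ∧
      ∃ t : Fin n → S', f.map (algebraMap R S') = ∏ i, (X - C (t i)) := by
  intro n
  induction n with
  | zero =>
    intro R _ f hf hn
    refine ⟨R, inferInstance, inferInstance, inferInstance, inferInstance, fun h ↦ h,
      Fin.elim0, ?_⟩
    have : f = 1 := (Polynomial.Monic.natDegree_eq_zero hf).mp hn
    simp [this]
  | succ n ih =>
    intro R _ f hf hn
    have hfin : Module.Finite R (AdjoinRoot f) := hf.finite_adjoinRoot
    have hfree : Module.Free R (AdjoinRoot f) := hf.free_adjoinRoot
    set t₀ : AdjoinRoot f := AdjoinRoot.root f with ht₀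
    set f₁ : (AdjoinRoot f)[X] := (f.map (algebraMap R (AdjoinRoot f))) /ₘ (X - C t₀) with hf₁
    have hroot : IsRoot (f.map (algebraMap R (AdjoinRoot f))) t₀ := by
      rw [IsRoot.def, eval_map, AdjoinRoot.algebraMap_eq]
      exact AdjoinRoot.eval₂_root f
    have hfac : (X - C t₀) * f₁ = f.map (algebraMap R (AdjoinRoot f)) :=
      mul_divByMonic_eq_iff_isRoot.mpr hroot
    have hmon : f₁.Monic := by
      refine Monic.of_mul_monic_left (monic_X_sub_C t₀) ?_
      rw [hfac]
      exact hf.map _
    have hR : Nontrivial R := by
      by_contra h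
      rw [not_nontrivial_iff_subsingleton] at h
      rw [Subsingleton.elim f 0] at hn
      simp at hn
    have hA : Nontrivial (AdjoinRoot f) := by
      refine Module.nontrivial_of_finrank_pos (R := R) ?_
      rw [(AdjoinRoot.powerBasis' hf).finrank, AdjoinRoot.powerBasis'_dim, hn]
      exact Nat.succ_pos n
    have hdeg : f₁.natDegree = n := by
      rw [hf₁, natDegree_divByMonic _ (monic_X_sub_C t₀), natDegree_X_sub_C,
        Polynomial.Monic.natDegree_map hf, hn]
      rfl
    obtain ⟨S', _, _, hfin', hfree', hnt', t, ht⟩ := ih (AdjoinRoot f) f₁ hmon hdeg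
    letI alg : Algebra R S' :=
      ((algebraMap (AdjoinRoot f) S').comp (algebraMap R (AdjoinRoot f))).toAlgebra
    haveI : IsScalarTower R (AdjoinRoot f) S' := IsScalarTower.of_algebraMap_eq (fun _ ↦ rfl)
    refine ⟨S', inferInstance, alg, Module.Finite.trans (AdjoinRoot f) S', ?_, ?_, ?_⟩
    · exact Module.Free.of_basis
        ((Module.Free.chooseBasis R (AdjoinRoot f)).smulTower
          (Module.Free.chooseBasis (AdjoinRoot f) S'))
    · intro _
      exact hnt' hA
    · refine ⟨Fin.cons (algebraMap (AdjoinRoot f) S' t₀) t, ?_⟩
      have : f.map (algebraMap R S') =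
          (f.map (algebraMap R (AdjoinRoot f))).map (algebraMap (AdjoinRoot f) S') := by
        rw [Polynomial.map_map]; rfl
      rw [this, ← hfac, Polynomial.map_mul, ht, Fin.prod_univ_succ]
      simp

end Groth.Agent.H88

namespace Groth.Agent.H88

open Polynomial

universe u

/-- A finite free (hence finitely presented, faithfully flat, surjective on spectra) algebra
in which a monic polynomial splits into linear factors. -/
theorem exists_split_cover (R : Type u) [CommRing R] (f : R[X]) (hf : f.Monic) :
    ∃ (S' : Type u) (_ : CommRing S') (_ : Algebra R S'), Module.Finite R S' ∧ Module.Free R S' ∧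
      Algebra.FinitePresentation R S' ∧ Module.FaithfullyFlat R S' ∧
      Function.Surjective (PrimeSpectrum.comap (algebraMap R S')) ∧
      ∃ t : Fin f.natDegree → S', f.map (algebraMap R S') = ∏ i, (X - C (t i)) := by
  obtain ⟨S', _, _, hfin, hfree, hnt, t, ht⟩ := exists_split_algebra f.natDegree R f hf rfl
  have hff : Module.FaithfullyFlat R S' := by
    rcases subsingleton_or_nontrivial R with h | h
    · refine ⟨fun {m} hm ↦ ?_⟩
      exact absurd (Subsingleton.elim m ⊤) hm.ne_top
    · haveI := hnt h
      infer_instance
  refine ⟨S', inferInstance, inferInstance, hfin, hfree, ?_, hff, ?_, t, ht⟩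
  · haveI : Module.FinitePresentation R S' := Module.finitePresentation_of_projective R S'
    infer_instance
  · exact PrimeSpectrum.comap_surjective_of_faithfullyFlat

end Groth.Agent.H88
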