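import Mathlib
import Groth.Agent.H88.CommonField
import Groth.Agent.H88.SplitAlg

/-!
# Factoring a standard étale algebra through a localisation of a splitting algebra
-/

namespace Groth.Agent.H88

open Polynomial

universe u

/-- If the monic polynomial of a standard étale presentation of `S` splits in `S'`, then for primes
`q` of `S` and `q'` of `S'` over the same prime of `R`, the algebra `S` maps to a principal
localisation of `S'` at an element outside `q'`, compatibly with the primes. -/
theorem exists_factor_of_split {R S S' : Type u} [CommRing R] [CommRing S] [CommRing S']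
    [Algebra R S] [Algebra R S'] (P : StandardEtalePresentation R S) {n : ℕ} (t : Fin n → S')
    (ht : P.f.map (algebraMap R S') = ∏ i, (X - C (t i)))
    (q : Ideal S) [q.IsPrime] (q' : Ideal S') [q'.IsPrime] (h : q'.under R = q.under R) :
    ∃ (g' : S') (_ : g' ∉ q') (φ : S →ₐ[R] Localization.Away g'),
      (q'.map (algebraMap S' (Localization.Away g'))).comap φ = q := by
  obtain ⟨Ω, _, α, α', hαα', hα, hα'⟩ := exists_common_field q q' h
  -- the image of `x` in `Ω` is one of the roots
  have hfx : (P.f.map (α.comp (algebraMap R S))).eval (α P.x) = 0 := by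
    rw [eval_map, ← Polynomial.hom_eval₂, ← aeval_def, P.hasMap.1, map_zero]
  have hprod : P.f.map (α.comp (algebraMap R S)) = ∏ i, (X - C (α' (t i))) := by
    rw [hαα', ← Polynomial.map_map, ht, Polynomial.map_prod]
    simp
  rw [hprod, eval_prod, Finset.prod_eq_zero_iff] at hfx
  obtain ⟨i, -, hi⟩ := hfx
  simp only [eval_sub, eval_X, eval_C, sub_eq_zero] at hi
  -- the element to invert
  set g' : S' := aeval (t i) P.g with hg'
  have hαg' : α' g' = α (aeval P.x P.g) := by
    rw [hg', aeval_def, aeval_def, Polynomial.hom_eval₂, Polynomial.hom_eval₂, ← hαα', hi]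
  have hunit : IsUnit (α' g') := by
    rw [hαg']
    exact P.hasMap.2.map α
  have hg'q : g' ∉ q' := by
    intro hmem
    rw [← hα', RingHom.mem_ker] at hmem
    rw [hmem] at hunit
    exact not_isUnit_zero hunit
  -- the map
  have hroot : aeval (t i) P.f = 0 := by
    rw [aeval_def, ← eval_map, ht, eval_prod]
    exact Finset.prod_eq_zero (Finset.mem_univ i) (by simp)
  have hmap : P.P.HasMap (algebraMap S' (Localization.Away g') (t i)) := by
    refine ⟨?_, ?_⟩
    · rw [aeval_algebraMap_apply, hroot, map_zero]
    · rw [aeval_algebraMap_apply]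
      exact IsLocalization.Away.algebraMap_isUnit g'
  let φ : S →ₐ[R] Localization.Away g' :=
    (P.P.lift _ hmap).comp P.equivRing.toAlgHom
  have hφx : φ P.x = algebraMap S' (Localization.Away g') (t i) := by
    simp [φ]
  refine ⟨g', hg'q, φ, ?_⟩
  -- the map to `Ω`
  let ψ : Localization.Away g' →+* Ω := IsLocalization.Away.lift g' hunit
  have hψ : ψ.comp (algebraMap S' (Localization.Away g')) = α' :=
    IsLocalization.Away.lift_comp g' hunit
  have hker : q'.map (algebraMap S' (Localization.Away g')) = RingHom.ker ψ := by
    rw [← IsLocalization.map_comap (Submonoid.powers g') (Localization.Away g') (RingHom.ker ψ)]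
    congr 1
    rw [← hα', ← hψ]
    rfl
  letI : Algebra R Ω := (α.comp (algebraMap R S)).toAlgebra
  let αₐ : S →ₐ[R] Ω := { α with commutes' := fun _ ↦ rfl }
  let ψₐ : Localization.Away g' →ₐ[R] Ω :=
    { ψ with
      commutes' := fun r ↦ by
        change ψ (algebraMap R (Localization.Away g') r) = α (algebraMap R S r)
        rw [IsScalarTower.algebraMap_apply R S' (Localization.Away g'), ← RingHom.comp_apply,
          hψ, ← RingHom.comp_apply, ← RingHom.comp_apply, hαα'] }
  have hcomp : ψₐ.comp φ = αₐ := by
    apply P.hom_ext
    change ψ (φ P.x) = α P.x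
    rw [hφx, ← RingHom.comp_apply, hψ, hi]
  rw [hker, ← hα]
  ext s
  simp only [Ideal.mem_comap, RingHom.mem_ker]
  have := congr($hcomp s)
  change ψ (φ s) = α s at this
  rw [this]

end Groth.Agent.H88
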