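import Mathlib

set_option autoImplicit false
universe u v w
open scoped TensorProduct
open LinearMap TensorProduct

namespace Groth.Agent.H88.PolyLawFam

variable {A : Type u} [CommRing A] {M : Type v} [AddCommGroup M] [Module A M]
  {N : Type w} [AddCommGroup N] [Module A N]

variable (T : ∀ n : ℕ, MvPolynomial (Fin n) A ⊗[A] M → MvPolynomial (Fin n) A ⊗[A] N)
  (hT : ∀ (n m : ℕ) (φ : MvPolynomial (Fin n) A →ₐ[A] MvPolynomial (Fin m) A),
    φ.toLinearMap.rTensor N ∘ T n = T m ∘ φ.toLinearMap.rTensor M)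

include hT in
lemma hT_apply (n m : ℕ) (φ : MvPolynomial (Fin n) A →ₐ[A] MvPolynomial (Fin m) A)
    (p : MvPolynomial (Fin n) A ⊗[A] M) :
    φ.toLinearMap.rTensor N (T n p) = T m (φ.toLinearMap.rTensor M p) :=
  congrFun (hT n m φ) p

include hT in
lemma kernel_trick {S : Type*} [CommSemiring S] [Algebra A S] (n : ℕ)
    (ψ : MvPolynomial (Fin n) A →ₐ[A] S)
    (p p' : MvPolynomial (Fin n) A ⊗[A] M) (r : ℕ) (a : Fin r → MvPolynomial (Fin n) A)
    (mm : Fin r → M) (ha : ∀ i, ψ (a i) = 0) (hp : p = p' + ∑ i, a i ⊗ₜ[A] mm i) :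
    ψ.toLinearMap.rTensor N (T n p) = ψ.toLinearMap.rTensor N (T n p') := by
  classical
  let ι : MvPolynomial (Fin n) A →ₐ[A] MvPolynomial (Fin (n + r)) A :=
    MvPolynomial.rename (Fin.castAdd r)
  let α : MvPolynomial (Fin (n + r)) A →ₐ[A] MvPolynomial (Fin n) A :=
    MvPolynomial.aeval (Fin.append (fun j => MvPolynomial.X j) a)
  let β : MvPolynomial (Fin (n + r)) A →ₐ[A] MvPolynomial (Fin n) A :=
    MvPolynomial.aeval (Fin.append (fun j => MvPolynomial.X j) (fun _ => 0))
  let pt : MvPolynomial (Fin (n + r)) A ⊗[A] M :=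
    ι.toLinearMap.rTensor M p' + ∑ i, (MvPolynomial.X (Fin.natAdd n i)) ⊗ₜ[A] mm i
  have hαι : α.comp ι = AlgHom.id A _ := by
    apply MvPolynomial.algHom_ext
    intro j
    simp [α, ι, MvPolynomial.rename_X, Fin.append_left]
  have hβι : β.comp ι = AlgHom.id A _ := by
    apply MvPolynomial.algHom_ext
    intro j
    simp [β, ι, MvPolynomial.rename_X, Fin.append_left]
  have hα : α.toLinearMap.rTensor M pt = p := by
    rw [hp]
    simp only [pt, map_add, map_sum, rTensor_tmul, AlgHom.toLinearMap_apply]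
    rw [← rTensor_comp_apply, ← AlgHom.comp_toLinearMap, hαι]
    simp [α, Fin.append_right]
  have hβ : β.toLinearMap.rTensor M pt = p' := by
    simp only [pt, map_add, map_sum, rTensor_tmul, AlgHom.toLinearMap_apply]
    rw [← rTensor_comp_apply, ← AlgHom.comp_toLinearMap, hβι]
    simp [β, Fin.append_right]
  have hψ : ψ.comp α = ψ.comp β := by
    apply MvPolynomial.algHom_ext
    intro k
    induction k using Fin.addCases with
    | left j => simp [α, β, Fin.append_left]
    | right i => simp [α, β, Fin.append_right, ha]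
  calc ψ.toLinearMap.rTensor N (T n p)
      = ψ.toLinearMap.rTensor N (T n (α.toLinearMap.rTensor M pt)) := by rw [hα]
    _ = ψ.toLinearMap.rTensor N (α.toLinearMap.rTensor N (T (n + r) pt)) := by
        rw [hT_apply T hT]
    _ = (ψ.comp α).toLinearMap.rTensor N (T (n + r) pt) := by
        rw [AlgHom.comp_toLinearMap, rTensor_comp_apply]
    _ = (ψ.comp β).toLinearMap.rTensor N (T (n + r) pt) := by rw [hψ]
    _ = ψ.toLinearMap.rTensor N (β.toLinearMap.rTensor N (T (n + r) pt)) := by
        rw [AlgHom.comp_toLinearMap, rTensor_comp_apply]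
    _ = ψ.toLinearMap.rTensor N (T n (β.toLinearMap.rTensor M pt)) := by
        rw [hT_apply T hT]
    _ = ψ.toLinearMap.rTensor N (T n p') := by rw [hβ]

include hT in
lemma eq_of_rangeRestrict_eq {S : Type*} [CommSemiring S] [Algebra A S] (n : ℕ)
    (ψ : MvPolynomial (Fin n) A →ₐ[A] S) (p p' : MvPolynomial (Fin n) A ⊗[A] M)
    (h : ψ.rangeRestrict.toLinearMap.rTensor M p = ψ.rangeRestrict.toLinearMap.rTensor M p') :
    ψ.toLinearMap.rTensor N (T n p) = ψ.toLinearMap.rTensor N (T n p') := by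
  classical
  have hfs : Function.Surjective ψ.rangeRestrict := ψ.rangeRestrict_surjective
  let I : Ideal (MvPolynomial (Fin n) A) := RingHom.ker ψ.rangeRestrict
  let e := Ideal.quotientKerAlgEquivOfSurjective hfs
  let q : MvPolynomial (Fin n) A →ₐ[A] (MvPolynomial (Fin n) A ⧸ I) := Ideal.Quotient.mkₐ A I
  have hfe : ψ.rangeRestrict = e.toAlgHom.comp q := by
    ext x
    rfl
  have hq : q.toLinearMap.rTensor M p = q.toLinearMap.rTensor M p' := by
    have h' := h
    rw [hfe, AlgHom.comp_toLinearMap, rTensor_comp_apply, rTensor_comp_apply] at h'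
    have hinj : Function.Injective (e.toAlgHom.toLinearMap.rTensor M) := by
      have : e.toAlgHom.toLinearMap = (e.toLinearEquiv : _ →ₗ[A] _) := rfl
      rw [this]
      exact (LinearEquiv.rTensor M e.toLinearEquiv).injective
    exact hinj h'
  have hex : Function.Exact ((I.restrictScalars A).subtype.rTensor M)
      (q.toLinearMap.rTensor M) := by
    apply rTensor_exact M
    · intro y
      constructor
      · intro hy
        have : y ∈ I := Ideal.Quotient.eq_zero_iff_mem.mp hy
        exact ⟨⟨y, this⟩, rfl⟩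
      · rintro ⟨⟨y, hy⟩, rfl⟩
        exact Ideal.Quotient.eq_zero_iff_mem.mpr hy
    · exact Ideal.Quotient.mkₐ_surjective A I
  have hfin : ∀ z : (I.restrictScalars A) ⊗[A] M,
      ∃ (r : ℕ) (a : Fin r → I.restrictScalars A) (mm : Fin r → M),
      z = ∑ i, a i ⊗ₜ[A] mm i := by
    intro z
    induction z using TensorProduct.induction_on with
    | zero => exact ⟨0, Fin.elim0, Fin.elim0, by simp⟩
    | tmul x y => exact ⟨1, fun _ => x, fun _ => y, by simp⟩
    | add x y hx hy =>
      obtain ⟨r1, a1, m1, h1⟩ := hx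
      obtain ⟨r2, a2, m2, h2⟩ := hy
      exact ⟨r1 + r2, Fin.append a1 a2, Fin.append m1 m2, by
        rw [Fin.sum_univ_add]; simp [h1, h2]⟩
  obtain ⟨z, hz⟩ := (hex (p - p')).mp (by rw [map_sub, hq, sub_self])
  obtain ⟨r, a, mm, hzr⟩ := hfin z
  apply kernel_trick T hT n ψ p p' r (fun i => (a i : MvPolynomial (Fin n) A)) mm
  · intro i
    have h1 : (a i : MvPolynomial (Fin n) A) ∈ I := (a i).2
    have h2 : ψ.rangeRestrict (a i : MvPolynomial (Fin n) A) = 0 := h1
    have h3 := congrArg Subtype.val h2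
    simpa using h3
  · rw [hzr, map_sum] at hz
    simp only [rTensor_tmul, Submodule.coe_subtype] at hz
    rw [hz]
    abel

include hT in
lemma wellDefined {S : Type*} [CommSemiring S] [Algebra A S] (n n' : ℕ)
    (ψ : MvPolynomial (Fin n) A →ₐ[A] S) (ψ' : MvPolynomial (Fin n') A →ₐ[A] S)
    (p : MvPolynomial (Fin n) A ⊗[A] M) (p' : MvPolynomial (Fin n') A ⊗[A] M)
    (h : ψ.toLinearMap.rTensor M p = ψ'.toLinearMap.rTensor M p') :
    ψ.toLinearMap.rTensor N (T n p) = ψ'.toLinearMap.rTensor N (T n' p') := by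
  classical
  have uFG : ψ.range.FG := by
    rw [← Algebra.map_top]
    exact Subalgebra.FG.map _ Algebra.FiniteType.out
  have u'FG : ψ'.range.FG := by
    rw [← Algebra.map_top]
    exact Subalgebra.FG.map _ Algebra.FiniteType.out
  have huu' : ψ.range.val.toLinearMap.rTensor M (ψ.rangeRestrict.toLinearMap.rTensor M p)
      = ψ'.range.val.toLinearMap.rTensor M (ψ'.rangeRestrict.toLinearMap.rTensor M p') := by
    simp only [← LinearMap.comp_apply, ← rTensor_comp, ← AlgHom.comp_toLinearMap,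
      AlgHom.val_comp_rangeRestrict, h]
  obtain ⟨B, hAB, hA'B, hBfg, hB⟩ :=
    TensorProduct.Algebra.eq_of_fg_of_subtype_eq' (R := A) uFG u'FG huu'
  obtain ⟨k, Ψ, hΨ⟩ : ∃ (k : ℕ) (Ψ : MvPolynomial (Fin k) A →ₐ[A] S), Ψ.range = B := by
    obtain ⟨s, hs⟩ := PolynomialLaw.exists_range_φ_eq_of_fg hBfg
    exact ⟨s.card, PolynomialLaw.φ A s, hs⟩
  subst hΨ
  have hlift : ∀ (j : ℕ) (χ : MvPolynomial (Fin j) A →ₐ[A] S), χ.range ≤ Ψ.range →
      ∃ θ : MvPolynomial (Fin j) A →ₐ[A] MvPolynomial (Fin k) A, Ψ.comp θ = χ := by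
    intro j χ hχ
    have : ∀ i : Fin j, ∃ y, Ψ y = χ (MvPolynomial.X i) := fun i =>
      hχ (AlgHom.mem_range_self χ _)
    choose y hy using this
    refine ⟨MvPolynomial.aeval y, ?_⟩
    apply MvPolynomial.algHom_ext
    intro i
    simp [hy]
  obtain ⟨θ, hθ⟩ := hlift n ψ hAB
  obtain ⟨θ', hθ'⟩ := hlift n' ψ' hA'B
  have key : Ψ.toLinearMap.rTensor N (T k (θ.toLinearMap.rTensor M p))
      = Ψ.toLinearMap.rTensor N (T k (θ'.toLinearMap.rTensor M p')) := by
    apply eq_of_rangeRestrict_eq T hT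
    have e1 : Ψ.rangeRestrict.comp θ = (Subalgebra.inclusion hAB).comp ψ.rangeRestrict := by
      ext x
      have := congrArg (fun f => f (MvPolynomial.X x)) hθ
      simpa using this
    have e2 : Ψ.rangeRestrict.comp θ' = (Subalgebra.inclusion hA'B).comp ψ'.rangeRestrict := by
      ext x
      have := congrArg (fun f => f (MvPolynomial.X x)) hθ'
      simpa using this
    rw [← rTensor_comp_apply, ← AlgHom.comp_toLinearMap, e1, ← rTensor_comp_apply,
      ← AlgHom.comp_toLinearMap, e2]
    simp only [AlgHom.comp_toLinearMap, rTensor_comp_apply]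
    exact hB
  calc ψ.toLinearMap.rTensor N (T n p)
      = (Ψ.comp θ).toLinearMap.rTensor N (T n p) := by rw [hθ]
    _ = Ψ.toLinearMap.rTensor N (θ.toLinearMap.rTensor N (T n p)) := by
        rw [AlgHom.comp_toLinearMap, rTensor_comp_apply]
    _ = Ψ.toLinearMap.rTensor N (T k (θ.toLinearMap.rTensor M p)) := by rw [hT_apply T hT]
    _ = Ψ.toLinearMap.rTensor N (T k (θ'.toLinearMap.rTensor M p')) := key
    _ = Ψ.toLinearMap.rTensor N (θ'.toLinearMap.rTensor N (T n' p')) := by rw [hT_apply T hT]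
    _ = (Ψ.comp θ').toLinearMap.rTensor N (T n' p') := by
        rw [AlgHom.comp_toLinearMap, rTensor_comp_apply]
    _ = ψ'.toLinearMap.rTensor N (T n' p') := by rw [hθ']

/-- value of the extended law on `S ⊗ M`, through a chosen lift. -/
noncomputable def toFunAux (S : Type u) [CommSemiring S] [Algebra A S] (t : S ⊗[A] M) : S ⊗[A] N :=
  (PolynomialLaw.exists_lift (R := A) t).choose_spec.choose.toLinearMap.rTensor N
    (T (PolynomialLaw.exists_lift (R := A) t).choose
      (PolynomialLaw.exists_lift (R := A) t).choose_spec.choose_spec.choose)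

include hT in
lemma toFunAux_eq (S : Type u) [CommSemiring S] [Algebra A S] (n : ℕ)
    (ψ : MvPolynomial (Fin n) A →ₐ[A] S) (p : MvPolynomial (Fin n) A ⊗[A] M) :
    toFunAux T S (ψ.toLinearMap.rTensor M p) = ψ.toLinearMap.rTensor N (T n p) := by
  unfold toFunAux
  apply wellDefined T hT
  exact (PolynomialLaw.exists_lift (R := A)
    (ψ.toLinearMap.rTensor M p)).choose_spec.choose_spec.choose_spec

end Groth.Agent.H88.PolyLawFam

namespace Groth.Agent.H88.PolyLawFam

variable {A : Type u} [CommRing A] {M : Type v} [AddCommGroup M] [Module A M]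
  {N : Type w} [AddCommGroup N] [Module A N]

/-- the polynomial law attached to a compatible family on polynomial rings. -/
noncomputable def ofFamily
    (T : ∀ n : ℕ, MvPolynomial (Fin n) A ⊗[A] M → MvPolynomial (Fin n) A ⊗[A] N)
    (hT : ∀ (n m : ℕ) (φ : MvPolynomial (Fin n) A →ₐ[A] MvPolynomial (Fin m) A),
      φ.toLinearMap.rTensor N ∘ T n = T m ∘ φ.toLinearMap.rTensor M) : M →ₚₗ[A] N where
  toFun' S _ _ := toFunAux T S
  isCompat' := by
    intro S _ _ S' _ _ φ
    funext t
    obtain ⟨n, ψ, p, rfl⟩ := PolynomialLaw.exists_lift (R := A) t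
    simp only [Function.comp_apply]
    rw [toFunAux_eq T hT, ← rTensor_comp_apply, ← AlgHom.comp_toLinearMap,
      ← rTensor_comp_apply, ← AlgHom.comp_toLinearMap, toFunAux_eq T hT]

theorem bijective_restrict :
    Function.Bijective (fun F : M →ₚₗ[A] N =>
      (⟨fun n => F.toFun' (MvPolynomial (Fin n) A), fun n m φ => F.isCompat' φ⟩ :
        {T : ∀ n : ℕ, MvPolynomial (Fin n) A ⊗[A] M → MvPolynomial (Fin n) A ⊗[A] N //
          ∀ (n m : ℕ) (φ : MvPolynomial (Fin n) A →ₐ[A] MvPolynomial (Fin m) A),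
            φ.toLinearMap.rTensor N ∘ T n = T m ∘ φ.toLinearMap.rTensor M})) := by
  constructor
  · intro F G hFG
    have h1 : ∀ n, F.toFun' (MvPolynomial (Fin n) A) = G.toFun' (MvPolynomial (Fin n) A) := by
      intro n
      exact congrFun (congrArg Subtype.val hFG) n
    apply PolynomialLaw.ext
    funext S _ _ t
    obtain ⟨n, ψ, p, rfl⟩ := PolynomialLaw.exists_lift (R := A) t
    have hF := congrFun (F.isCompat' ψ) p
    have hG := congrFun (G.isCompat' ψ) p
    simp only [Function.comp_apply] at hF hG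
    rw [← hF, ← hG, h1 n]
  · rintro ⟨T, hT⟩
    refine ⟨ofFamily T hT, ?_⟩
    apply Subtype.ext
    funext n p
    show toFunAux T (MvPolynomial (Fin n) A) p = T n p
    have := toFunAux_eq T hT (MvPolynomial (Fin n) A) n (AlgHom.id A _) p
    simpa using this

end Groth.Agent.H88.PolyLawFam
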