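import Mathlib

set_option autoImplicit false

open AlgebraicGeometry CategoryTheory TopologicalSpace

namespace Groth.Agent.H88.CDivAux

universe u

section Algebra

variable {A : Type*} [CommRing A]

lemma isUnit_of_span_pow_eq {a : A} (ha : a ∈ nonZeroDivisors A) {p q : ℕ} (hpq : p < q)
    (h : Ideal.span {a} ^ p = Ideal.span {a} ^ q) : IsUnit a := by
  rw [Ideal.span_singleton_pow, Ideal.span_singleton_pow] at h
  have hmem : a ^ p ∈ Ideal.span {a ^ q} := by
    rw [← h]; exact Ideal.mem_span_singleton_self _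
  obtain ⟨c, hc⟩ := Ideal.mem_span_singleton'.mp hmem
  have hq : a ^ q = a ^ (q - p) * a ^ p := by
    rw [← pow_add]; congr 1; omega
  have h1 : (c * a ^ (q - p)) * a ^ p = 1 * a ^ p := by
    rw [one_mul, mul_assoc, ← hq, hc]
  have h2 : c * a ^ (q - p) = 1 :=
    (mul_cancel_right_mem_nonZeroDivisors (pow_mem ha p)).mp h1
  have h3 : IsUnit (a ^ (q - p)) := IsUnit.of_mul_eq_one _ (by rw [mul_comm]; exact h2)
  exact (isUnit_pow_iff (by omega)).mp h3

lemma cross_mul_eq {d e : A} (hd : d ∈ nonZeroDivisors A) (he : e ∈ nonZeroDivisors A)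
    (hne : ¬ (IsUnit d ∧ IsUnit e)) {m n m' n' : ℕ}
    (h1 : Ideal.span {d} ^ m = Ideal.span {e} ^ n)
    (h2 : Ideal.span {d} ^ m' = Ideal.span {e} ^ n') :
    m * n' = m' * n := by
  by_contra hcon
  have hI : Ideal.span {d} ^ (m * n') = Ideal.span {d} ^ (m' * n) := by
    rw [pow_mul, h1, ← pow_mul, mul_comm n n', pow_mul, ← h2, ← pow_mul]
  have hJ : Ideal.span {e} ^ (m * n') = Ideal.span {e} ^ (m' * n) := by
    rw [mul_comm m n', pow_mul, ← h2, ← pow_mul, mul_comm m' m, pow_mul, h1, ← pow_mul, mul_comm]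
  apply hne
  rcases lt_or_gt_of_ne hcon with h | h
  · exact ⟨isUnit_of_span_pow_eq hd h hI, isUnit_of_span_pow_eq he h hJ⟩
  · exact ⟨isUnit_of_span_pow_eq hd h hI.symm, isUnit_of_span_pow_eq he h hJ.symm⟩

end Algebra

variable {X : Scheme.{u}}

/-- the stalk ideal of an ideal sheaf at `x`, computed on an affine open `U ∋ x`. -/
noncomputable def stalkIdealOn (I : X.IdealSheafData) (U : X.affineOpens) (x : X) (hx : x ∈ U.1) :
    Ideal (X.presheaf.stalk x) :=
  (I.ideal U).map (X.presheaf.germ U.1 x hx).hom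

lemma stalkIdealOn_eq_of_le (I : X.IdealSheafData) {U V : X.affineOpens} (h : U ≤ V) (x : X)
    (hx : x ∈ U.1) : stalkIdealOn I U x hx = stalkIdealOn I V x (h hx) := by
  unfold stalkIdealOn
  rw [← I.map_ideal h, Ideal.map_map, ← CommRingCat.hom_comp]
  congr 2
  exact X.presheaf.germ_res (homOfLE h) x hx

lemma stalkIdealOn_indep (I : X.IdealSheafData) (U V : X.affineOpens) (x : X)
    (hxU : x ∈ U.1) (hxV : x ∈ V.1) : stalkIdealOn I U x hxU = stalkIdealOn I V x hxV := by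
  obtain ⟨W, hW, hxW, hWUV⟩ := (Opens.isBasis_iff_nbhd.mp X.isBasis_affineOpens)
    (show x ∈ U.1 ⊓ V.1 from ⟨hxU, hxV⟩)
  let W' : X.affineOpens := ⟨W, hW⟩
  have h1 : W' ≤ U := fun y hy => (hWUV hy).1
  have h2 : W' ≤ V := fun y hy => (hWUV hy).2
  rw [← stalkIdealOn_eq_of_le I h1 x hxW, ← stalkIdealOn_eq_of_le I h2 x hxW]

lemma stalkIdealOn_pow (I : X.IdealSheafData) (U : X.affineOpens) (x : X) (hx : x ∈ U.1) (n : ℕ) :
    (I.ideal U ^ n).map (X.presheaf.germ U.1 x hx).hom = stalkIdealOn I U x hx ^ n := by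
  unfold stalkIdealOn
  rw [Ideal.map_pow]

lemma stalkIdealOn_span (I : X.IdealSheafData) (U : X.affineOpens) (x : X) (hx : x ∈ U.1)
    (g : Γ(X, U.1)) (hg : I.ideal U = Ideal.span {g}) :
    stalkIdealOn I U x hx = Ideal.span {(X.presheaf.germ U.1 x hx).hom g} := by
  unfold stalkIdealOn
  rw [hg, Ideal.map_span, Set.image_singleton]

lemma germ_mem_nonZeroDivisors (U : X.affineOpens) (x : X) (hx : x ∈ U.1)
    (g : Γ(X, U.1)) (hg : g ∈ nonZeroDivisors Γ(X, U.1)) :
    (X.presheaf.germ U.1 x hx).hom g ∈ nonZeroDivisors (X.presheaf.stalk x) := by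
  let _ := X.presheaf.algebra_section_stalk (U := U.1) ⟨x, hx⟩
  have := U.2.isLocalization_stalk ⟨x, hx⟩
  exact IsLocalization.map_nonZeroDivisors_le (U.2.primeIdealOf ⟨x, hx⟩).asIdeal.primeCompl
    (X.presheaf.stalk x) (Submonoid.mem_map_of_mem _ hg)

lemma not_isUnit_germ_of_mem_support (I : X.IdealSheafData) (U : X.affineOpens) (x : X)
    (hx : x ∈ U.1) (g : Γ(X, U.1)) (hg : I.ideal U = Ideal.span {g}) (hxs : x ∈ I.support) :
    ¬ IsUnit ((X.presheaf.germ U.1 x hx).hom g) := by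
  rw [Scheme.IdealSheafData.mem_support_iff_of_mem hx, Scheme.mem_zeroLocus_iff] at hxs
  have := hxs g (by rw [hg]; exact Ideal.mem_span_singleton_self g)
  rwa [X.mem_basicOpen g x hx] at this

lemma stalkIdealOn_eq_top_of_not_mem_support (I : X.IdealSheafData) (U : X.affineOpens) (x : X)
    (hx : x ∈ U.1) (hxs : x ∉ I.support) : stalkIdealOn I U x hx = ⊤ := by
  rw [Scheme.IdealSheafData.mem_support_iff_of_mem hx, Scheme.mem_zeroLocus_iff] at hxs
  push Not at hxs
  obtain ⟨f, hf, hxf⟩ := hxs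
  rw [X.mem_basicOpen f x hx] at hxf
  exact Ideal.eq_top_of_isUnit_mem _ (Ideal.mem_map_of_mem _ hf) hxf

end Groth.Agent.H88.CDivAux
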