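import Mathlib.RingTheory.Ideal.Height
import Mathlib.RingTheory.Ideal.MinimalPrime.Noetherian
import Mathlib.RingTheory.Ideal.KrullsHeightTheorem

set_option autoImplicit false

namespace Groth.Agent.H88

variable {R : Type*} [CommRing R] [IsNoetherianRing R]

theorem exists_family_height (I : Ideal R) (r : ℕ) :
    ∃ f : Fin r → R, (∀ i, f i ∈ I) ∧ ∀ (p : Ideal R) [p.IsPrime],
      Ideal.span (Set.range f) ≤ p → ¬ I ≤ p → (r : ℕ∞) ≤ p.height := by
  induction r with
  | zero =>
    refine ⟨Fin.elim0, fun i => i.elim0, fun p _ _ _ => ?_⟩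
    simp
  | succ r ih =>
    obtain ⟨f, hfI, hf⟩ := ih
    set J : Ideal R := Ideal.span (Set.range f) with hJ
    let S := { K | K ∈ J.minimalPrimes ∧ ¬ I ≤ K }
    have hS : Set.Finite S := Set.Finite.subset J.finite_minimalPrimes_of_isNoetherianRing
      (fun _ h => h.1)
    have : ¬(I : Set R) ⊆ ⋃ K ∈ hS.toFinset, (K : Set R) := by
      refine (Ideal.subset_union_prime ⊥ ⊥ ?_).not.mpr ?_
      · rintro K hK - -
        rw [Set.Finite.mem_toFinset] at hK
        exact hK.1.isPrime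
      · push Not
        intro K hK e
        rw [Set.Finite.mem_toFinset] at hK
        exact hK.2 e
    simp_rw [Set.not_subset, Set.mem_iUnion, not_exists, Set.Finite.mem_toFinset] at this
    obtain ⟨x, hx₁, hx₂⟩ := this
    refine ⟨Fin.snoc f x, ?_, ?_⟩
    · intro i
      refine Fin.lastCases ?_ (fun j => ?_) i
      · simpa using hx₁
      · simpa using hfI j
    · intro p hp hle hIp
      have hJp : J ≤ p := by
        refine le_trans (Ideal.span_mono ?_) hle
        rintro _ ⟨j, rfl⟩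
        exact ⟨j.castSucc, by simp⟩
      have hxp : x ∈ p := hle (Ideal.subset_span ⟨Fin.last r, by simp⟩)
      obtain ⟨K, hK, hKp⟩ := Ideal.exists_minimalPrimes_le hJp
      have hKprime : K.IsPrime := hK.isPrime
      have hIK : ¬ I ≤ K := fun h => hIp (h.trans hKp)
      have hxK : x ∉ K := hx₂ K ⟨hK, hIK⟩
      have hlt : K < p := lt_of_le_of_ne hKp (fun h => hxK (h ▸ hxp))
      have h1 : (r : ℕ∞) ≤ K.height := hf K hK.1.2 hIK
      have h2 := Ideal.height_add_one_le_of_lt_of_isPrime hlt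
      push_cast
      exact (add_le_add_left h1 1).trans h2

theorem exists_family_iff (I : Ideal R) (r : ℕ) :
    ∃ f : Fin r → R, (∀ i, f i ∈ I) ∧ ∀ (p : Ideal R) [p.IsPrime], p.height < r →
      (I ≤ p ↔ Ideal.span (Set.range f) ≤ p) := by
  obtain ⟨f, hfI, hf⟩ := exists_family_height I r
  refine ⟨f, hfI, fun p _ hp => ⟨fun h => ?_, fun h => ?_⟩⟩
  · refine le_trans (Ideal.span_le.2 ?_) h
    rintro _ ⟨j, rfl⟩
    exact hfI j
  · by_contra hIp
    exact absurd (hf p h hIp) (not_le.2 hp)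

theorem radical_eq_of_forall_prime {I J : Ideal R}
    (h : ∀ (p : Ideal R) [p.IsPrime], I ≤ p ↔ J ≤ p) : I.radical = J.radical := by
  rw [Ideal.radical_eq_sInf, Ideal.radical_eq_sInf]
  congr 1
  ext p
  constructor
  · rintro ⟨h1, h2⟩
    exact ⟨(@h p h2).1 h1, h2⟩
  · rintro ⟨h1, h2⟩
    exact ⟨(@h p h2).2 h1, h2⟩

end Groth.Agent.H88
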