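import Mathlib
import Groth.Agent.H1.CSACore
import Groth.Agent.H97.FFDescent

/-!
# Azumaya algebras and their fibres

* over a field: Azumaya ⇔ central simple and finite dimensional;
* a linear map of finite modules over a local ring with free target is bijective as soon as its
  reduction modulo the maximal ideal is;
* a linear map of finite projective modules is bijective as soon as all its fibres at maximal
  ideals are.
-/

set_option autoImplicit false

open TensorProduct

namespace Groth.Agent.H88.AzumayaFibre

universe u v w

section field

variable (k : Type u) [Field k] (C : Type v) [Ring C] [Algebra k C]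

/-- A finite-dimensional central simple algebra over a field is Azumaya. -/
theorem isAzumaya_of_csa [Algebra.IsCentral k C] [IsSimpleRing C] [FiniteDimensional k C] :
    IsAzumaya k C := by
  have : FiniteDimensional k Cᵐᵒᵖ := Module.Finite.equiv (MulOpposite.opLinearEquiv k (M := C))
  have hs : IsSimpleRing (C ⊗[k] Cᵐᵒᵖ) := Groth.Agent.H1.isSimpleRing_tensor
  have hfaith : FaithfulSMul k C := inferInstance
  refine { bij := ?_ }
  have hinj : Function.Injective (AlgHom.mulLeftRight k C) :=
    RingHom.injective (AlgHom.mulLeftRight k C).toRingHom
  have hfr : Module.finrank k (C ⊗[k] Cᵐᵒᵖ) = Module.finrank k (Module.End k C) := by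
    rw [Module.finrank_tensorProduct, Module.finrank_linearMap,
      ← (MulOpposite.opLinearEquiv k (M := C)).finrank_eq]
  exact ⟨hinj, (LinearMap.injective_iff_surjective_of_finrank_eq_finrank
    (f := (AlgHom.mulLeftRight k C).toLinearMap) hfr).mp hinj⟩

/-- An Azumaya algebra over a field is a simple ring. -/
theorem isSimpleRing_of_isAzumaya [IsAzumaya k C] : IsSimpleRing C := by
  classical
  have hnt : Nontrivial C := by
    by_contra h
    rw [not_nontrivial_iff_subsingleton] at h
    have : (1 : k) = 0 := FaithfulSMul.eq_of_smul_eq_smul (α := C)
      (fun x => Subsingleton.elim _ _)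
    exact one_ne_zero this
  refine IsSimpleRing.of_eq_bot_or_eq_top fun I => ?_
  by_cases hI : I = ⊥
  · exact Or.inl hI
  right
  obtain ⟨x, hxI, hx0⟩ : ∃ x ∈ I, x ≠ 0 := by
    by_contra hcon
    push Not at hcon
    apply hI
    rw [eq_bot_iff]
    intro x hx
    rw [TwoSidedIdeal.mem_bot]
    exact hcon x hx
  rw [eq_top_iff]
  intro y _
  -- a linear map sending `x` to `y`
  have hinj : Function.Injective (LinearMap.toSpanSingleton k C x) := by
    intro a b hab
    simp only [LinearMap.toSpanSingleton_apply] at hab
    exact smul_left_injective k hx0 hab
  obtain ⟨g, hg⟩ := LinearMap.exists_leftInverse_of_injective (LinearMap.toSpanSingleton k C x)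
    (LinearMap.ker_eq_bot.mpr hinj)
  have hgx : g x = 1 := by
    have := LinearMap.congr_fun hg 1
    simpa using this
  let h : Module.End k C := (LinearMap.toSpanSingleton k C y) ∘ₗ g
  have hhx : h x = y := by simp [h, hgx]
  obtain ⟨t, ht⟩ := (IsAzumaya.bij (R := k) (A := C)).2 h
  have key : ∀ t : C ⊗[k] Cᵐᵒᵖ, AlgHom.mulLeftRight k C t x ∈ I := by
    intro t
    induction t using TensorProduct.induction_on with
    | zero => simp [I.zero_mem]
    | tmul a b =>
      rw [AlgHom.mulLeftRight_apply]
      exact I.mul_mem_right _ _ (I.mul_mem_left _ _ hxI)
    | add s t hs ht =>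
      rw [map_add, LinearMap.add_apply]
      exact I.add_mem hs ht
  have := key t
  rw [ht, hhx] at this
  exact this

end field

section local_

variable {R : Type u} [CommRing R] [IsLocalRing R]
variable {M : Type v} {N : Type w} [AddCommGroup M] [Module R M] [AddCommGroup N] [Module R N]

/-- A linear map of finite modules over a local ring, with free target, is bijective if its
reduction to the residue field is. -/
theorem bijective_of_lTensor_residueField_bijective [Module.Finite R M] [Module.Finite R N]
    [Module.Free R N] (f : M →ₗ[R] N)
    (hf : Function.Bijective (f.lTensor (IsLocalRing.ResidueField R))) :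
    Function.Bijective f := by
  constructor
  · obtain ⟨l', hl'⟩ :=
      (IsLocalRing.split_injective_iff_lTensor_residueField_injective f).mpr hf.1
    exact Function.HasLeftInverse.injective ⟨l', LinearMap.congr_fun hl'⟩
  · rw [← LinearMap.range_eq_top, ← IsLocalRing.map_tensorProduct_mk_eq_top]
    rw [eq_top_iff]
    intro z _
    obtain ⟨y, rfl⟩ := hf.2 z
    obtain ⟨m, rfl⟩ := TensorProduct.mk_surjective R M (IsLocalRing.ResidueField R)
      Ideal.Quotient.mk_surjective y
    refine ⟨f m, LinearMap.mem_range_self f m, ?_⟩
    simp

end local_

end Groth.Agent.H88.AzumayaFibre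

namespace Groth.Agent.H88.AzumayaFibre

universe u v w

section local_azumaya

variable (R : Type u) [CommRing R] [IsLocalRing R] (A : Type v) [Ring A] [Algebra R A]

/-- Over a local ring, a nonzero finite free algebra whose special fibre is central simple is
Azumaya. -/
theorem isAzumaya_of_fibre_local [Module.Finite R A] [Module.Free R A] [Nontrivial A]
    [Algebra.IsCentral (IsLocalRing.ResidueField R) ((IsLocalRing.ResidueField R) ⊗[R] A)]
    [IsSimpleRing ((IsLocalRing.ResidueField R) ⊗[R] A)] : IsAzumaya R A := by
  have hk : IsAzumaya (IsLocalRing.ResidueField R) ((IsLocalRing.ResidueField R) ⊗[R] A) :=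
    isAzumaya_of_csa _ _
  refine { bij := ?_ }
  obtain ⟨E, G, hEG⟩ :=
    Groth.Agent.H97.FFDescent.mulLeftRight_square R (IsLocalRing.ResidueField R) A
  have hbijS : Function.Bijective (AlgHom.mulLeftRight (IsLocalRing.ResidueField R)
      ((IsLocalRing.ResidueField R) ⊗[R] A)) := IsAzumaya.bij
  have h1 : Function.Bijective (fun x => G (LinearMap.lTensor (IsLocalRing.ResidueField R)
      (AlgHom.mulLeftRight R A).toLinearMap x)) := by
    have : (fun x => G (LinearMap.lTensor (IsLocalRing.ResidueField R)
        (AlgHom.mulLeftRight R A).toLinearMap x)) =
        (AlgHom.mulLeftRight (IsLocalRing.ResidueField R)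
          ((IsLocalRing.ResidueField R) ⊗[R] A)) ∘ E := by
      funext x
      exact (hEG x).symm
    rw [this]
    exact hbijS.comp E.bijective
  have h2 : Function.Bijective (LinearMap.lTensor (IsLocalRing.ResidueField R)
      (AlgHom.mulLeftRight R A).toLinearMap) := by
    have : (fun x => G (LinearMap.lTensor (IsLocalRing.ResidueField R)
        (AlgHom.mulLeftRight R A).toLinearMap x)) =
        G ∘ (LinearMap.lTensor (IsLocalRing.ResidueField R)
          (AlgHom.mulLeftRight R A).toLinearMap) := rfl
    rw [this] at h1
    exact (Function.Bijective.of_comp_iff' G.bijective _).mp h1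
  have : Module.Finite R Aᵐᵒᵖ := Module.Finite.equiv (MulOpposite.opLinearEquiv R (M := A))
  exact bijective_of_lTensor_residueField_bijective (AlgHom.mulLeftRight R A).toLinearMap h2

end local_azumaya

end Groth.Agent.H88.AzumayaFibre

namespace Groth.Agent.H88.AzumayaFibre

universe u v w

section global_

variable {R : Type u} [CommRing R]
variable {M : Type v} {N : Type w} [AddCommGroup M] [Module R M] [AddCommGroup N] [Module R N]

/-- The residue field fibre of the localized map is the fibre of the map. -/
theorem lTensor_residueField_baseChange_bijective (P : Ideal R) [P.IsPrime] (F : M →ₗ[R] N)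
    (hF : Function.Bijective (F.lTensor P.ResidueField)) :
    Function.Bijective ((F.baseChange (Localization.AtPrime P)).lTensor
      (IsLocalRing.ResidueField (Localization.AtPrime P))) := by
  let eM := AlgebraTensorModule.cancelBaseChange R (Localization.AtPrime P) P.ResidueField
    P.ResidueField M
  let eN := AlgebraTensorModule.cancelBaseChange R (Localization.AtPrime P) P.ResidueField
    P.ResidueField N
  have hsq : ∀ x, eN ((F.baseChange (Localization.AtPrime P)).lTensor
      (IsLocalRing.ResidueField (Localization.AtPrime P)) x) = F.lTensor P.ResidueField (eM x) := by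
    intro x
    induction x using TensorProduct.induction_on with
    | zero => simp
    | add x y hx hy => simp only [map_add, hx, hy]
    | tmul c y =>
      induction y using TensorProduct.induction_on with
      | zero => simp
      | add x y hx hy => simp only [TensorProduct.tmul_add, map_add, hx, hy]
      | tmul r m => simp [eM, eN]
  have h1 : Function.Bijective (fun x => eN ((F.baseChange (Localization.AtPrime P)).lTensor
      (IsLocalRing.ResidueField (Localization.AtPrime P)) x)) := by
    have : (fun x => eN ((F.baseChange (Localization.AtPrime P)).lTensor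
        (IsLocalRing.ResidueField (Localization.AtPrime P)) x)) =
        (F.lTensor P.ResidueField) ∘ eM := by
      funext x
      exact hsq x
    rw [this]
    exact hF.comp eM.bijective
  exact (Function.Bijective.of_comp_iff' eN.bijective _).mp h1

/-- A linear map of finite projective modules is bijective if all its fibres at maximal ideals
are. -/
theorem bijective_of_fibres [Module.Finite R M] [Module.Projective R M] [Module.Finite R N]
    [Module.Projective R N] (F : M →ₗ[R] N)
    (hF : ∀ (P : Ideal R) [P.IsMaximal], Function.Bijective (F.lTensor P.ResidueField)) :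
    Function.Bijective F := by
  refine bijective_of_isLocalized_maximal
    (fun P _ => Localization.AtPrime P ⊗[R] M)
    (fun P _ => TensorProduct.mk R (Localization.AtPrime P) M 1)
    (fun P _ => Localization.AtPrime P ⊗[R] N)
    (fun P _ => TensorProduct.mk R (Localization.AtPrime P) N 1) F ?_
  intro P hP
  have hmap : IsLocalizedModule.map P.primeCompl
      (TensorProduct.mk R (Localization.AtPrime P) M 1)
      (TensorProduct.mk R (Localization.AtPrime P) N 1) F =
      (F.baseChange (Localization.AtPrime P)).restrictScalars R := by
    apply IsLocalizedModule.linearMap_ext P.primeCompl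
      (TensorProduct.mk R (Localization.AtPrime P) M 1)
      (TensorProduct.mk R (Localization.AtPrime P) N 1)
    ext m
    have h := IsLocalizedModule.map_apply P.primeCompl
      (TensorProduct.mk R (Localization.AtPrime P) M 1)
      (TensorProduct.mk R (Localization.AtPrime P) N 1) F m
    simp only [TensorProduct.mk_apply] at h
    simp [h]
  rw [hmap]
  have : Module.Free (Localization.AtPrime P) (Localization.AtPrime P ⊗[R] N) :=
    Module.free_of_flat_of_isLocalRing
  exact bijective_of_lTensor_residueField_bijective (F.baseChange (Localization.AtPrime P))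
    (lTensor_residueField_baseChange_bijective P F (hF P))

end global_

end Groth.Agent.H88.AzumayaFibre

namespace Groth.Agent.H88.AzumayaFibre

universe u v w

section global_azumaya

variable (R : Type u) [CommRing R]

/-- A finite projective module all of whose fibres at maximal ideals are nonzero is faithful. -/
theorem faithfulSMul_of_fibres (M : Type v) [AddCommGroup M] [Module R M] [Module.Finite R M]
    [Module.Projective R M]
    (h : ∀ (P : Ideal R) [P.IsMaximal], Nontrivial (P.ResidueField ⊗[R] M)) :
    FaithfulSMul R M := by
  have key : ∀ t : R, (∀ m : M, t • m = 0) → t = 0 := by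
    intro t ht
    by_contra ht0
    set I : Ideal R := LinearMap.ker (LinearMap.toSpanSingleton R R t) with hI
    have hItop : I ≠ ⊤ := by
      intro htop
      have h1 : (1 : R) ∈ I := by rw [htop]; trivial
      rw [hI, LinearMap.mem_ker, LinearMap.toSpanSingleton_apply, one_smul] at h1
      exact ht0 h1
    obtain ⟨P, hPmax, hIP⟩ := Ideal.exists_le_maximal I hItop
    have hnt : Nontrivial (Localization.AtPrime P ⊗[R] M) := by
      have h1 : (⟨P, inferInstance⟩ : PrimeSpectrum R) ∈ Module.support R M :=
        (Module.mem_support_iff_nontrivial_residueField_tensorProduct _).mpr (h P)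
      rw [Module.mem_support_iff] at h1
      exact (LocalizedModule.equivTensorProduct P.primeCompl M).nontrivial_congr.mp h1
    have hfree : Module.Free (Localization.AtPrime P) (Localization.AtPrime P ⊗[R] M) :=
      Module.free_of_flat_of_isLocalRing
    have h0 : algebraMap R (Localization.AtPrime P) t = 0 := by
      apply FaithfulSMul.eq_of_smul_eq_smul (α := Localization.AtPrime P ⊗[R] M)
      intro x
      rw [zero_smul]
      induction x using TensorProduct.induction_on with
      | zero => simp
      | add x y hx hy => rw [smul_add, hx, hy, add_zero]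
      | tmul r m =>
        rw [algebraMap_smul, TensorProduct.smul_tmul', TensorProduct.smul_tmul, ht m,
          TensorProduct.tmul_zero]
    obtain ⟨u, hu⟩ := (IsLocalization.map_eq_zero_iff P.primeCompl (Localization.AtPrime P) t).mp h0
    have huI : (u : R) ∈ I := by
      rw [hI, LinearMap.mem_ker, LinearMap.toSpanSingleton_apply, smul_eq_mul]
      exact hu
    exact u.2 (hIP huI)
  refine ⟨fun {r s} hrs => sub_eq_zero.mp (key (r - s) fun m => ?_)⟩
  rw [sub_smul, hrs m, sub_self]

variable (A : Type v) [Ring A] [Algebra R A]

/-- A finite projective algebra all of whose fibres at maximal ideals are central simple is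
Azumaya. -/
theorem isAzumaya_of_fibres [Module.Finite R A] [Module.Projective R A]
    (h : ∀ (P : Ideal R) [P.IsMaximal], Algebra.IsCentral P.ResidueField (P.ResidueField ⊗[R] A) ∧
      IsSimpleRing (P.ResidueField ⊗[R] A)) : IsAzumaya R A := by
  have hfaith : FaithfulSMul R A :=
    faithfulSMul_of_fibres R A fun P hP => by
      have := (h P).2
      infer_instance
  refine { bij := ?_ }
  have : Module.Finite R Aᵐᵒᵖ := Module.Finite.equiv (MulOpposite.opLinearEquiv R (M := A))
  have : Module.Projective R Aᵐᵒᵖ := Module.Projective.of_equiv (MulOpposite.opLinearEquiv R (M := A))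
  have : Module.Projective R (Module.End R A) :=
    Module.Projective.of_equiv (dualTensorHomEquiv R A A)
  have : Module.Finite R (Module.End R A) :=
    Module.Finite.equiv (dualTensorHomEquiv R A A)
  apply bijective_of_fibres (AlgHom.mulLeftRight R A).toLinearMap
  intro P hP
  obtain ⟨h1, h2⟩ := h P
  have hk : IsAzumaya P.ResidueField (P.ResidueField ⊗[R] A) := isAzumaya_of_csa _ _
  obtain ⟨E, G, hEG⟩ := Groth.Agent.H97.FFDescent.mulLeftRight_square R P.ResidueField A
  have hbijS : Function.Bijective (AlgHom.mulLeftRight P.ResidueField
      (P.ResidueField ⊗[R] A)) := IsAzumaya.bij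
  have h1 : Function.Bijective (fun x => G (LinearMap.lTensor P.ResidueField
      (AlgHom.mulLeftRight R A).toLinearMap x)) := by
    have : (fun x => G (LinearMap.lTensor P.ResidueField
        (AlgHom.mulLeftRight R A).toLinearMap x)) =
        (AlgHom.mulLeftRight P.ResidueField (P.ResidueField ⊗[R] A)) ∘ E := by
      funext x
      exact (hEG x).symm
    rw [this]
    exact hbijS.comp E.bijective
  have : (fun x => G (LinearMap.lTensor P.ResidueField
      (AlgHom.mulLeftRight R A).toLinearMap x)) =
      G ∘ (LinearMap.lTensor P.ResidueField (AlgHom.mulLeftRight R A).toLinearMap) := rfl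
  rw [this] at h1
  exact (Function.Bijective.of_comp_iff' G.bijective _).mp h1

end global_azumaya

end Groth.Agent.H88.AzumayaFibre
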