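import Mathlib.NumberTheory.ZetaValues

set_option autoImplicit false

namespace Groth.Agent.H88

open Real

theorem bernoulli_sign {k : ℕ} (hk : k ≠ 0) : 0 < (-1 : ℚ) ^ (k + 1) * bernoulli (2 * k) := by
  have h := hasSum_zeta_nat hk
  have h1 := le_hasSum h 1 (fun j _ => by positivity)
  simp only [Nat.cast_one, one_pow, div_one] at h1
  by_contra hneg
  push Not at hneg
  have hneg' : ((-1 : ℝ) ^ (k + 1) * ((bernoulli (2 * k) : ℚ) : ℝ)) ≤ 0 := by
    have : (((-1 : ℚ) ^ (k + 1) * bernoulli (2 * k) : ℚ) : ℝ) ≤ 0 := by exact_mod_cast hneg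
    push_cast at this
    exact this
  have hc : (0 : ℝ) ≤ (2 : ℝ) ^ (2 * k - 1) * π ^ (2 * k) / ((2 * k).factorial : ℝ) := by
    positivity
  have : (-1 : ℝ) ^ (k + 1) * (2 : ℝ) ^ (2 * k - 1) * π ^ (2 * k) *
      ((bernoulli (2 * k) : ℚ) : ℝ) / ((2 * k).factorial : ℝ) =
      ((2 : ℝ) ^ (2 * k - 1) * π ^ (2 * k) / ((2 * k).factorial : ℝ)) *
        ((-1 : ℝ) ^ (k + 1) * ((bernoulli (2 * k) : ℚ) : ℝ)) := by ring
  rw [this] at h1
  have := mul_nonpos_of_nonneg_of_nonpos hc hneg'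
  linarith

theorem bernoulli'_neg_of_four_dvd {n : ℕ} (hn : n ≠ 0) (h4 : n % 4 = 0) : bernoulli' n < 0 := by
  obtain ⟨k, rfl⟩ : ∃ k, n = 2 * k := ⟨n / 2, by omega⟩
  have hk : k ≠ 0 := by omega
  have := bernoulli_sign hk
  have hodd : Odd (k + 1) := by
    rw [Nat.odd_iff]; omega
  rw [hodd.neg_one_pow] at this
  rw [← bernoulli_eq_bernoulli'_of_ne_one (by omega : 2 * k ≠ 1)]
  linarith

theorem bernoulli'_pos_of_mod_four_eq_two {n : ℕ} (h4 : n % 4 = 2) : 0 < bernoulli' n := by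
  obtain ⟨k, rfl⟩ : ∃ k, n = 2 * k := ⟨n / 2, by omega⟩
  have hk : k ≠ 0 := by omega
  have := bernoulli_sign hk
  have heven : Even (k + 1) := by
    rw [Nat.even_iff]; omega
  rw [heven.neg_one_pow] at this
  rw [← bernoulli_eq_bernoulli'_of_ne_one (by omega : 2 * k ≠ 1)]
  linarith

end Groth.Agent.H88
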