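import Mathlib

set_option autoImplicit false

open Matrix Equiv Finset

namespace Groth.Agent.H88

variable {R : Type*} [CommRing R]

/-- the block permutation of `Fin (p + r)` built from permutations of the two blocks. -/
noncomputable def blockPerm {p r : ℕ} (σ₁ : Perm (Fin p)) (σ₂ : Perm (Fin r)) : Perm (Fin (p + r)) :=
  finSumFinEquiv.permCongr (Equiv.sumCongr σ₁ σ₂)

lemma blockPerm_castAdd {p r : ℕ} (σ₁ : Perm (Fin p)) (σ₂ : Perm (Fin r)) (i : Fin p) :
    blockPerm σ₁ σ₂ (Fin.castAdd r i) = Fin.castAdd r (σ₁ i) := by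
  simp [blockPerm, Equiv.permCongr_apply]

lemma blockPerm_natAdd {p r : ℕ} (σ₁ : Perm (Fin p)) (σ₂ : Perm (Fin r)) (j : Fin r) :
    blockPerm σ₁ σ₂ (Fin.natAdd p j) = Fin.natAdd p (σ₂ j) := by
  simp [blockPerm, Equiv.permCongr_apply]

lemma sign_blockPerm {p r : ℕ} (σ₁ : Perm (Fin p)) (σ₂ : Perm (Fin r)) :
    Perm.sign (blockPerm σ₁ σ₂) = Perm.sign σ₁ * Perm.sign σ₂ := by
  rw [blockPerm, Perm.sign_permCongr, Perm.sign_sumCongr]

/-- product of the two diagonal block minors as a sum over block permutations. -/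
lemma det_block_mul_det_block {p r : ℕ} (X : Matrix (Fin (p + r)) (Fin (p + r)) R) :
    (X.submatrix (Fin.castAdd r) (Fin.castAdd r)).det * (X.submatrix (Fin.natAdd p) (Fin.natAdd p)).det
      = ∑ σ₁ : Perm (Fin p), ∑ σ₂ : Perm (Fin r),
          ((Perm.sign (blockPerm σ₁ σ₂) : ℤ) : R) * ∏ l, X (blockPerm σ₁ σ₂ l) l := by
  rw [det_apply', det_apply', Finset.sum_mul_sum]
  apply Finset.sum_congr rfl
  intro σ₁ _
  apply Finset.sum_congr rfl
  intro σ₂ _
  rw [Fin.prod_univ_add, sign_blockPerm]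
  simp only [submatrix_apply, blockPerm_castAdd, blockPerm_natAdd]
  push_cast
  ring

/-- `∑_π sign π · (diagonal block minors of N·P_π) = p! r! det N`. -/
theorem sum_sign_mul_block_minors {p r : ℕ} (N : Matrix (Fin (p + r)) (Fin (p + r)) R) :
    ∑ π : Perm (Fin (p + r)), ((Perm.sign π : ℤ) : R) *
        ((N * π.permMatrix R).submatrix (Fin.castAdd r) (Fin.castAdd r)).det *
        ((N * π.permMatrix R).submatrix (Fin.natAdd p) (Fin.natAdd p)).det
      = ((p.factorial * r.factorial : ℕ) : R) * N.det := by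
  have h1 : ∀ π : Perm (Fin (p + r)), ((Perm.sign π : ℤ) : R) *
        ((N * π.permMatrix R).submatrix (Fin.castAdd r) (Fin.castAdd r)).det *
        ((N * π.permMatrix R).submatrix (Fin.natAdd p) (Fin.natAdd p)).det
      = ∑ σ₁ : Perm (Fin p), ∑ σ₂ : Perm (Fin r),
          ((Perm.sign (blockPerm σ₁ σ₂ * π) : ℤ) : R) * ∏ l, N ((blockPerm σ₁ σ₂ * π) l) l := by
    intro π
    rw [mul_assoc, det_block_mul_det_block, Finset.mul_sum]
    apply Finset.sum_congr rfl
    intro σ₁ _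
    rw [Finset.mul_sum]
    apply Finset.sum_congr rfl
    intro σ₂ _
    have hprod : ∏ l, (N * π.permMatrix R) (blockPerm σ₁ σ₂ l) l
        = ∏ l, N ((blockPerm σ₁ σ₂ * π) l) l := by
      rw [Perm.permMatrix, PEquiv.mul_toMatrix_toPEquiv]
      simp only [submatrix_apply, id_eq]
      rw [← Equiv.prod_comp π]
      apply Finset.prod_congr rfl
      intro l _
      simp [Perm.mul_apply]
    rw [hprod, Perm.sign_mul]
    push_cast
    ring
  simp_rw [h1]
  rw [Finset.sum_comm]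
  have h2 : ∀ σ₁ : Perm (Fin p), ∑ π : Perm (Fin (p + r)), ∑ σ₂ : Perm (Fin r),
      ((Perm.sign (blockPerm σ₁ σ₂ * π) : ℤ) : R) * ∏ l, N ((blockPerm σ₁ σ₂ * π) l) l
      = (r.factorial : R) * N.det := by
    intro σ₁
    rw [Finset.sum_comm]
    have h3 : ∀ σ₂ : Perm (Fin r), ∑ π : Perm (Fin (p + r)),
        ((Perm.sign (blockPerm σ₁ σ₂ * π) : ℤ) : R) * ∏ l, N ((blockPerm σ₁ σ₂ * π) l) l
        = N.det := by
      intro σ₂
      rw [det_apply']
      exact Fintype.sum_equiv (Equiv.mulLeft (blockPerm σ₁ σ₂)) _ _ (fun π => rfl)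
    simp_rw [h3]
    rw [Finset.sum_const, Finset.card_univ, Fintype.card_perm, Fintype.card_fin, nsmul_eq_mul]
  simp_rw [h2]
  rw [Finset.sum_const, Finset.card_univ, Fintype.card_perm, Fintype.card_fin, nsmul_eq_mul]
  push_cast
  ring

end Groth.Agent.H88
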