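import Mathlib

set_option autoImplicit false

open Matrix Equiv Finset

namespace Groth.Agent.H88

variable {R : Type*} [CommRing R]

/-- first step: expansion over all column-selection functions. -/
theorem det_mul_eq_sum_fun (e r : ℕ) (A : Matrix (Fin e) (Fin r) R) (B : Matrix (Fin r) (Fin e) R) :
    (A * B).det = ∑ p : Fin e → Fin r, (A.submatrix id p).det * ∏ i, B (p i) i := by
  calc (A * B).det
      = ∑ σ : Perm (Fin e), (Perm.sign σ : ℤ) * ∏ i, ∑ k, A (σ i) k * B k i := by
        rw [det_apply']
        rfl
    _ = ∑ σ : Perm (Fin e), (Perm.sign σ : ℤ) * ∑ p : Fin e → Fin r, ∏ i, A (σ i) (p i) * B (p i) i := by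
        apply Finset.sum_congr rfl
        intro σ _
        rw [Finset.prod_univ_sum, Fintype.piFinset_univ]
    _ = ∑ p : Fin e → Fin r, ∑ σ : Perm (Fin e),
          (Perm.sign σ : ℤ) * ((∏ i, A (σ i) (p i)) * ∏ i, B (p i) i) := by
        simp_rw [Finset.mul_sum, Finset.prod_mul_distrib]
        rw [Finset.sum_comm]
    _ = ∑ p : Fin e → Fin r, (A.submatrix id p).det * ∏ i, B (p i) i := by
        apply Finset.sum_congr rfl
        intro p _
        rw [det_apply', Finset.sum_mul]
        apply Finset.sum_congr rfl
        intro σ _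
        simp only [submatrix_apply, id_eq]
        ring

/-- The Cauchy–Binet formula. -/
theorem cauchyBinet (e r : ℕ) (A : Matrix (Fin e) (Fin r) R) (B : Matrix (Fin r) (Fin e) R) :
    (A * B).det = ∑ s : {s : Finset (Fin r) // s.card = e},
      (A.submatrix id (s.1.orderEmbOfFin s.2)).det * (B.submatrix (s.1.orderEmbOfFin s.2) id).det := by
  classical
  rw [det_mul_eq_sum_fun]
  set F : (Fin e → Fin r) → R := fun p => (A.submatrix id p).det * ∏ i, B (p i) i with hF
  -- non-injective functions contribute zero
  have hzero : ∀ p : Fin e → Fin r, ¬ Function.Injective p → F p = 0 := by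
    intro p hp
    obtain ⟨i, j, hpij, hij⟩ : ∃ i j, p i = p j ∧ i ≠ j := by
      rw [Function.Injective] at hp
      push Not at hp
      exact hp
    have : (A.submatrix id p).det = 0 :=
      det_zero_of_column_eq hij (fun k => by simp [submatrix_apply, hpij])
    simp [hF, this]
  have h1 : ∑ p : Fin e → Fin r, F p = ∑ p : {p : Fin e → Fin r // Function.Injective p}, F p.1 := by
    rw [← Finset.sum_subtype (Finset.univ.filter (fun p : Fin e → Fin r => Function.Injective p))
      (by simp) F]
    symm
    apply Finset.sum_subset (Finset.filter_subset _ _)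
    intro p _ hp
    exact hzero p (by simpa using hp)
  rw [h1]
  -- fibre over the image
  let g : {p : Fin e → Fin r // Function.Injective p} → {s : Finset (Fin r) // s.card = e} :=
    fun p => ⟨Finset.univ.image p.1, by rw [Finset.card_image_of_injective _ p.2]; simp⟩
  rw [← Finset.sum_fiberwise Finset.univ g (fun p => F p.1)]
  apply Finset.sum_congr rfl
  intro s _
  -- the fibre over `s` is parametrised by permutations
  have h2 : ∑ p ∈ Finset.univ.filter (fun p => g p = s), F p.1
      = ∑ τ : Perm (Fin e), F (fun i => s.1.orderEmbOfFin s.2 (τ i)) := by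
    symm
    refine Finset.sum_bij (fun τ _ => ⟨fun i => s.1.orderEmbOfFin s.2 (τ i),
      (s.1.orderEmbOfFin s.2).injective.comp τ.injective⟩) ?_ ?_ ?_ ?_
    · intro τ _
      rw [Finset.mem_filter]
      refine ⟨Finset.mem_univ _, ?_⟩
      apply Subtype.ext
      show Finset.univ.image (fun i => s.1.orderEmbOfFin s.2 (τ i)) = s.1
      ext x
      simp only [Finset.mem_image, Finset.mem_univ, true_and]
      constructor
      · rintro ⟨i, rfl⟩
        exact Finset.orderEmbOfFin_mem _ _ _
      · intro hx
        have : x ∈ Set.range (s.1.orderEmbOfFin s.2) := by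
          rw [Finset.range_orderEmbOfFin]; exact hx
        obtain ⟨i, rfl⟩ := this
        exact ⟨τ.symm i, by simp⟩
    · intro τ₁ _ τ₂ _ h
      have h' := congrArg Subtype.val h
      ext i
      have := congrFun h' i
      exact congrArg Fin.val ((s.1.orderEmbOfFin s.2).injective this)
    · intro p hp
      rw [Finset.mem_filter] at hp
      have hps : Finset.univ.image p.1 = s.1 := congrArg Subtype.val hp.2
      have hmem : ∀ i, p.1 i ∈ s.1 := fun i => by
        rw [← hps]; exact Finset.mem_image_of_mem _ (Finset.mem_univ i)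
      let t : Fin e → Fin e := fun i => (s.1.orderIsoOfFin s.2).symm ⟨p.1 i, hmem i⟩
      have htinj : Function.Injective t := by
        intro i j hij
        have := (s.1.orderIsoOfFin s.2).symm.injective hij
        exact p.2 (congrArg Subtype.val this)
      let τ : Perm (Fin e) := Equiv.ofBijective t (Finite.injective_iff_bijective.mp htinj)
      refine ⟨τ, Finset.mem_univ _, ?_⟩
      apply Subtype.ext
      funext i
      show s.1.orderEmbOfFin s.2 (t i) = p.1 i
      rw [← Finset.coe_orderIsoOfFin_apply]
      simp [t]
    · intro τ _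
      rfl
  rw [h2]
  -- evaluate
  have h3 : ∀ τ : Perm (Fin e), F (fun i => s.1.orderEmbOfFin s.2 (τ i))
      = (A.submatrix id (s.1.orderEmbOfFin s.2)).det *
        ((Perm.sign τ : ℤ) * ∏ i, (B.submatrix (s.1.orderEmbOfFin s.2) id) (τ i) i) := by
    intro τ
    simp only [hF]
    have : A.submatrix id (fun i => s.1.orderEmbOfFin s.2 (τ i))
        = (A.submatrix id (s.1.orderEmbOfFin s.2)).submatrix id τ := by
      ext i j; simp [submatrix_apply]
    rw [this, det_permute']
    simp only [submatrix_apply, id_eq]
    ring
  simp_rw [h3]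
  rw [← Finset.mul_sum, ← det_apply']

end Groth.Agent.H88
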