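import Mathlib

/-!
# Homology commutes with direct sums (abelian groups)

A family of short complexes of abelian groups `S n` mapping to `T` so that `T` is degreewise the
direct sum of the `S n`: then the homology of `T` is the direct sum of the homologies.
-/

namespace Groth.Agent.H88

open CategoryTheory Limits DirectSum

universe u

section Groups

variable {J : Type} [DecidableEq J]
  {A B C : J → Type u} [∀ n, AddCommGroup (A n)] [∀ n, AddCommGroup (B n)]
  [∀ n, AddCommGroup (C n)]

/-- The corestriction of `f` to the kernel of `g`. -/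
def cyc {A B C : Type*} [AddCommGroup A] [AddCommGroup B] [AddCommGroup C]
    (f : A →+ B) (g : B →+ C) (h : ∀ x, g (f x) = 0) : A →+ g.ker :=
  f.codRestrict g.ker (fun x => h x)

theorem cyc_coe {A B C : Type*} [AddCommGroup A] [AddCommGroup B] [AddCommGroup C]
    (f : A →+ B) (g : B →+ C) (h : ∀ x, g (f x) = 0) (x : A) : (cyc f g h x : B) = f x := rfl

variable (f : ∀ n, A n →+ B n) (g : ∀ n, B n →+ C n) (hgf : ∀ n x, g n (f n x) = 0)

include hgf in
theorem map_map_eq_zero (x : ⨁ n, A n) : DirectSum.map g (DirectSum.map f x) = 0 := by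
  refine DFinsupp.ext fun n => ?_
  change DirectSum.map g (DirectSum.map f x) n = 0
  rw [DirectSum.map_apply, DirectSum.map_apply, hgf]

theorem mem_ker_map_iff {B C : J → Type u} [∀ n, AddCommGroup (B n)] [∀ n, AddCommGroup (C n)]
    (g : ∀ n, B n →+ C n) (x : ⨁ n, B n) :
    x ∈ (DirectSum.map g).ker ↔ ∀ n, x n ∈ (g n).ker := by
  rw [AddMonoidHom.mem_ker]
  constructor
  · intro h n
    rw [AddMonoidHom.mem_ker, ← DirectSum.map_apply, h]
    rfl
  · intro h
    refine DFinsupp.ext fun n => ?_
    change DirectSum.map g x n = 0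
    rw [DirectSum.map_apply]
    exact h n

theorem mem_range_map_iff {A B : J → Type u} [∀ n, AddCommGroup (A n)] [∀ n, AddCommGroup (B n)]
    (f : ∀ n, A n →+ B n) (x : ⨁ n, B n) :
    x ∈ (DirectSum.map f).range ↔ ∀ n, x n ∈ (f n).range := by
  rw [DirectSum.range_map]
  simp only [AddSubgroup.mem_comap, AddSubgroup.mem_pi, Set.mem_univ, forall_true_left]
  rfl

/-- The homology of a direct sum of three-term complexes of abelian groups. -/
theorem nonempty_directSum_quot_equiv :
    Nonempty ((⨁ n, (g n).ker ⧸ (cyc (f n) (g n) (hgf n)).range) ≃+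
      ((DirectSum.map g).ker ⧸
        (cyc (DirectSum.map f) (DirectSum.map g) (map_map_eq_zero f g hgf)).range)) := by
  classical
  set F := DirectSum.map f with hF
  set G := DirectSum.map g with hG
  let Z : J → Type u := fun n => (g n).ker
  let R : ∀ n, AddSubgroup ((g n).ker) := fun n => (cyc (f n) (g n) (hgf n)).range
  let π : (⨁ n, (g n).ker) →+ ⨁ n, (g n).ker ⧸ R n :=
    DirectSum.map (fun n => QuotientAddGroup.mk' (R n))
  have hπ : Function.Surjective π :=
    (DirectSum.map_surjective _).mpr (fun n => QuotientAddGroup.mk'_surjective (R n))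
  let e1 : (⨁ n, (g n).ker) ⧸ π.ker ≃+ ⨁ n, (g n).ker ⧸ R n :=
    QuotientAddGroup.quotientKerEquivOfSurjective π hπ
  let ι : (⨁ n, (g n).ker) →+ ⨁ n, B n := DirectSum.map (fun n => ((g n).ker).subtype)
  have hι : Function.Injective ι :=
    (DirectSum.map_injective _).mpr (fun n => Subtype.coe_injective)
  have hιapp : ∀ (x : ⨁ n, (g n).ker) (n : J), ι x n = ((x n : (g n).ker) : B n) :=
    fun x n => DirectSum.map_apply _ _ _
  have hrange : ι.range = G.ker := by
    ext x
    rw [mem_range_map_iff, mem_ker_map_iff]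
    constructor
    · intro h n
      obtain ⟨z, hz⟩ := h n
      rw [← hz]
      exact z.2
    · intro h n
      exact ⟨⟨x n, h n⟩, rfl⟩
  let e2 : (⨁ n, (g n).ker) ≃+ G.ker :=
    (AddMonoidHom.ofInjective hι).trans (AddEquiv.addSubgroupCongr hrange)
  have he2 : ∀ x, ((e2 x : G.ker) : ⨁ n, B n) = ι x := fun x => rfl
  have hmemπ : ∀ x : ⨁ n, (g n).ker, x ∈ π.ker ↔ ∀ n, x n ∈ R n := by
    intro x
    rw [mem_ker_map_iff]
    refine forall_congr' fun n => ?_
    rw [AddMonoidHom.mem_ker, QuotientAddGroup.mk'_apply, QuotientAddGroup.eq_zero_iff]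
  have he : AddSubgroup.map (e2 : (⨁ n, (g n).ker) →+ G.ker) π.ker =
      (cyc F G (map_map_eq_zero f g hgf)).range := by
    ext y
    constructor
    · rintro ⟨x, hx, rfl⟩
      have hx' := (hmemπ x).mp hx
      have h1 : ι x ∈ F.range := by
        rw [mem_range_map_iff]
        intro n
        obtain ⟨a, ha⟩ := hx' n
        refine ⟨a, ?_⟩
        rw [hιapp, ← ha]
        rfl
      obtain ⟨a, ha⟩ := h1
      refine ⟨a, Subtype.ext ?_⟩
      rw [cyc_coe]
      exact ha
    · rintro ⟨a, rfl⟩
      refine ⟨e2.symm (cyc F G (map_map_eq_zero f g hgf) a), ?_, ?_⟩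
      · rw [SetLike.mem_coe, hmemπ]
        intro n
        refine ⟨a n, Subtype.ext ?_⟩
        rw [cyc_coe, ← hιapp, ← he2, AddEquiv.apply_symm_apply, cyc_coe]
        exact (DirectSum.map_apply _ _ _).symm
      · exact AddEquiv.apply_symm_apply e2 _
  exact ⟨e1.symm.trans (QuotientAddGroup.congr π.ker _ e2 he)⟩

end Groups

section ShortComplexes

variable {J : Type} [DecidableEq J]

theorem abToCycles_eq_cyc (S : ShortComplex AddCommGrpCat.{u}) :
    S.abToCycles = cyc S.f.hom S.g.hom (fun x => S.ab_zero_apply x) := rfl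

/-- If `T` is degreewise the direct sum of the `S n`, its homology is the direct sum of the
homologies. -/
theorem nonempty_directSum_homology_equiv (S : J → ShortComplex AddCommGrpCat.{u})
    (T : ShortComplex AddCommGrpCat.{u}) (φ : ∀ n, S n ⟶ T)
    (h₁ : Function.Bijective
      (DirectSum.toAddMonoid (fun n => (φ n).τ₁.hom) : (⨁ n, ((S n).X₁ : Type u)) →+ T.X₁))
    (h₂ : Function.Bijective
      (DirectSum.toAddMonoid (fun n => (φ n).τ₂.hom) : (⨁ n, ((S n).X₂ : Type u)) →+ T.X₂))
    (h₃ : Function.Bijective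
      (DirectSum.toAddMonoid (fun n => (φ n).τ₃.hom) : (⨁ n, ((S n).X₃ : Type u)) →+ T.X₃)) :
    Nonempty ((⨁ n, ((S n).homology : Type u)) ≃+ (T.homology : Type u)) := by
  classical
  let f : ∀ n, ((S n).X₁ : Type u) →+ ((S n).X₂ : Type u) := fun n => (S n).f.hom
  let g : ∀ n, ((S n).X₂ : Type u) →+ ((S n).X₃ : Type u) := fun n => (S n).g.hom
  have hgf : ∀ n x, g n (f n x) = 0 := fun n x => (S n).ab_zero_apply x
  let D : ShortComplex AddCommGrpCat.{u} :=
    ShortComplex.mk (AddCommGrpCat.ofHom (DirectSum.map f)) (AddCommGrpCat.ofHom (DirectSum.map g))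
      (by
        apply AddCommGrpCat.hom_ext
        apply AddMonoidHom.ext
        intro x
        exact map_map_eq_zero f g hgf x)
  let i₁ : D.X₁ ≅ T.X₁ := (AddEquiv.ofBijective _ h₁).toAddCommGrpIso
  let i₂ : D.X₂ ≅ T.X₂ := (AddEquiv.ofBijective _ h₂).toAddCommGrpIso
  let i₃ : D.X₃ ≅ T.X₃ := (AddEquiv.ofBijective _ h₃).toAddCommGrpIso
  have c₁₂ : i₁.hom ≫ T.f = D.f ≫ i₂.hom := by
    apply AddCommGrpCat.hom_ext
    apply AddMonoidHom.ext
    intro x
    change T.f.hom (DirectSum.toAddMonoid (fun n => (φ n).τ₁.hom) x) =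
      DirectSum.toAddMonoid (fun n => (φ n).τ₂.hom) (DirectSum.map f x)
    induction x using DirectSum.induction_on with
    | zero => simp
    | of n a =>
      rw [DirectSum.map_of, DirectSum.toAddMonoid_of, DirectSum.toAddMonoid_of]
      exact ConcreteCategory.congr_hom (φ n).comm₁₂ a
    | add a b ha hb => rw [map_add, map_add, map_add, map_add, ha, hb]
  have c₂₃ : i₂.hom ≫ T.g = D.g ≫ i₃.hom := by
    apply AddCommGrpCat.hom_ext
    apply AddMonoidHom.ext
    intro x
    change T.g.hom (DirectSum.toAddMonoid (fun n => (φ n).τ₂.hom) x) =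
      DirectSum.toAddMonoid (fun n => (φ n).τ₃.hom) (DirectSum.map g x)
    induction x using DirectSum.induction_on with
    | zero => simp
    | of n a =>
      rw [DirectSum.map_of, DirectSum.toAddMonoid_of, DirectSum.toAddMonoid_of]
      exact ConcreteCategory.congr_hom (φ n).comm₂₃ a
    | add a b ha hb => rw [map_add, map_add, map_add, map_add, ha, hb]
  let e : D ≅ T := ShortComplex.isoMk i₁ i₂ i₃ c₁₂ c₂₃
  let eT : (D.homology : Type u) ≃+ (T.homology : Type u) :=
    (ShortComplex.homologyMapIso e).addCommGroupIsoToAddEquiv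
  let eD : (D.homology : Type u) ≃+
      (D.g.hom.ker ⧸ D.abToCycles.range) := D.abHomologyIso.addCommGroupIsoToAddEquiv
  obtain ⟨eQ⟩ := nonempty_directSum_quot_equiv f g hgf
  let eS : (⨁ n, ((S n).homology : Type u)) ≃+
      ⨁ n, (g n).ker ⧸ (cyc (f n) (g n) (hgf n)).range :=
    DFinsupp.mapRange.addEquiv (fun n => (S n).abHomologyIso.addCommGroupIsoToAddEquiv)
  exact ⟨eS.trans (eQ.trans (eD.symm.trans eT))⟩

end ShortComplexes

section Complexes

variable {J : Type} [DecidableEq J] {ι : Type*} {c : ComplexShape ι}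

/-- If the complex `C` is degreewise the direct sum of the complexes `D n`, its homology is the
direct sum of the homologies. -/
theorem nonempty_directSum_complex_homology_equiv
    (D : J → HomologicalComplex AddCommGrpCat.{u} c) (C : HomologicalComplex AddCommGrpCat.{u} c)
    (ψ : ∀ n, D n ⟶ C)
    (h : ∀ k : ι, Function.Bijective
      (DirectSum.toAddMonoid (fun n => ((ψ n).f k).hom) :
        (⨁ n, (((D n).X k : AddCommGrpCat.{u}) : Type u)) →+ (C.X k : AddCommGrpCat.{u})))
    (p : ι) :
    Nonempty ((⨁ n, (((D n).homology p : AddCommGrpCat.{u}) : Type u)) ≃+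
      ((C.homology p : AddCommGrpCat.{u}) : Type u)) :=
  nonempty_directSum_homology_equiv (fun n => (D n).sc p) (C.sc p)
    (fun n => (HomologicalComplex.shortComplexFunctor AddCommGrpCat.{u} c p).map (ψ n))
    (h (c.prev p)) (h p) (h (c.next p))

end Complexes

end Groth.Agent.H88
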