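import Mathlib
import Groth.Agent.Lead.Coh.CechSheaf
import Groth.Agent.H88.DirectSumHomology

/-!
# The Čech complex of a direct sum of presheaves, for a finite family of opens
-/

namespace Groth.Agent.H88

open CategoryTheory Limits TopologicalSpace Opposite DirectSum
open Groth.Agent.Lead.Cech

universe u

variable {X : Type u} [TopologicalSpace X] {ι : Type u} (U : ι → Opens X)
  {J : Type} [DecidableEq J] (P : J → ((Opens X)ᵒᵖ ⥤ AddCommGrpCat.{u}))

/-- The direct sum of a family of presheaves of abelian groups. -/
noncomputable def sumPresheaf : (Opens X)ᵒᵖ ⥤ AddCommGrpCat.{u} where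
  obj W := AddCommGrpCat.of (⨁ n, ((P n).obj W : Type u))
  map {W W'} i := AddCommGrpCat.ofHom (DirectSum.map (fun n => ((P n).map i).hom))
  map_id W := by
    apply AddCommGrpCat.hom_ext
    apply AddMonoidHom.ext
    intro x
    refine DFinsupp.ext fun n => ?_
    change DirectSum.map (fun n => ((P n).map (𝟙 W)).hom) x n = x n
    rw [DirectSum.map_apply, (P n).map_id]
    rfl
  map_comp {W W' W''} i j := by
    apply AddCommGrpCat.hom_ext
    apply AddMonoidHom.ext
    intro x
    refine DFinsupp.ext fun n => ?_
    change DirectSum.map (fun n => ((P n).map (i ≫ j)).hom) x n =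
      DirectSum.map (fun n => ((P n).map j).hom) (DirectSum.map (fun n => ((P n).map i).hom) x) n
    rw [DirectSum.map_apply, DirectSum.map_apply, DirectSum.map_apply, (P n).map_comp]
    rfl

/-- The inclusion of a summand. -/
noncomputable def sumIncl (n : J) : P n ⟶ sumPresheaf P where
  app W := AddCommGrpCat.ofHom (DirectSum.of (fun n => ((P n).obj W : Type u)) n)
  naturality {W W'} i := by
    apply AddCommGrpCat.hom_ext
    apply AddMonoidHom.ext
    intro x
    change DirectSum.of (fun n => ((P n).obj W' : Type u)) n (((P n).map i).hom x) =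
      DirectSum.map (fun n => ((P n).map i).hom) (DirectSum.of (fun n => ((P n).obj W : Type u)) n x)
    rw [DirectSum.map_of]

section General

variable {P} (Q : (Opens X)ᵒᵖ ⥤ AddCommGrpCat.{u}) (incl : ∀ n, P n ⟶ Q)

theorem proj_toAddMonoid_map (k : ℕ) (σ : Fin (k + 1) → ι)
    (x : ⨁ n, ((K U (P n)).X k : Type u)) :
    proj U Q k σ (DirectSum.toAddMonoid
      (fun n => (((cechComplexFunctor U).map (incl n)).f k).hom) x) =
    DirectSum.toAddMonoid (fun n => ((incl n).app (op (cechOpen U σ))).hom)
      (DirectSum.map (fun n => (proj U (P n) k σ).hom) x) := by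
  induction x using DirectSum.induction_on with
  | zero => simp
  | of n a =>
    rw [DirectSum.map_of, DirectSum.toAddMonoid_of, DirectSum.toAddMonoid_of]
    exact map_apply U (incl n) k a σ
  | add a b ha hb => rw [map_add, map_add, map_add, map_add, ha, hb]

variable [Finite ι]

include Q incl in
/-- If `Q` is the direct sum of the `P n` on every open, then the Čech complex of `Q` is
degreewise the direct sum of the Čech complexes of the `P n` (finite family of opens). -/
theorem bijective_toAddMonoid_cech
    (h : ∀ W : (Opens X)ᵒᵖ, Function.Bijective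
      (DirectSum.toAddMonoid (fun n => ((incl n).app W).hom) :
        (⨁ n, ((P n).obj W : Type u)) →+ (Q.obj W : Type u)))
    (k : ℕ) :
    Function.Bijective
      (DirectSum.toAddMonoid (fun n => (((cechComplexFunctor U).map (incl n)).f k).hom) :
        (⨁ n, ((K U (P n)).X k : Type u)) →+ ((K U Q).X k : Type u)) := by
  classical
  haveI : Fintype (Fin (k + 1) → ι) := Fintype.ofFinite _
  constructor
  · rw [injective_iff_map_eq_zero]
    intro x hx
    refine DFinsupp.ext fun n => ?_
    apply ext_elem
    intro σ
    have h1 := proj_toAddMonoid_map U Q incl k σ x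
    rw [hx, map_zero] at h1
    have h2 : DirectSum.map (fun n => (proj U (P n) k σ).hom) x = 0 :=
      (h (op (cechOpen U σ))).1 (by rw [← h1, map_zero])
    have h3 := DFinsupp.ext_iff.mp h2 n
    change DirectSum.map (fun n => (proj U (P n) k σ).hom) x n = 0 at h3
    rw [DirectSum.map_apply] at h3
    change proj U (P n) k σ (x n) = proj U (P n) k σ 0
    rw [map_zero]
    exact h3
  · intro y
    choose z hz using fun σ : Fin (k + 1) → ι => (h (op (cechOpen U σ))).2 (proj U Q k σ y)
    let s : Finset J := Finset.univ.biUnion (fun σ => (z σ).support)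
    let x : ⨁ n, ((K U (P n)).X k : Type u) :=
      DFinsupp.mk s (fun n => (coords U (P n.1) k).symm (fun σ => z σ n.1))
    refine ⟨x, ?_⟩
    apply ext_elem
    intro σ
    rw [proj_toAddMonoid_map, ← hz σ]
    congr 1
    refine DFinsupp.ext fun n => ?_
    change DirectSum.map (fun n => (proj U (P n) k σ).hom) x n = z σ n
    rw [DirectSum.map_apply]
    by_cases hn : n ∈ s
    · have hx : x n = (coords U (P n) k).symm (fun σ => z σ n) := DFinsupp.mk_of_mem hn
      rw [hx]
      exact proj_coords_symm U (P n) k _ σ
    · have hx : x n = 0 := DFinsupp.mk_of_notMem hn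
      rw [hx, map_zero]
      have : n ∉ (z σ).support := fun hmem => hn (Finset.mem_biUnion.mpr ⟨σ, Finset.mem_univ _, hmem⟩)
      rw [DFinsupp.mem_support_iff, not_not] at this
      exact this.symm

include Q incl in
theorem nonempty_directSum_cechH_equiv
    (h : ∀ W : (Opens X)ᵒᵖ, Function.Bijective
      (DirectSum.toAddMonoid (fun n => ((incl n).app W).hom) :
        (⨁ n, ((P n).obj W : Type u)) →+ (Q.obj W : Type u)))
    (p : ℕ) :
    Nonempty ((⨁ n, (((K U (P n)).homology p : AddCommGrpCat.{u}) : Type u)) ≃+
      (((K U Q).homology p : AddCommGrpCat.{u}) : Type u)) :=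
  nonempty_directSum_complex_homology_equiv (fun n => K U (P n)) (K U Q)
    (fun n => (cechComplexFunctor U).map (incl n))
    (fun k => bijective_toAddMonoid_cech U Q incl h k) p

end General

variable [Finite ι]

theorem bijective_toAddMonoid_sumIncl (W : (Opens X)ᵒᵖ) :
    Function.Bijective
      (DirectSum.toAddMonoid (fun n => ((sumIncl P n).app W).hom) :
        (⨁ n, ((P n).obj W : Type u)) →+ ((sumPresheaf P).obj W : Type u)) := by
  have h : (DirectSum.toAddMonoid (fun n => ((sumIncl P n).app W).hom) :
      (⨁ n, ((P n).obj W : Type u)) →+ ((sumPresheaf P).obj W : Type u)) =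
      AddMonoidHom.id _ := by
    apply DirectSum.addHom_ext
    intro n x
    rw [DirectSum.toAddMonoid_of]
    rfl
  rw [h]
  exact Function.bijective_id

/-- Čech cohomology of a finite family of opens commutes with direct sums of presheaves. -/
theorem nonempty_directSum_cechH_sumPresheaf_equiv (p : ℕ) :
    Nonempty ((⨁ n, (((K U (P n)).homology p : AddCommGrpCat.{u}) : Type u)) ≃+
      (((K U (sumPresheaf P)).homology p : AddCommGrpCat.{u}) : Type u)) :=
  nonempty_directSum_cechH_equiv U (sumPresheaf P) (sumIncl P)
    (bijective_toAddMonoid_sumIncl P) p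

end Groth.Agent.H88
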