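import Mathlib
import Groth.Agent.H88.CechCompare

/-!
# Čech cohomology of a presheaf composed with a functor between the posets of opens
-/

namespace Groth.Agent.H88

open CategoryTheory Limits TopologicalSpace Opposite
open Groth.Agent.Lead.Cech

universe u

variable {X Y : Type u} [TopologicalSpace X] [TopologicalSpace Y]
  (Φ : Opens Y ⥤ Opens X) {κ : Type u} (V : κ → Opens Y) (W : κ → Opens X)
  (hΦ : ∀ (n : ℕ) (σ : Fin (n + 1) → κ), Φ.obj (cechOpen V σ) = cechOpen W σ)
  (P : (Opens X)ᵒᵖ ⥤ AddCommGrpCat.{u})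

/-- The compatible family for `Φ.op ⋙ P`. -/
noncomputable def cechCompatFunctor : CechCompat V W (Φ.op ⋙ P) P where
  θ n σ := P.mapIso (eqToIso (congrArg op (hΦ n σ)))
  comm n σ j := by
    change P.map _ ≫ P.map _ = P.map _ ≫ P.map _
    rw [← P.map_comp, ← P.map_comp]
    congr 1

include hΦ in
theorem nonempty_cechH_functor_equiv (p : ℕ) :
    Nonempty ((K V (Φ.op ⋙ P)).homology p ≃+ (K W P).homology p) :=
  (cechCompatFunctor Φ V W hΦ P).nonempty_homology_equiv p

/-- Images under an injective open map commute with the intersections of the Čech complex. -/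
theorem image_cechOpen_eq {Y' X' : TopCat.{u}} {κ' : Type u} {V' : κ' → Opens Y'}
    {W' : κ' → Opens X'} {j : Y' ⟶ X'} (hj : IsOpenMap j)
    (hinj : Function.Injective j)
    (hW : ∀ i, W' i = hj.functor.obj (V' i)) (n : ℕ) (σ : Fin (n + 1) → κ') :
    hj.functor.obj (cechOpen V' σ) = cechOpen W' σ := by
  apply le_antisymm
  · apply le_cechOpen
    intro a
    rw [hW]
    exact hj.functor.monotone (cechOpen_le V' σ a)
  · intro x hx
    have h1 : ∀ a, ∃ y, y ∈ V' (σ a) ∧ j y = x := by
      intro a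
      have h2 := cechOpen_le W' σ a hx
      rw [hW] at h2
      exact h2
    obtain ⟨y, hy, rfl⟩ := h1 0
    refine ⟨y, ?_, rfl⟩
    have h3 : y ∈ ((⨅ a, V' (σ a) : Opens Y') : Set Y') := by
      rw [Opens.coe_iInf]
      refine Set.mem_iInter.mpr fun a => ?_
      obtain ⟨y', hy', hyy'⟩ := h1 a
      rw [← hinj hyy']
      exact hy'
    rw [← cechOpen_eq_iInf] at h3
    exact h3

end Groth.Agent.H88
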