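import Mathlib
import Groth.Agent.H88.KoszulCech
import Groth.Agent.H88.CechFunctor
import Groth.Agent.H46.ExtCechBij

/-!
# Čech cohomology of the family `X_{f_i}` vanishes when the `f_i` generate the unit ideal on
their union
-/

namespace Groth.Agent.H88

open CategoryTheory Limits AlgebraicGeometry TopologicalSpace Opposite
open Groth.Agent.Lead.Cech

universe u

/-- `colim_n H^p(f^n, M) = 0` when the `f_i` generate the unit ideal. -/
theorem subsingleton_koszulHLim_of_span_eq_top {R : Type u} [CommRing R] (fs : List R)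
    (hfs : Ideal.span {a : R | a ∈ fs} = ⊤) (M : ModuleCat.{u} R) (p : ℕ) :
    Subsingleton (CohIII.koszulHLim fs M p) := by
  obtain ⟨e⟩ := nonempty_koszulHLim_equiv_extCechH fs M p
  have h1 : (1 : R) ∈ Ideal.span {a : R | a ∈ fs} := by rw [hfs]; trivial
  have hb : Groth.Agent.H46.ActsBij (1 : R) M := by
    have : (fun m : M => (1 : R) • m) = id := by
      funext m; simp
    rw [Groth.Agent.H46.ActsBij, this]
    exact Function.bijective_id
  have hz := Groth.Agent.H46.isZero_extCechH_of_actsBij fs M 1 h1 hb (p : ℤ)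
  haveI := ModuleCat.subsingleton_of_isZero hz
  exact e.toEquiv.subsingleton

theorem isSeparated_opens (X : Scheme.{u}) [X.IsSeparated] (U : X.Opens) :
    (U : Scheme.{u}).IsSeparated := by
  have h : terminal.from (U : Scheme.{u}) = U.ι ≫ terminal.from X := terminal.hom_ext _ _
  refine ⟨?_⟩
  rw [h]
  infer_instance

/-- Čech cohomology only depends on the family of opens. -/
theorem nonempty_cechH_equiv_of_fam_eq {T : Type u} [TopologicalSpace T] {κ : Type u}
    {V V' : κ → Opens T} (h : V = V') (P : (Opens T)ᵒᵖ ⥤ AddCommGrpCat.{u}) (p : ℕ) :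
    Nonempty ((K V P).homology p ≃+ (K V' P).homology p) := by
  subst h
  exact ⟨AddEquiv.refl _⟩

/-- Reindexing a family given by a list by `Fin n`. -/
theorem nonempty_cechH_equiv_of_length_eq {T : Type u} [TopologicalSpace T] {α : Type u}
    (B : α → Opens T) (fs : List α) (n : ℕ) (hn : fs.length = n) (f : Fin n → α)
    (hf : ∀ i : Fin n, f i = fs.get (Fin.cast hn.symm i))
    (P : (Opens T)ᵒᵖ ⥤ AddCommGrpCat.{u}) (p : ℕ) :
    Nonempty ((K (fun i : ULift.{u} (Fin n) => B (f i.down)) P).homology p ≃+
      (K (fun i : ULift.{u} (Fin fs.length) => B (fs.get i.down)) P).homology p) := by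
  subst hn
  have h : f = fs.get := funext fun i => hf i
  subst h
  exact ⟨AddEquiv.refl _⟩

variable (X : Scheme.{u}) [X.IsSeparated] (n : ℕ) (f : Fin n → Γ(X, ⊤))

/-- The union of the `X_{f_i}`. -/
noncomputable abbrev unionOpen : X.Opens := ⨆ i, X.basicOpen (f i)

/-- The functions `f_i` as global functions on the union. -/
noncomputable def resFun (i : Fin n) : Γ((unionOpen X n f : Scheme.{u}), ⊤) :=
  (unionOpen X n f).topIso.inv
    ((X.presheaf.map (homOfLE (le_top : unionOpen X n f ≤ ⊤)).op).hom (f i))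

omit [X.IsSeparated] in
theorem image_basicOpen_resFun (i : Fin n) :
    (unionOpen X n f).ι ''ᵁ ((unionOpen X n f : Scheme.{u}).basicOpen (resFun X n f i)) =
      X.basicOpen (f i) := by
  rw [resFun, Scheme.Opens.ι_image_basicOpen_topIso_inv]
  have h := Scheme.basicOpen_res X (f i) (homOfLE (le_top : unionOpen X n f ≤ ⊤)).op
  refine h.trans ?_
  exact inf_eq_right.mpr (le_iSup (fun i => X.basicOpen (f i)) i)

omit [X.IsSeparated] in
theorem span_resFun_eq_top (g : Fin n → Γ(X, unionOpen X n f))
    (hg : (Finset.univ.sum fun i => g i *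
      (X.presheaf.map (homOfLE (le_top : unionOpen X n f ≤ ⊤)).op).hom (f i)) = 1) :
    Ideal.span {a | a ∈ List.ofFn (resFun X n f)} = ⊤ := by
  rw [Ideal.eq_top_iff_one]
  have h1 := congrArg (unionOpen X n f).topIso.inv.hom hg
  rw [map_one, map_sum] at h1
  rw [← h1]
  refine Ideal.sum_mem _ fun i _ => ?_
  rw [map_mul]
  refine Ideal.mul_mem_left _ _ (Ideal.subset_span ?_)
  exact (List.mem_ofFn' _ _).mpr ⟨i, rfl⟩

theorem isZero_cechH_of_partition (hqc : ∀ i, IsCompact (X.basicOpen (f i) : Set X))
    (g : Fin n → Γ(X, unionOpen X n f))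
    (hg : (Finset.univ.sum fun i => g i *
      (X.presheaf.map (homOfLE (le_top : unionOpen X n f ≤ ⊤)).op).hom (f i)) = 1)
    (G : X.Modules) [G.IsQuasicoherent] (p : ℕ) (hp : 0 < p) :
    IsZero (CohB1.cechH (fun i : ULift.{u} (Fin n) => X.basicOpen (f i.down)) G p) := by
  haveI : (unionOpen X n f : Scheme.{u}).IsSeparated := isSeparated_opens X (unionOpen X n f)
  haveI : CompactSpace (unionOpen X n f : Scheme.{u}) := by
    apply isCompact_iff_compactSpace.mp
    have h : ((unionOpen X n f : X.Opens) : Set X) = ⋃ i, (X.basicOpen (f i) : Set X) := by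
      rw [unionOpen, Opens.coe_iSup]
    rw [h]
    exact isCompact_iUnion hqc
  haveI : QuasiSeparatedSpace (unionOpen X n f : Scheme.{u}) := inferInstance
  have hlen : (List.ofFn (resFun X n f)).length = n := List.length_ofFn
  -- Čech cohomology on `U`
  obtain ⟨e1⟩ := nonempty_cechH_basicOpen_equiv_koszulHLim (unionOpen X n f : Scheme.{u})
    (G.restrict (unionOpen X n f).ι) (List.ofFn (resFun X n f)) p hp
  haveI := subsingleton_koszulHLim_of_span_eq_top (List.ofFn (resFun X n f))
    (span_resFun_eq_top X n f g hg)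
    (gammaMod (unionOpen X n f : Scheme.{u}) (G.restrict (unionOpen X n f).ι)) (p + 1)
  -- reindex
  obtain ⟨e2⟩ := nonempty_cechH_equiv_of_length_eq (T := (unionOpen X n f : Scheme.{u}))
    (fun r : Γ((unionOpen X n f : Scheme.{u}), ⊤) => (unionOpen X n f : Scheme.{u}).basicOpen r)
    (List.ofFn (resFun X n f)) n hlen (resFun X n f)
    (fun i => by simp) (G.restrict (unionOpen X n f).ι).presheaf p
  -- compare with `X`
  obtain ⟨e3⟩ := nonempty_cechH_functor_equiv (X := X) (Y := (unionOpen X n f : Scheme.{u}))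
    (unionOpen X n f).ι.opensFunctor
    (fun i : ULift.{u} (Fin n) => (unionOpen X n f : Scheme.{u}).basicOpen (resFun X n f i.down))
    (fun i : ULift.{u} (Fin n) => X.basicOpen (f i.down))
    (image_cechOpen_eq (Y' := (unionOpen X n f : Scheme.{u}).toTopCat) (X' := X.toTopCat)
      (unionOpen X n f).ι.isOpenEmbedding.isOpenMap (unionOpen X n f).ι.isOpenEmbedding.injective
      (fun i => (image_basicOpen_resFun X n f i.down).symm)) G.presheaf p
  have hsub : Subsingleton
      ↑(CohB1.cechH (fun i : ULift.{u} (Fin n) => X.basicOpen (f i.down)) G p) :=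
    (e3.symm.trans (e2.trans e1)).toEquiv.subsingleton
  exact AddCommGrpCat.isZero_of_subsingleton _

end Groth.Agent.H88
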