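import Mathlib

set_option autoImplicit false

namespace Groth.Agent.H88

/-- If `p ^ j ∣ d` then `p ∤ C(d - 1, p ^ j - 1)` (Lucas). -/
theorem not_dvd_choose_pred (p : ℕ) [hp : Fact p.Prime] :
    ∀ (j d : ℕ), 0 < d → p ^ j ∣ d → ¬ p ∣ (d - 1).choose (p ^ j - 1) := by
  intro j
  induction j with
  | zero =>
    intro d _ _
    simp only [pow_zero, Nat.sub_self, Nat.choose_zero_right]
    exact hp.out.one_lt.ne' ∘ Nat.dvd_one.mp
  | succ j ih =>
    intro d hd hdvd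
    have hp0 : 0 < p := hp.out.pos
    obtain ⟨d', rfl⟩ : p ∣ d := (dvd_pow_self p (Nat.succ_ne_zero j)).trans hdvd
    have hd' : 0 < d' := Nat.pos_of_mul_pos_left hd
    have hdvd' : p ^ j ∣ d' := by
      rw [pow_succ'] at hdvd
      exact Nat.dvd_of_mul_dvd_mul_left hp0 hdvd
    have hpj : 0 < p ^ j := pow_pos hp0 j
    have e1 : p * d' - 1 = (p - 1) + p * (d' - 1) := by
      obtain ⟨c, rfl⟩ : ∃ c, d' = c + 1 := ⟨d' - 1, by omega⟩
      have : p * (c + 1) = p * c + p := by ring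
      simp only [Nat.add_sub_cancel]
      omega
    have e2 : p ^ (j + 1) - 1 = (p - 1) + p * (p ^ j - 1) := by
      obtain ⟨c, hc⟩ : ∃ c, p ^ j = c + 1 := ⟨p ^ j - 1, by omega⟩
      rw [pow_succ', hc]
      have : p * (c + 1) = p * c + p := by ring
      simp only [Nat.add_sub_cancel]
      omega
    have hlt : p - 1 < p := by omega
    have m1 : (p * d' - 1) % p = p - 1 := by
      rw [e1, Nat.add_mul_mod_self_left, Nat.mod_eq_of_lt hlt]
    have m2 : (p ^ (j + 1) - 1) % p = p - 1 := by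
      rw [e2, Nat.add_mul_mod_self_left, Nat.mod_eq_of_lt hlt]
    have q1 : (p * d' - 1) / p = d' - 1 := by
      rw [e1, Nat.add_mul_div_left _ _ hp0, Nat.div_eq_of_lt hlt, zero_add]
    have q2 : (p ^ (j + 1) - 1) / p = p ^ j - 1 := by
      rw [e2, Nat.add_mul_div_left _ _ hp0, Nat.div_eq_of_lt hlt, zero_add]
    have hl := Choose.choose_modEq_choose_mod_mul_choose_div_nat (n := p * d' - 1)
      (k := p ^ (j + 1) - 1) (p := p)
    rw [m1, m2, q1, q2, Nat.choose_self, one_mul] at hl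
    rw [hl.dvd_iff (dvd_refl p)]
    exact ih d' hd' hdvd'

/-- `d / gcd(d, n)` divides `C(d, n)`. -/
theorem div_gcd_dvd_choose (d n : ℕ) (hd : 0 < d) (hn : 0 < n) :
    d / Nat.gcd d n ∣ d.choose n := by
  obtain ⟨d', rfl⟩ : ∃ c, d = c + 1 := ⟨d - 1, by omega⟩
  obtain ⟨n', rfl⟩ : ∃ c, n = c + 1 := ⟨n - 1, by omega⟩
  have h := Nat.add_one_mul_choose_eq d' n'
  set g := Nat.gcd (d' + 1) (n' + 1) with hg
  have hgpos : 0 < g := Nat.gcd_pos_of_pos_left _ hd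
  have hcop : Nat.Coprime ((d' + 1) / g) ((n' + 1) / g) := Nat.coprime_div_gcd_div_gcd hgpos
  have hd1 : (d' + 1) = g * ((d' + 1) / g) := (Nat.mul_div_cancel' (Nat.gcd_dvd_left _ _)).symm
  have hn1 : (n' + 1) = g * ((n' + 1) / g) := (Nat.mul_div_cancel' (Nat.gcd_dvd_right _ _)).symm
  have h2 : g * (((d' + 1) / g) * d'.choose n')
      = g * ((d' + 1).choose (n' + 1) * ((n' + 1) / g)) := by
    calc g * (((d' + 1) / g) * d'.choose n') = (g * ((d' + 1) / g)) * d'.choose n' := by ring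
      _ = (d' + 1) * d'.choose n' := by rw [← hd1]
      _ = (d' + 1).choose (n' + 1) * (n' + 1) := h
      _ = (d' + 1).choose (n' + 1) * (g * ((n' + 1) / g)) := by rw [← hn1]
      _ = g * ((d' + 1).choose (n' + 1) * ((n' + 1) / g)) := by ring
  have h3 := Nat.eq_of_mul_eq_mul_left hgpos h2
  have h4 : (d' + 1) / g ∣ (d' + 1).choose (n' + 1) * ((n' + 1) / g) := ⟨_, h3.symm⟩
  exact hcop.dvd_of_dvd_mul_right h4

/-- (L1) a common divisor of `C(d, n)`, `1 ≤ n ≤ N`, divides `d / δ` for `δ ∣ d`, `δ ≤ N`. -/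
theorem dvd_div_of_dvd_choose (d N b : ℕ) (hd : 0 < d)
    (hb : ∀ n, 1 ≤ n → n ≤ N → b ∣ d.choose n) (δ : ℕ) (hδd : δ ∣ d) (hδ1 : 1 ≤ δ) (hδN : δ ≤ N) :
    b ∣ d / δ := by
  obtain ⟨e, rfl⟩ := hδd
  have hδ0 : 0 < δ := hδ1
  rw [Nat.mul_div_cancel_left _ hδ0]
  have he : 0 < e := Nat.pos_of_mul_pos_left hd
  rw [Nat.dvd_iff_prime_pow_dvd_dvd]
  intro p k hp hpk
  have : Fact p.Prime := ⟨hp⟩
  obtain ⟨j, δ', hδ', hδeq⟩ := Nat.exists_eq_pow_mul_and_not_dvd hδ0.ne' p hp.ne_one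
  have hpjle : p ^ j ≤ δ := Nat.le_of_dvd hδ0 ⟨δ', hδeq⟩
  have hpj1 : 1 ≤ p ^ j := Nat.one_le_pow _ _ hp.pos
  have h1 : p ^ k ∣ (δ * e).choose (p ^ j) := hpk.trans (hb (p ^ j) hpj1 (hpjle.trans hδN))
  have hpjd : p ^ j ∣ δ * e := Dvd.dvd.mul_right ⟨δ', hδeq⟩ e
  have hnd := not_dvd_choose_pred p j (δ * e) hd hpjd
  -- p^j * C(d, p^j) = d * C(d-1, p^j-1)
  have hid : (δ * e) * (δ * e - 1).choose (p ^ j - 1) = (δ * e).choose (p ^ j) * p ^ j := by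
    have := Nat.add_one_mul_choose_eq (δ * e - 1) (p ^ j - 1)
    rwa [Nat.sub_add_cancel hd, Nat.sub_add_cancel hpj1] at this
  have h2 : p ^ (k + j) ∣ (δ * e) * (δ * e - 1).choose (p ^ j - 1) := by
    rw [hid, pow_add]
    exact Nat.mul_dvd_mul h1 (dvd_refl _)
  have hcop : Nat.Coprime (p ^ (k + j)) ((δ * e - 1).choose (p ^ j - 1)) :=
    Nat.Coprime.pow_left _ ((Nat.Prime.coprime_iff_not_dvd hp).mpr hnd)
  have h3 : p ^ (k + j) ∣ δ * e := hcop.dvd_of_dvd_mul_right h2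
  rw [hδeq, pow_add, mul_comm (p ^ k) (p ^ j), mul_assoc] at h3
  have h4 : p ^ k ∣ δ' * e := Nat.dvd_of_mul_dvd_mul_left (pow_pos hp.pos j) h3
  have hcop2 : Nat.Coprime (p ^ k) δ' :=
    Nat.Coprime.pow_left _ ((Nat.Prime.coprime_iff_not_dvd hp).mpr hδ')
  exact hcop2.dvd_of_dvd_mul_left h4

end Groth.Agent.H88
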