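import Mathlib

set_option autoImplicit false

open Matrix Polynomial

namespace Groth.Agent.H88

variable {S : Type*} [CommRing S] {m : Type*} [Fintype m] [DecidableEq m]

/-- the matrix `1 - (cyclic block matrix with entries t on the subdiagonal and A in the corner)`. -/
def cyc (n : ℕ) (t : S) (A : Matrix m m S) : Matrix (Fin n × m) (Fin n × m) S :=
  Matrix.of fun p q => (if p = q then (1 : S) else 0) -
    (if p.1.val = 0 then (if q.1.val + 1 = n then A p.2 q.2 else 0)
     else (if q.1.val + 1 = p.1.val ∧ p.2 = q.2 then t else 0))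

/-- splitting off the last block. -/
def splitLast (n : ℕ) : (Fin n × m) ⊕ m ≃ Fin (n + 1) × m where
  toFun := Sum.elim (fun p => (p.1.castSucc, p.2)) (fun a => (Fin.last n, a))
  invFun := fun p => if h : p.1 = Fin.last n then Sum.inr p.2 else Sum.inl (p.1.castPred h, p.2)
  left_inv := by
    rintro (⟨i, a⟩ | a)
    · simp [Fin.castSucc_ne_last]
    · simp
  right_inv := by
    rintro ⟨i, a⟩
    by_cases h : i = Fin.last n
    · simp [h]
    · simp [h]

@[simp] lemma splitLast_inl (n : ℕ) (p : Fin n × m) :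
    splitLast n (Sum.inl p) = ((p.1.castSucc, p.2) : Fin (n + 1) × m) := rfl

@[simp] lemma splitLast_inr (n : ℕ) (a : m) :
    splitLast n (Sum.inr a : (Fin n × m) ⊕ m) = ((Fin.last n, a) : Fin (n + 1) × m) := rfl

lemma det_cyc_succ_succ (n : ℕ) (t : S) (A : Matrix m m S) :
    (cyc (n + 2) t A).det = (cyc (n + 1) t (t • A)).det := by
  set N := (cyc (n + 2) t A).submatrix (splitLast (n + 1)) (splitLast (n + 1)) with hN
  have h1 : N.det = (cyc (n + 2) t A).det := Matrix.det_submatrix_equiv_self _ _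
  have h22 : N.toBlocks₂₂ = 1 := by
    ext a b
    simp only [toBlocks₂₂, hN, Matrix.of_apply, Matrix.submatrix_apply, splitLast_inr, cyc,
      Fin.val_last, Matrix.one_apply]
    have : ¬ (n + 1 = 0) := by omega
    simp only [this, if_false]
    simp
  rw [← h1, ← Matrix.fromBlocks_toBlocks N, h22, Matrix.det_fromBlocks_one₂₂]
  congr 1
  ext p q
  obtain ⟨i, a⟩ := p
  obtain ⟨j, b⟩ := q
  rw [Matrix.sub_apply, Matrix.mul_apply]
  simp only [toBlocks₁₁, toBlocks₁₂, toBlocks₂₁, hN, Matrix.of_apply, Matrix.submatrix_apply,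
    splitLast_inr, splitLast_inl, cyc, Fin.val_last, Fin.val_castSucc, Matrix.smul_apply,
    Prod.mk.injEq, Fin.castSucc_inj]
  have e1 : ¬ (i.castSucc = Fin.last (n + 1)) := Fin.castSucc_ne_last i
  have e2 : ¬ (Fin.last (n + 1) = j.castSucc) := fun h => Fin.castSucc_ne_last j h.symm
  have e3 : ¬ (n + 1 = 0) := by omega
  have e4 : ¬ (n + 1 + 1 = (i : ℕ)) := by have := i.isLt; omega
  have e5 : ¬ ((j : ℕ) + 1 = n + 2) := by have := j.isLt; omega
  simp only [e1, e2, e3, e4, e5, false_and, if_false, if_true, zero_sub]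
  by_cases hi : (i : ℕ) = 0
  · by_cases hj : (j : ℕ) + 1 = n + 1
    · simp only [hi, hj, if_true, true_and]
      have : ∑ x, -A a x * -(if x = b then t else 0) = A a b * t := by
        simp
      rw [this, smul_eq_mul]
      ring
    · have hj' : ¬ ((j : ℕ) = n) := by omega
      simp [hi, hj']
  · simp [hi]

lemma det_cyc_one (t : S) (A : Matrix m m S) : (cyc 1 t A).det = (1 - A).det := by
  have h1 : ((cyc 1 t A).submatrix (Equiv.uniqueProd m (Fin 1)).symm
      (Equiv.uniqueProd m (Fin 1)).symm).det = (cyc 1 t A).det :=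
    Matrix.det_submatrix_equiv_self _ _
  rw [← h1]
  congr 1
  ext a b
  simp [cyc, Matrix.one_apply]

theorem det_cyc (n : ℕ) (t : S) : ∀ A : Matrix m m S,
    (cyc (n + 1) t A).det = (1 - t ^ n • A).det := by
  induction n with
  | zero => intro A; rw [det_cyc_one]; simp
  | succ n ih =>
    intro A
    rw [det_cyc_succ_succ, ih, smul_smul, ← pow_succ]

theorem charpolyRev_cyclic {R : Type*} [CommRing R] (A : Matrix m m R) (n : ℕ) (hn : 1 ≤ n) :
    (Matrix.of fun (p q : Fin n × m) =>
        if p.1.val = 0 then (if q.1.val = n - 1 then A p.2 q.2 else 0)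
        else (if q.1.val + 1 = p.1.val ∧ p.2 = q.2 then 1 else 0)).charpolyRev =
      Polynomial.expand R n A.charpolyRev := by
  obtain ⟨k, rfl⟩ : ∃ k, n = k + 1 := ⟨n - 1, by omega⟩
  have h1 : (1 - (X : R[X]) • (Matrix.of fun (p q : Fin (k + 1) × m) =>
        if p.1.val = 0 then (if q.1.val = k + 1 - 1 then A p.2 q.2 else 0)
        else (if q.1.val + 1 = p.1.val ∧ p.2 = q.2 then (1 : R) else 0)).map C)
      = cyc (k + 1) (X : R[X]) ((X : R[X]) • A.map C) := by
    ext p q
    simp only [cyc, Matrix.sub_apply, Matrix.one_apply, Matrix.smul_apply, Matrix.map_apply,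
      Matrix.of_apply, smul_eq_mul, Nat.add_sub_cancel]
    congr 1
    by_cases hp : (p.1 : ℕ) = 0
    · by_cases hq : (q.1 : ℕ) = k
      · simp [hp, hq]
      · simp [hp, hq]
    · by_cases hq : (q.1 : ℕ) + 1 = (p.1 : ℕ) ∧ p.2 = q.2
      · simp [hp, hq]
      · simp [hp, hq]
  rw [Matrix.charpolyRev, h1, det_cyc, Matrix.charpolyRev, smul_smul, ← pow_succ]
  have h2 : (expand R (k + 1)) (1 - (X : R[X]) • A.map C).det
      = ((expand R (k + 1)).mapMatrix (1 - (X : R[X]) • A.map C)).det :=
    AlgHom.map_det _ _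
  rw [h2]
  congr 1
  ext a b
  simp only [AlgHom.mapMatrix_apply, Matrix.map_apply, Matrix.sub_apply, Matrix.smul_apply,
    Matrix.one_apply, smul_eq_mul, map_sub, map_mul, expand_X, expand_C]
  split_ifs <;> simp

end Groth.Agent.H88
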