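import Mathlib
import Groth.Agent.H1.CSADim

/-!
# A central simple algebra is free over a maximal étale subalgebra

Let `B` be a central simple algebra of dimension `r²` over a field `k` and `L` a commutative
reduced finite-dimensional `k`-algebra of dimension `r` embedded in `B`. Then `B` is free of rank
`r` as a right `L`-module.
-/

set_option autoImplicit false

open TensorProduct

namespace Groth.Agent.H88.EtaleFree

universe u v w

section

variable {k : Type u} [Field k] {B : Type v} [Ring B] [Algebra k B] [Algebra.IsCentral k B]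
  [IsSimpleRing B] [FiniteDimensional k B] {L : Type w} [CommRing L] [Algebra k L]
  (ι : L →ₐ[k] B) [Module L B] [IsScalarTower k L B]
  (hmod : ∀ (l : L) (b : B), l • b = b * ι l)

include hmod in
/-- Left multiplication, as right-`L`-linear endomorphisms. -/
noncomputable def leftMulHom : B →ₐ[k] Module.End L B :=
  { toFun := fun a =>
      { toFun := fun y => a * y
        map_add' := mul_add a
        map_smul' := fun l y => by simp only [hmod, mul_assoc, RingHom.id_apply] }
    map_one' := by ext y; simp
    map_mul' := fun a b => by ext y; simp [mul_assoc]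
    map_zero' := by ext y; simp
    map_add' := fun a b => by ext y; simp [add_mul]
    commutes' := fun c => by
      ext y
      simp [Algebra.smul_def] }

omit [Algebra.IsCentral k B] [IsSimpleRing B] [FiniteDimensional k B] in
@[simp] lemma leftMulHom_apply (a y : B) : leftMulHom ι hmod a y = a * y := rfl

/-- The action of `B` on a fibre `κ ⊗[L] B`. -/
noncomputable def fibreHom (κ : Type w) [Field κ] [Algebra L κ] [Algebra k κ]
    [IsScalarTower k L κ] : B →ₐ[k] Module.End κ (κ ⊗[L] B) :=
  { toFun := fun b => (leftMulHom ι hmod b).baseChange κ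
    map_one' := by rw [map_one]; exact LinearMap.baseChange_one _ _
    map_mul' := fun a b => by rw [map_mul]; exact LinearMap.baseChange_mul _ _
    map_zero' := by rw [map_zero]; exact LinearMap.baseChange_zero
    map_add' := fun a b => by rw [map_add]; exact LinearMap.baseChange_add _ _
    commutes' := fun c => by
      apply TensorProduct.AlgebraTensorModule.ext
      intro x y
      rw [LinearMap.baseChange_tmul, leftMulHom_apply, Module.algebraMap_end_apply,
        TensorProduct.smul_tmul', ← Algebra.smul_def, ← algebraMap_smul L c y,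
        TensorProduct.tmul_smul, TensorProduct.smul_tmul', algebraMap_smul] }

include hmod in
/-- Each nonzero fibre of `B` over `L` has dimension at least `r`. -/
theorem le_finrank_fibre (κ : Type w) [Field κ] [Algebra L κ] [Algebra k κ]
    [IsScalarTower k L κ] [Nontrivial (κ ⊗[L] B)] (r : ℕ) (hB : Module.finrank k B = r ^ 2) :
    r ≤ Module.finrank κ (κ ⊗[L] B) := by
  have hs : IsSimpleRing (κ ⊗[k] B) := Groth.Agent.H1.isSimpleRing_tensor
  have hfinL : Module.Finite L B := Module.Finite.of_restrictScalars_finite k L B
  let g := fibreHom ι hmod κ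
  let f : κ →ₐ[κ] Module.End κ (κ ⊗[L] B) := Algebra.ofId κ _
  have hcomm : ∀ x b, Commute (f x) (g b) := fun x b => Algebra.commute_algebraMap_left x (g b)
  let ρ : κ ⊗[k] B →ₐ[κ] Module.End κ (κ ⊗[L] B) := Algebra.TensorProduct.lift f g hcomm
  have hinj : Function.Injective ρ := RingHom.injective ρ.toRingHom
  have h1 := LinearMap.finrank_le_finrank_of_injective (f := ρ.toLinearMap) hinj
  rw [Module.finrank_baseChange, hB, Module.finrank_linearMap] at h1
  by_contra hlt
  push Not at hlt
  have : Module.finrank κ (κ ⊗[L] B) * Module.finrank κ (κ ⊗[L] B) < r ^ 2 := by nlinarith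
  omega

attribute [local instance] IsArtinianRing.fieldOfSubtypeIsMaximal

omit [Algebra.IsCentral k B] [IsSimpleRing B] [IsScalarTower k L B] in
include hmod in
/-- The fibres of `B` over the maximal ideals of `L` are nonzero. -/
theorem nontrivial_fibre (hι : Function.Injective ι) [Module.Finite L B] (P : Ideal L)
    [hP : P.IsMaximal] : Nontrivial ((L ⧸ P) ⊗[L] B) := by
  by_contra hnot
  rw [not_nontrivial_iff_subsingleton] at hnot
  have h1 : Subsingleton (B ⧸ (P • (⊤ : Submodule L B))) :=
    (TensorProduct.quotTensorEquivQuotSMul B P).symm.injective.subsingleton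
  rw [Submodule.Quotient.subsingleton_iff] at h1
  obtain ⟨l, hl1, hl2⟩ := Submodule.exists_sub_one_mem_and_smul_eq_zero_of_fg_of_le_smul P
    (⊤ : Submodule L B) Module.Finite.fg_top (by rw [h1])
  have h2 : l • (1 : B) = 0 := hl2 1 Submodule.mem_top
  rw [hmod, one_mul] at h2
  have h3 : l = 0 := hι (by rw [h2, map_zero])
  rw [h3, zero_sub] at hl1
  have h4 : (1 : L) ∈ P := by
    have := P.neg_mem hl1
    simpa using this
  exact hP.ne_top ((Ideal.eq_top_iff_one P).mpr h4)

include hmod in
/-- A central simple algebra of dimension `r²` is free of rank `r` over a reduced commutative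
subalgebra of dimension `r`. -/
theorem nonempty_basis (hι : Function.Injective ι) [IsReduced L] [Module.Finite k L] (r : ℕ)
    (hB : Module.finrank k B = r ^ 2) (hL : Module.finrank k L = r) :
    Nonempty (Module.Basis (Fin r) L B) := by
  classical
  have hart : IsArtinianRing L := IsArtinianRing.of_finite k L
  have hfinL : Module.Finite L B := Module.Finite.of_restrictScalars_finite k L B
  have : Fintype (MaximalSpectrum L) := Fintype.ofFinite _
  let I : MaximalSpectrum L → Ideal L := fun P => P.asIdeal
  have hI : Pairwise (Function.onFun IsCoprime I) := fun P Q hne => P.isCoprime_of_ne hne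
  have hInf : (⨅ P, I P) = ⊥ := by
    have h1 := IsArtinianRing.nilradical_eq_iInf L
    rw [nilradical_eq_zero L] at h1
    exact h1.symm
  have hnt : ∀ P : MaximalSpectrum L, Nontrivial ((L ⧸ I P) ⊗[L] B) := fun P =>
    nontrivial_fibre ι hmod hι (I P)
  have hle : ∀ P : MaximalSpectrum L, r ≤ Module.finrank (L ⧸ I P) ((L ⧸ I P) ⊗[L] B) :=
    fun P => le_finrank_fibre ι hmod (L ⧸ I P) r hB
  -- independent vectors in each fibre
  have hv : ∀ P : MaximalSpectrum L, ∃ v : Fin r → (L ⧸ I P) ⊗[L] B,
      LinearIndependent (L ⧸ I P) v := by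
    intro P
    let bs := Module.finBasis (L ⧸ I P) ((L ⧸ I P) ⊗[L] B)
    exact ⟨fun j => bs (Fin.castLE (hle P) j),
      bs.linearIndependent.comp _ (Fin.castLE_injective _)⟩
  choose v hv using hv
  -- Chinese remainder theorem
  have hsurj := Ideal.pi_tensorProductMk_quotient_surjective B I hI
  have hb : ∀ j : Fin r, ∃ b : B, ∀ P, (1 : L ⧸ I P) ⊗ₜ[L] b = v P j := by
    intro j
    obtain ⟨b, hb⟩ := hsurj (fun P => v P j)
    exact ⟨b, fun P => congrFun hb P⟩
  choose b hb using hb
  let ψ : (Fin r → L) →ₗ[L] B := Fintype.linearCombination L b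
  have hψinj : Function.Injective ψ := by
    rw [← LinearMap.ker_eq_bot, LinearMap.ker_eq_bot']
    intro c hc
    have hcP : ∀ (P : MaximalSpectrum L) (j : Fin r), c j ∈ I P := by
      intro P
      have h1 : (1 : L ⧸ I P) ⊗ₜ[L] (ψ c) = 0 := by rw [hc, tmul_zero]
      have h2 : (1 : L ⧸ I P) ⊗ₜ[L] (ψ c) =
          ∑ j, (Ideal.Quotient.mk (I P) (c j)) • v P j := by
        rw [Fintype.linearCombination_apply, tmul_sum]
        refine Finset.sum_congr rfl fun j _ => ?_
        rw [← hb j P, TensorProduct.tmul_smul, TensorProduct.smul_tmul', TensorProduct.smul_tmul',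
          smul_eq_mul, mul_one, Algebra.smul_def, mul_one]
        rfl
      rw [h2] at h1
      have h3 := Fintype.linearIndependent_iff.mp (hv P) _ h1
      intro j
      exact Ideal.Quotient.eq_zero_iff_mem.mp (h3 j)
    funext j
    have h4 : c j ∈ ⨅ P, I P := (Ideal.mem_iInf).mpr (fun P => hcP P j)
    rw [hInf] at h4
    exact h4
  have hdim : Module.finrank k (Fin r → L) = Module.finrank k B := by
    rw [Module.finrank_pi_fintype, hB]
    simp [hL, sq]
  have hψsurj : Function.Surjective ψ :=
    (LinearMap.injective_iff_surjective_of_finrank_eq_finrank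
      (f := ψ.restrictScalars k) hdim).mp hψinj
  exact ⟨Module.Basis.ofEquivFun (LinearEquiv.ofBijective ψ ⟨hψinj, hψsurj⟩).symm⟩

end

end Groth.Agent.H88.EtaleFree
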