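import Mathlib
import Groth.Agent.H88.EtaleFree
import Groth.Agent.H88.AzumayaFibre
import Groth.Agent.S19588

/-!
# Azumaya algebras over a local ring are free over maximal étale subalgebras

Let `A` be an Azumaya algebra of rank `r²` over a local ring `R`, `E` a finite étale `R`-algebra,
free of rank `r`, and `u : E → A` injective on the special fibre. Then `A` is free of rank `r` as
a right `E`-module and `E ⊗ A ≅ End_E(A)`.
-/

set_option autoImplicit false

open TensorProduct

namespace Groth.Agent.H88.EtaleFreeLocal

universe u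

section general

variable {R : Type*} [CommRing R] {A : Type*} [Ring A] [Algebra R A] {E : Type*} [CommRing E]
  [Algebra R E] (u : E →ₐ[R] A) [Module E A] [IsScalarTower R E A]
  (hmod : ∀ (e : E) (a : A), e • a = a * u e)

include hmod in
/-- Left multiplication, as right-`E`-linear endomorphisms. -/
noncomputable def leftMulHomR : A →ₐ[R] Module.End E A :=
  { toFun := fun a =>
      { toFun := fun y => a * y
        map_add' := mul_add a
        map_smul' := fun l y => by simp only [hmod, mul_assoc, RingHom.id_apply] }
    map_one' := by ext y; simp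
    map_mul' := fun a b => by ext y; simp [mul_assoc]
    map_zero' := by ext y; simp
    map_add' := fun a b => by ext y; simp [add_mul]
    commutes' := fun c => by
      ext y
      simp [Algebra.smul_def] }

@[simp] lemma leftMulHomR_apply (a y : A) : leftMulHomR u hmod a y = a * y := rfl

/-- The action map `E ⊗ A → End_E(A)`, `e ⊗ a ↦ (y ↦ a y u(e))`. -/
noncomputable def actHom : E ⊗[R] A →ₐ[E] Module.End E A :=
  Algebra.TensorProduct.lift (Algebra.ofId E _) (leftMulHomR u hmod)
    (fun x b => Algebra.commute_algebraMap_left x _)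

end general

section main

variable (R : Type u) [CommRing R] [IsLocalRing R] (A : Type u) [Ring A] [Algebra R A]
  [IsAzumaya R A] (r : ℕ) (hA : Module.finrank R A = r ^ 2) (E : Type u) [CommRing E]
  [Algebra R E] [Algebra.Etale R E] [Module.Finite R E] [Module.Free R E]
  (hE : Module.finrank R E = r) (u : E →ₐ[R] A)
  (hu : Function.Injective (u.toLinearMap.lTensor (IsLocalRing.ResidueField R)))
  [Module E A] (hmod : ∀ (e : E) (a : A), e • a = a * u e)

include hA hE hu hmod in
theorem nonempty_basis_local : Nonempty (Module.Basis (Fin r) E A) := by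
  classical
  have hst : IsScalarTower R E A := ⟨fun c e a => by
    rw [hmod, hmod, map_smul, mul_smul_comm]⟩
  have hfree : Module.Free R A := Module.free_of_flat_of_isLocalRing
  set k := IsLocalRing.ResidueField R with hk
  have hAz : IsAzumaya k (k ⊗[R] A) := Groth.Agent.S19588.result R k A
  have hcentral : Algebra.IsCentral k (k ⊗[R] A) := inferInstance
  have hsimple : IsSimpleRing (k ⊗[R] A) :=
    Groth.Agent.H88.AzumayaFibre.isSimpleRing_of_isAzumaya k (k ⊗[R] A)
  have hfinB : Module.finrank k (k ⊗[R] A) = r ^ 2 := by
    rw [Module.finrank_baseChange, hA]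
  have hfinL : Module.finrank k (k ⊗[R] E) = r := by
    rw [Module.finrank_baseChange, hE]
  let ι : k ⊗[R] E →ₐ[k] k ⊗[R] A := Algebra.TensorProduct.map (AlgHom.id k k) u
  have hιfun : ∀ t, ι t = u.toLinearMap.lTensor k t := by
    intro t
    induction t using TensorProduct.induction_on with
    | zero => simp
    | tmul c e => simp [ι]
    | add s t hs ht => simp only [map_add, hs, ht]
  have hι : Function.Injective ι := by
    intro s t h
    apply hu
    rw [← hιfun, ← hιfun, h]
  letI modLB : Module (k ⊗[R] E) (k ⊗[R] A) :=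
    Module.compHom (k ⊗[R] A) (RingHom.toOpposite ι.toRingHom (fun x y => by
      show Commute (ι x) (ι y)
      rw [Commute, SemiconjBy, ← map_mul, ← map_mul, mul_comm]))
  have hmodL : ∀ (l : k ⊗[R] E) (b : k ⊗[R] A), l • b = b * ι l := fun l b => rfl
  have hstL : IsScalarTower k (k ⊗[R] E) (k ⊗[R] A) := ⟨fun c l b => by
    rw [hmodL, hmodL, map_smul, mul_smul_comm]⟩
  have hred : IsReduced (k ⊗[R] E) := Algebra.FormallyUnramified.isReduced_of_field k (k ⊗[R] E)
  obtain ⟨bb⟩ := Groth.Agent.H88.EtaleFree.nonempty_basis ι hmodL hι r hfinB hfinL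
  -- lift the basis
  have hsurjmk : Function.Surjective (TensorProduct.mk R k A 1) :=
    TensorProduct.mk_surjective R A k IsLocalRing.residue_surjective
  choose a ha using fun j => hsurjmk (bb j)
  let ψ : (Fin r → E) →ₗ[E] A := Fintype.linearCombination E a
  have hN : LinearMap.range (ψ.restrictScalars R) = ⊤ := by
    rw [← IsLocalRing.map_tensorProduct_mk_eq_top, eq_top_iff]
    have key : ∀ (l : k ⊗[R] E) (j : Fin r), l • bb j ∈
        (LinearMap.range (ψ.restrictScalars R)).map (TensorProduct.mk R k A 1) := by
      intro l j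
      induction l using TensorProduct.induction_on with
      | zero => rw [zero_smul]; exact Submodule.zero_mem _
      | tmul c e =>
        obtain ⟨ρ, rfl⟩ := IsLocalRing.residue_surjective c
        refine ⟨ρ • e • a j, ⟨Pi.single j (ρ • e), ?_⟩, ?_⟩
        · show ψ (Pi.single j (ρ • e)) = ρ • e • a j
          rw [Fintype.linearCombination_apply_single, smul_assoc]
        · rw [hmodL, ← ha j]
          show (1 : k) ⊗ₜ[R] (ρ • e • a j) =
            ((1 : k) ⊗ₜ[R] a j) * ι ((IsLocalRing.residue R ρ) ⊗ₜ[R] e)
          rw [Algebra.TensorProduct.map_tmul, Algebra.TensorProduct.tmul_mul_tmul, one_mul,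
            AlgHom.id_apply, ← hmod, TensorProduct.tmul_smul, TensorProduct.smul_tmul',
            Algebra.smul_def, mul_one]
          rfl
      | add s t hs ht => rw [add_smul]; exact Submodule.add_mem _ hs ht
    intro t _
    rw [← bb.sum_repr t]
    exact Submodule.sum_mem _ (fun j _ => key _ j)
  have hsurj : Function.Surjective ψ := by
    have := LinearMap.range_eq_top.mp hN
    exact this
  have hfr : Module.finrank R (Fin r → E) = Module.finrank R A := by
    rw [Module.finrank_pi_fintype, hA]
    simp [hE, sq]
  let i0 : (Fin r → E) ≃ₗ[R] A := LinearEquiv.ofFinrankEq _ _ hfr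
  have hinj : Function.Injective ψ :=
    OrzechProperty.injective_of_surjective_of_injective i0.toLinearMap (ψ.restrictScalars R)
      i0.injective hsurj
  exact ⟨Module.Basis.ofEquivFun (LinearEquiv.ofBijective ψ ⟨hinj, hsurj⟩).symm⟩

include hA hE hu hmod in
theorem nonempty_algEquiv_end : Nonempty ((E ⊗[R] A) ≃ₐ[E] Module.End E A) := by
  classical
  have hst : IsScalarTower R E A := ⟨fun c e a => by
    rw [hmod, hmod, map_smul, mul_smul_comm]⟩
  have hfreeR : Module.Free R A := Module.free_of_flat_of_isLocalRing
  obtain ⟨bE⟩ := nonempty_basis_local R A r hA E hE u hu hmod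
  have hntA : Nontrivial A := by
    by_contra h
    rw [not_nontrivial_iff_subsingleton] at h
    have : (1 : R) = 0 := FaithfulSMul.eq_of_smul_eq_smul (α := A)
      (fun x => Subsingleton.elim _ _)
    exact one_ne_zero this
  have hntE : Nontrivial E := u.toRingHom.domain_nontrivial
  have hfreeE : Module.Free E A := Module.Free.of_basis bE
  have hfinE : Module.Finite E A := Module.Finite.of_basis bE
  have hrkE : Module.finrank E A = r := by
    rw [Module.finrank_eq_card_basis bE, Fintype.card_fin]
  have hrpos : 0 < r := by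
    have h1 : 0 < Module.finrank R A := (Module.finrank_pos_iff_of_free R A).mpr hntA
    rw [hA] at h1
    exact Nat.pos_of_ne_zero (fun h0 => by rw [h0] at h1; simp at h1)
  have hAzE : IsAzumaya E (E ⊗[R] A) := Groth.Agent.S19588.result R E A
  let Φ : E ⊗[R] A →ₐ[E] Module.End E A := actHom u hmod
  have hbij : Function.Bijective Φ.toLinearMap := by
    apply Groth.Agent.H88.AzumayaFibre.bijective_of_fibres
    intro P hP
    set κ := P.ResidueField with hκ
    have hAzκ : IsAzumaya κ (κ ⊗[E] (E ⊗[R] A)) := Groth.Agent.S19588.result E κ (E ⊗[R] A)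
    have hsimple : IsSimpleRing (κ ⊗[E] (E ⊗[R] A)) :=
      Groth.Agent.H88.AzumayaFibre.isSimpleRing_of_isAzumaya κ _
    let Ψ : κ ⊗[E] (E ⊗[R] A) →ₐ[κ] κ ⊗[E] (Module.End E A) :=
      Algebra.TensorProduct.map (AlgHom.id κ κ) Φ
    have hΨ : ∀ t, Ψ t = Φ.toLinearMap.lTensor κ t := by
      intro t
      induction t using TensorProduct.induction_on with
      | zero => simp
      | tmul c e => simp [Ψ]
      | add s t hs ht => simp only [map_add, hs, ht]
    have hd1 : Module.finrank κ (κ ⊗[E] (E ⊗[R] A)) = r ^ 2 := by
      rw [Module.finrank_baseChange, Module.finrank_baseChange, hA]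
    have hd2 : Module.finrank κ (κ ⊗[E] (Module.End E A)) = r ^ 2 := by
      rw [Module.finrank_baseChange, Module.finrank_linearMap, hrkE, sq]
    have hnt : Nontrivial (κ ⊗[E] (Module.End E A)) := by
      apply Module.nontrivial_of_finrank_pos (R := κ)
      rw [hd2]
      positivity
    have hinjΨ : Function.Injective Ψ := RingHom.injective Ψ.toRingHom
    have hinj : Function.Injective (Φ.toLinearMap.lTensor κ) := by
      intro s t h
      apply hinjΨ
      rw [hΨ, hΨ, h]
    have hsurjΨ : Function.Surjective Ψ :=
      (LinearMap.injective_iff_surjective_of_finrank_eq_finrank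
        (f := Ψ.toLinearMap) (hd1.trans hd2.symm)).mp hinjΨ
    refine ⟨hinj, ?_⟩
    intro y
    obtain ⟨x, hx⟩ := hsurjΨ y
    exact ⟨x, by rw [← hΨ, hx]⟩
  exact ⟨AlgEquiv.ofBijective Φ hbij⟩

include hA hE hu hmod in
/-- The full statement: freeness, rank and the isomorphism with the endomorphism algebra. -/
theorem free_and_end :
    Module.Free E A ∧ Module.finrank E A = r ∧ Nonempty ((E ⊗[R] A) ≃ₐ[E] Module.End E A) := by
  obtain ⟨bE⟩ := nonempty_basis_local R A r hA E hE u hu hmod
  have hntA : Nontrivial A := by
    by_contra h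
    rw [not_nontrivial_iff_subsingleton] at h
    have : (1 : R) = 0 := FaithfulSMul.eq_of_smul_eq_smul (α := A)
      (fun x => Subsingleton.elim _ _)
    exact one_ne_zero this
  have hntE : Nontrivial E := u.toRingHom.domain_nontrivial
  refine ⟨Module.Free.of_basis bE, ?_, nonempty_algEquiv_end R A r hA E hE u hu hmod⟩
  rw [Module.finrank_eq_card_basis bE, Fintype.card_fin]

end main

end Groth.Agent.H88.EtaleFreeLocal
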