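import Mathlib
import Groth.Agent.H7.LocalStd
import Groth.Agent.S9453

/-!
# Étale neighbourhoods are dominated, Zariski locally, by finite flat covers (scheme version)
-/

namespace Groth.Agent.H88

open AlgebraicGeometry CategoryTheory Limits

universe u

theorem etale_nbhd_dominated {U S : Scheme.{u}} (e : U ⟶ S) [Etale e] (u : U) (s : S)
    (hu : e u = s) :
    ∃ (V : S.Opens) (T : Scheme.{u}) (π : T ⟶ (V : Scheme.{u})), s ∈ V ∧ IsAffineOpen V ∧
      Surjective π ∧ IsFinite π ∧ Flat π ∧ LocallyOfFinitePresentation π ∧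
      ∀ t : T, V.ι (π t) = s → ∃ (W : T.Opens) (h : (W : Scheme.{u}) ⟶ U), t ∈ W ∧
        h ≫ e = W.ι ≫ π ≫ V.ι ∧ ∀ ht : t ∈ W, h ⟨t, ht⟩ = u := by
  obtain ⟨_, ⟨V, hV, rfl⟩, hsV, -⟩ := S.isBasis_affineOpens.exists_subset_of_mem_open
    (Set.mem_univ s) isOpen_univ
  have huV : e u ∈ V := hu ▸ hsV
  haveI : Etale ((⊤ : U.Opens).ι ≫ e) := inferInstance
  obtain ⟨U₀, hU₀, huU₀, le, hstd⟩ :=
    Groth.Agent.H7.exists_isStandardEtale_appLE_of_etale_nhd e u V hV huV ⊤ trivial
  letI := (e.appLE V U₀ le).hom.toAlgebra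
  obtain ⟨S', _, _, hfin, hfp, hflat, hsurj, hfac⟩ := Groth.Agent.S9453.result Γ(S, V) Γ(U, U₀)
  let ψ : Γ(S, V) ⟶ CommRingCat.of S' := CommRingCat.ofHom (algebraMap Γ(S, V) S')
  refine ⟨V, Spec (CommRingCat.of S'), Spec.map ψ ≫ hV.isoSpec.inv, hsV, hV, ?_, ?_, ?_, ?_, ?_⟩
  · haveI : Surjective (Spec.map ψ) := ⟨hsurj⟩
    infer_instance
  · haveI : IsFinite (Spec.map ψ) := by
      rw [IsFinite.SpecMap_iff]
      exact RingHom.finite_algebraMap.mpr hfin
    infer_instance
  · haveI : Flat (Spec.map ψ) := by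
      rw [Flat.SpecMap_iff]
      exact RingHom.flat_algebraMap_iff.mpr hflat
    infer_instance
  · haveI : LocallyOfFinitePresentation (Spec.map ψ) := by
      rw [LocallyOfFinitePresentation.SpecMap_iff]
      exact RingHom.finitePresentation_algebraMap.mpr hfp
    infer_instance
  · intro t ht
    -- the two primes
    let q' : Ideal S' := t.asIdeal
    let qu : PrimeSpectrum Γ(U, U₀) := hU₀.primeIdealOf ⟨u, huU₀⟩
    -- both lie over the prime of `s`
    have hpt : Spec.map (e.appLE V U₀ le) qu = Spec.map ψ t := by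
      apply hV.fromSpec.isOpenEmbedding.injective
      rw [← Scheme.Hom.comp_apply, hV.SpecMap_appLE_fromSpec e hU₀ le, Scheme.Hom.comp_apply,
        hU₀.fromSpec_primeIdealOf, hu]
      rw [← ht, ← Scheme.Hom.comp_apply, ← Scheme.Hom.comp_apply, Category.assoc,
        IsAffineOpen.isoSpec_inv_ι]
    have hunder : q'.under Γ(S, V) = qu.asIdeal.under Γ(S, V) := by
      have := congrArg PrimeSpectrum.asIdeal hpt
      exact this.symm
    obtain ⟨g', hg', φ, hφ⟩ := hfac qu.asIdeal q' hunder
    refine ⟨PrimeSpectrum.basicOpen g',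
      (basicOpenIsoSpecAway (R := CommRingCat.of S') g').hom ≫
        Spec.map (CommRingCat.ofHom φ.toRingHom) ≫ hU₀.fromSpec, hg', ?_, ?_⟩
    · -- commutativity
      rw [Category.assoc, Category.assoc, ← hV.SpecMap_appLE_fromSpec e hU₀ le,
        ← Spec.map_comp_assoc]
      have h1 : e.appLE V U₀ le ≫ CommRingCat.ofHom φ.toRingHom =
          ψ ≫ CommRingCat.ofHom (algebraMap S' (Localization.Away g')) := by
        ext x
        exact φ.commutes x
      rw [h1, Spec.map_comp_assoc, basicOpenIsoSpecAway_hom_SpecMap_assoc, Category.assoc,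
        IsAffineOpen.isoSpec_inv_ι]
    · intro htW
      set y := (basicOpenIsoSpecAway (R := CommRingCat.of S') g').hom ⟨t, htW⟩ with hy
      have h1 : Spec.map (CommRingCat.ofHom (algebraMap S' (Localization.Away g'))) y = t := by
        rw [hy, ← Scheme.Hom.comp_apply, basicOpenIsoSpecAway_hom_SpecMap]
        rfl
      have h2 : y.asIdeal.comap (algebraMap S' (Localization.Away g')) = q' :=
        congrArg PrimeSpectrum.asIdeal h1
      have h3 : y.asIdeal = q'.map (algebraMap S' (Localization.Away g')) := by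
        rw [← h2]
        exact (IsLocalization.map_comap (Submonoid.powers g') (Localization.Away g')
          y.asIdeal).symm
      have h4 : Spec.map (CommRingCat.ofHom φ.toRingHom) y = qu := by
        apply PrimeSpectrum.ext
        change y.asIdeal.comap φ.toRingHom = qu.asIdeal
        rw [h3]
        exact hφ
      rw [Scheme.Hom.comp_apply, Scheme.Hom.comp_apply, ← hy, h4]
      exact hU₀.fromSpec_primeIdealOf ⟨u, huU₀⟩

end Groth.Agent.H88
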