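import Mathlib
import Groth.Agent.H88.KoszulHZM
import Groth.Agent.H88.SuppCokernel
import Groth.Agent.H30.FlasqueAcyclic
import Groth.Agent.Lead.Coh.AffineOpen

/-!
# Flasqueness of `M~` and vanishing of `colim_n H^1(f^n, M)`
-/

namespace Groth.Agent.H88

open CategoryTheory Limits AlgebraicGeometry TopologicalSpace Opposite Abelian
open Groth.Agent.Lead.Coh

universe u

variable {R : CommRingCat.{u}}

/-- In a Noetherian spectrum every open is of the form `D(f_1) ∪ … ∪ D(f_r)`. -/
theorem exists_punct_eq [NoetherianSpace (PrimeSpectrum R)] (U : (Spec R).Opens) :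
    ∃ fs : List R, punct fs = U := by
  classical
  have hc : IsCompact ((U : Set (Spec R)) : Set (PrimeSpectrum R)) :=
    NoetherianSpace.isCompact (α := PrimeSpectrum R) _
  obtain ⟨t, ht⟩ := (PrimeSpectrum.isCompact_isOpen_iff (R := R)
    (s := ((U : Set (Spec R)) : Set (PrimeSpectrum R)))).mp ⟨hc, U.2⟩
  refine ⟨t.toList, ?_⟩
  apply Opens.ext
  refine Eq.trans ?_ ht
  change (PrimeSpectrum.zeroLocus (R := R)
    ((Ideal.span {a : R | a ∈ t.toList} : Ideal R) : Set R))ᶜ = _
  rw [PrimeSpectrum.zeroLocus_span]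
  congr 2
  ext a
  simp

/-- If `M~` is flasque then `colim_n H^i(f^n, M) = 0` for `i > 0`. -/
theorem subsingleton_koszulHLim_of_isFlasque (M : ModuleCat.{u} R)
    (hfl : TopCat.Sheaf.IsFlasque (Coh.toAb (tilde M))) (fs : List R) (i : ℕ) (hi : 0 < i) :
    Subsingleton (CohIII.koszulHLim fs M i) := by
  obtain ⟨e⟩ := nonempty_HZM_tilde_equiv_koszulHLim R fs M i
  haveI : Subsingleton (LocCohZ.HZM (Spec R) (tilde M) i (punct fs)) :=
    Groth.Agent.H30.FlasqueAcyclic.subsingleton_HZ (X := (Spec R).toTopCat) (Coh.toAb (tilde M))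
      (le_top : punct fs ≤ ⊤) i hi
  exact e.symm.toEquiv.subsingleton

/-- If `colim_n H^1(f^n, M) = 0` then every section of `M~` over `D(f_1) ∪ … ∪ D(f_r)` extends. -/
theorem surjective_res_punct_of_subsingleton (M : ModuleCat.{u} R) (fs : List R)
    (h : Subsingleton (CohIII.koszulHLim fs M 1)) :
    Function.Surjective ((Coh.toAb (tilde M)).obj.map (homOfLE (le_top : punct fs ≤ ⊤)).op) := by
  obtain ⟨e⟩ := nonempty_HZM_tilde_equiv_koszulHLim R fs M 1
  obtain ⟨e'⟩ := nonempty_coker_equiv_HZc_one (T := (Spec R).toTopCat) (Coh.toAb (tilde M))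
    (punct fs) (hVanish_of_isAffineOpen (Spec R) (tilde M) (isAffineOpen_top _) 0)
  haveI : Subsingleton (((Coh.toAb (tilde M)).obj.obj (op (punct fs)) : Type u) ⧸
      ((Coh.toAb (tilde M)).obj.map (homOfLE (le_top : punct fs ≤ ⊤)).op).hom.range) :=
    (e'.trans e).toEquiv.subsingleton
  intro s
  have h0 : (QuotientAddGroup.mk s : ((Coh.toAb (tilde M)).obj.obj (op (punct fs)) : Type u) ⧸
      ((Coh.toAb (tilde M)).obj.map (homOfLE (le_top : punct fs ≤ ⊤)).op).hom.range) = 0 :=
    Subsingleton.elim _ _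
  rw [QuotientAddGroup.eq_zero_iff] at h0
  exact h0

theorem surjective_res_of_subsingleton [NoetherianSpace (PrimeSpectrum R)] (M : ModuleCat.{u} R)
    (h : ∀ fs : List R, Subsingleton (CohIII.koszulHLim fs M 1)) {U V : (Spec R).Opens}
    (hVU : V ≤ U) :
    Function.Surjective ((Coh.toAb (tilde M)).obj.map (homOfLE hVU).op) := by
  intro s
  obtain ⟨fs, hfs⟩ := exists_punct_eq (R := R) V
  have hs := surjective_res_punct_of_subsingleton M fs (h fs)
  subst hfs
  obtain ⟨t, ht⟩ := hs s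
  refine ⟨(Coh.toAb (tilde M)).obj.map (homOfLE (le_top : U ≤ ⊤)).op t, ?_⟩
  rw [← ht]
  change ((Coh.toAb (tilde M)).obj.map (homOfLE (le_top : U ≤ ⊤)).op ≫
    (Coh.toAb (tilde M)).obj.map (homOfLE hVU).op) t = _
  rw [← Functor.map_comp]
  rfl

/-- Flasqueness of `M~` from the vanishing of all the `colim_n H^1(f^n, M)`. -/
theorem isFlasque_tilde_of_subsingleton [NoetherianSpace (PrimeSpectrum R)] (M : ModuleCat.{u} R)
    (h : ∀ fs : List R, Subsingleton (CohIII.koszulHLim fs M 1)) :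
    TopCat.Sheaf.IsFlasque (Coh.toAb (tilde M)) where
  epi {U V} i := by
    rw [AddCommGrpCat.epi_iff_surjective]
    have hi : i = (homOfLE (leOfHom i.unop)).op := rfl
    rw [hi]
    exact surjective_res_of_subsingleton M h _

end Groth.Agent.H88
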