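import Mathlib.Algebra.Group.ForwardDiff
import Mathlib.Data.Nat.Choose.Sum

set_option autoImplicit false

namespace Groth.Agent.H88

open Finset fwdDiff Nat

variable {R : Type*} [CommRing R]

theorem fwdDiff_pow_eq_sum (h : R) (j : ℕ) :
    (Δ_[h] fun (r : R) ↦ r ^ j) = ∑ i ∈ range j, ((j.choose i : R) * h ^ (j - i)) • fun r ↦ r ^ i := by
  ext x
  simp only [fwdDiff, add_pow, sum_range_succ, Nat.sub_self, pow_zero, mul_one, Nat.choose_self,
    Nat.cast_one, add_sub_cancel_right, Finset.sum_apply, Pi.smul_apply, smul_eq_mul]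
  apply Finset.sum_congr rfl
  intro i _
  ring

theorem fwdDiff_iter_smul_fun (h : R) (c : R) (f : R → R) (n : ℕ) :
    Δ_[h]^[n] (c • f) = c • Δ_[h]^[n] f :=
  fwdDiff_iter_const_smul h c f n

theorem fwdDiff_iter_pow_eq_zero_of_lt' (h : R) {j n : ℕ} (hj : j < n) :
    Δ_[h]^[n] (fun (r : R) ↦ r ^ j) = 0 := by
  induction n generalizing j with
  | zero => omega
  | succ n ih =>
    rw [Function.iterate_succ_apply, fwdDiff_pow_eq_sum, fwdDiff_iter_finsetSum]
    exact sum_eq_zero fun i hi ↦ by
      rw [fwdDiff_iter_smul_fun, ih (by have := mem_range.1 hi; omega), smul_zero]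

theorem fwdDiff_iter_pow_self (h : R) (n : ℕ) :
    Δ_[h]^[n] (fun (r : R) ↦ r ^ n) = fun _ ↦ (n ! : R) * h ^ n := by
  induction n with
  | zero => funext x; simp
  | succ n ih =>
    rw [Function.iterate_succ_apply, fwdDiff_pow_eq_sum, fwdDiff_iter_finsetSum, sum_range_succ]
    rw [sum_eq_zero, zero_add, fwdDiff_iter_smul_fun, ih]
    · funext x
      simp only [Nat.choose_succ_self_right, Nat.add_sub_cancel_left, pow_one, Pi.smul_apply,
        smul_eq_mul, Nat.factorial_succ]
      push_cast
      ring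
    · intro i hi
      rw [fwdDiff_iter_smul_fun, fwdDiff_iter_pow_eq_zero_of_lt' h (mem_range.1 hi), smul_zero]

theorem two_mul_choose_two (n : ℕ) : 2 * (n + 1).choose 2 = n * (n + 1) := by
  induction n with
  | zero => simp
  | succ n ih =>
    rw [Nat.choose_succ_succ' (n + 1) 1, Nat.choose_one_right, mul_add, ih]
    ring

/-- the constant `n * (n+1)! / 2`, written without division -/
theorem triangle_const_rec (n : ℕ) :
    (n + 2).choose 2 * (n + 1)! = (n + 2) * ((n + 1).choose 2 * n !) + (n + 2).choose 2 * n ! := by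
  have h1 := two_mul_choose_two n
  have h2 := two_mul_choose_two (n + 1)
  have : 2 * ((n + 2).choose 2 * (n + 1)!) =
      2 * ((n + 2) * ((n + 1).choose 2 * n !) + (n + 2).choose 2 * n !) := by
    rw [Nat.factorial_succ]
    calc 2 * ((n + 2).choose 2 * ((n + 1) * n !))
        = (2 * (n + 2).choose 2) * ((n + 1) * n !) := by ring
      _ = ((n + 1) * (n + 2)) * ((n + 1) * n !) := by rw [h2]
      _ = (n + 2) * ((n * (n + 1)) * n !) + ((n + 1) * (n + 2)) * n ! := by ring
      _ = (n + 2) * ((2 * (n + 1).choose 2) * n !) + (2 * (n + 2).choose 2) * n ! := by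
          rw [h1, h2]
      _ = _ := by ring
  exact Nat.eq_of_mul_eq_mul_left (by norm_num) this

theorem fwdDiff_iter_pow_succ (h : R) (n : ℕ) :
    Δ_[h]^[n] (fun (r : R) ↦ r ^ (n + 1)) =
      fun r ↦ ((n + 1)! : R) * h ^ n * r + (((n + 1).choose 2 * n ! : ℕ) : R) * h ^ (n + 1) := by
  induction n with
  | zero => funext x; simp
  | succ n ih =>
    rw [Function.iterate_succ_apply, fwdDiff_pow_eq_sum, fwdDiff_iter_finsetSum, sum_range_succ,
      sum_range_succ]
    rw [sum_eq_zero, zero_add, fwdDiff_iter_smul_fun, fwdDiff_iter_smul_fun, ih,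
      fwdDiff_iter_pow_self]
    · funext x
      have e1 : n + 1 + 1 - n = 2 := by omega
      have e2 : n + 1 + 1 - (n + 1) = 1 := by omega
      have e3 : (n + 1 + 1).choose n = (n + 2).choose 2 := by
        rw [show n + 1 + 1 = n + 2 from rfl, ← Nat.choose_symm_add]
      have e4 : (n + 1 + 1).choose (n + 1) = n + 2 := by
        rw [Nat.choose_succ_self_right]
      simp only [Pi.add_apply, Pi.smul_apply, smul_eq_mul, e1, e2, e3, e4, pow_one]
      rw [triangle_const_rec n]
      rw [Nat.factorial_succ (n + 1)]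
      push_cast
      ring
    · intro i hi
      rw [fwdDiff_iter_smul_fun, fwdDiff_iter_pow_eq_zero_of_lt' h (mem_range.1 hi), smul_zero]

end Groth.Agent.H88
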