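import Mathlib

set_option autoImplicit false

open Finset

namespace Groth.Agent.H88.GITChain


/-- Abel-type inequality. -/
lemma abel_ineq (d ρ : ℕ → ℝ) (μ : ℕ) (hd0 : d 0 = 0) (hd : ∀ j ≤ μ, 0 ≤ d j)
    (hρ : ∀ j, j + 1 ≤ μ → ρ (j + 1) ≤ ρ j) :
    ∀ k, k + 1 ≤ μ → d (k + 1) * (ρ (k + 1) + ρ k) ≤
      ∑ j ∈ range (k + 1), (d (j + 1) - d j) * (ρ (j + 1) + ρ j) := by
  intro k
  induction k with
  | zero => intro _; simp [hd0]
  | succ k ih =>
    intro hk
    rw [Finset.sum_range_succ]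
    have h1 := ih (by omega)
    have h2 : 0 ≤ d (k + 1) := hd _ (by omega)
    have h3 : ρ (k + 1 + 1) ≤ ρ (k + 1) := hρ (k + 1) (by omega)
    have h4 : ρ (k + 1) ≤ ρ k := hρ k (by omega)
    nlinarith [mul_nonneg h2 (sub_nonneg.mpr (h3.trans h4))]

lemma abel_nonneg (d ρ : ℕ → ℝ) (μ : ℕ) (hμ : 1 ≤ μ) (hd0 : d 0 = 0) (hdμ : d μ = 0)
    (hd : ∀ j ≤ μ, 0 ≤ d j) (hρ : ∀ j, j + 1 ≤ μ → ρ (j + 1) ≤ ρ j) :
    0 ≤ ∑ j ∈ range μ, (d (j + 1) - d j) * (ρ (j + 1) + ρ j) := by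
  obtain ⟨k, rfl⟩ : ∃ k, μ = k + 1 := ⟨μ - 1, by omega⟩
  have := abel_ineq d ρ (k + 1) hd0 hd hρ k le_rfl
  rw [hdμ, zero_mul] at this
  exact this

lemma sum_pair (ρ : ℕ → ℝ) (k : ℕ) :
    ∑ j ∈ range k, (ρ j + ρ (j + 1)) = 2 * ∑ j ∈ range (k + 1), ρ j - ρ 0 - ρ k := by
  induction k with
  | zero => simp; ring
  | succ k ih =>
    rw [Finset.sum_range_succ, ih, Finset.sum_range_succ (fun j => ρ j) (k + 1)]
    ring

lemma sum_Ico_affine (α β : ℝ) (a b : ℕ) (hab : a ≤ b) :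
    ∑ i ∈ Ico a b, (α - β * (i : ℝ)) =
      ((b : ℝ) - a) * α - β * (((b : ℝ) * (b - 1) - (a : ℝ) * (a - 1)) / 2) := by
  induction b, hab using Nat.le_induction with
  | base => simp
  | succ b hb ih =>
    rw [Finset.sum_Ico_succ_top hb, ih]
    push_cast
    ring



/-- existence of a supporting line through two sample points straddling the gap. -/
lemma exists_supporting (n g m : ℕ) (hg : 1 ≤ g) (hmg : m + g = n)
    (rN : ℕ → ℝ) (hrN : ∀ a b, a ≤ b → b ≤ n → rN b ≤ rN a) :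
    ∃ (s t : ℕ) (α β : ℝ), s ≤ m ∧ m < t ∧ t ≤ n ∧ 0 ≤ β ∧
      rN s = α - β * s ∧ rN t = α - β * ((t : ℝ) + g) ∧
      (∀ i, i ≤ m → α - β * i ≤ rN i) ∧
      (∀ i, m < i → i ≤ n → α - β * ((i : ℝ) + g) ≤ rN i) := by
  classical
  set P : Finset (ℕ × ℕ) := (range (m + 1)) ×ˢ (Ico (m + 1) (n + 1)) with hP
  set v : ℕ × ℕ → ℝ := fun p =>
    (rN p.1 * ((p.2 : ℝ) + g - ((m : ℝ) + 1)) + rN p.2 * ((m : ℝ) + 1 - p.1)) /
      ((p.2 : ℝ) + g - p.1) with hv
  have hne : P.Nonempty := ⟨(0, n), by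
    simp only [hP, Finset.mem_product, Finset.mem_range, Finset.mem_Ico]
    omega⟩
  obtain ⟨⟨s, t⟩, hstP, hmin⟩ := P.exists_min_image v hne
  simp only [hP, Finset.mem_product, Finset.mem_range, Finset.mem_Ico] at hstP
  obtain ⟨hs, ht1, ht2⟩ := hstP
  have hsm : s ≤ m := by omega
  have hmt : m < t := by omega
  have htn : t ≤ n := by omega
  have hsR : (s : ℝ) ≤ m := by exact_mod_cast hsm
  have htR : (m : ℝ) + 1 ≤ t := by exact_mod_cast hmt
  have hgR : (1 : ℝ) ≤ g := by exact_mod_cast hg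
  have hW : (0 : ℝ) < (t : ℝ) + g - s := by linarith
  obtain ⟨β, hβ⟩ : ∃ β : ℝ, β = (rN s - rN t) / ((t : ℝ) + g - s) := ⟨_, rfl⟩
  obtain ⟨α, hα⟩ : ∃ α : ℝ, α = rN s + β * s := ⟨_, rfl⟩
  have hβW : β * ((t : ℝ) + g - s) = rN s - rN t := by
    rw [hβ]; exact div_mul_cancel₀ _ hW.ne'
  have hβ0 : 0 ≤ β := by
    rw [hβ]
    exact div_nonneg (sub_nonneg.mpr (hrN s t (by omega) htn)) hW.le
  have hAs : rN s = α - β * s := by rw [hα]; ring
  have hAt : rN t = α - β * ((t : ℝ) + g) := by rw [hα]; linear_combination hβW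
  have hvst : v (s, t) = α - β * ((m : ℝ) + 1) := by
    simp only [hv]
    rw [div_eq_iff hW.ne', hAs, hAt]
    ring
  refine ⟨s, t, α, β, hsm, hmt, htn, hβ0, hAs, hAt, ?_, ?_⟩
  · intro i him
    have hq : (i, t) ∈ P := by
      simp only [hP, Finset.mem_product, Finset.mem_range, Finset.mem_Ico]
      omega
    have h := hmin (i, t) hq
    rw [hvst] at h
    simp only [hv] at h
    have hiR : (i : ℝ) ≤ m := by exact_mod_cast him
    have hWi : (0 : ℝ) < (t : ℝ) + g - i := by linarith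
    rw [le_div_iff₀ hWi, hAt] at h
    have ha : (0 : ℝ) < (t : ℝ) + g - ((m : ℝ) + 1) := by linarith
    have h2 : (α - β * i) * ((t : ℝ) + g - ((m : ℝ) + 1)) ≤ rN i * ((t : ℝ) + g - ((m : ℝ) + 1)) := by
      linear_combination h
    exact le_of_mul_le_mul_right h2 ha
  · intro i hmi hin
    have hq : (s, i) ∈ P := by
      simp only [hP, Finset.mem_product, Finset.mem_range, Finset.mem_Ico]
      omega
    have h := hmin (s, i) hq
    rw [hvst] at h
    simp only [hv] at h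
    have hiR : (m : ℝ) + 1 ≤ i := by exact_mod_cast hmi
    have hWi : (0 : ℝ) < (i : ℝ) + g - s := by linarith
    rw [le_div_iff₀ hWi, hAs] at h
    have ha : (0 : ℝ) < (m : ℝ) + 1 - s := by linarith
    have h2 : (α - β * ((i : ℝ) + g)) * ((m : ℝ) + 1 - s) ≤ rN i * ((m : ℝ) + 1 - s) := by
      linear_combination h
    exact le_of_mul_le_mul_right h2 ha

lemma key_ineq (n g m : ℕ) (hg : 1 ≤ g) (hmg : m + g = n) (hgm : g ≤ m)
    (rN : ℕ → ℝ) (hrN : ∀ a b, a ≤ b → b ≤ n → rN b ≤ rN a)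
    (hsum : ∑ i ∈ range (n + 1), rN i = 0) (hne : ∃ i, i ≤ n ∧ rN i ≠ 0)
    (s t : ℕ) (α β : ℝ) (hsm : s ≤ m) (hmt : m < t) (htn : t ≤ n) (hβ0 : 0 ≤ β)
    (hAs : rN s = α - β * s) (hAt : rN t = α - β * ((t : ℝ) + g))
    (hL : ∀ i, i ≤ m → α - β * i ≤ rN i)
    (hR : ∀ i, m < i → i ≤ n → α - β * ((i : ℝ) + g) ≤ rN i) :
    ∑ j ∈ range s, (rN j + rN (j + 1)) + ((t : ℝ) + g - s) * (rN s + rN t)
      + ∑ i ∈ range (n - t), (rN (t + i) + rN (t + i + 1)) < 0 := by
  -- pieces of the total sum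
  have hsplit1 : ∑ i ∈ Ico 0 (s + 1), rN i + ∑ i ∈ Ico (s + 1) t, rN i = ∑ i ∈ Ico 0 t, rN i :=
    Finset.sum_Ico_consecutive _ (by omega) (by omega)
  have hsplit2 : ∑ i ∈ Ico 0 t, rN i + ∑ i ∈ Ico t (n + 1), rN i = ∑ i ∈ Ico 0 (n + 1), rN i :=
    Finset.sum_Ico_consecutive _ (by omega) (by omega)
  have hQ : ∑ i ∈ Ico t (n + 1), rN i = ∑ i ∈ range (n - t + 1), rN (t + i) := by
    rw [Finset.sum_Ico_eq_sum_range]
    congr 2
    omega
  have hS1 := sum_pair rN s
  have htn' : t + (n - t) = n := by omega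
  have hS3 : ∑ i ∈ range (n - t), (rN (t + i) + rN (t + i + 1)) =
      2 * ∑ j ∈ range (n - t + 1), rN (t + j) - rN t - rN n := by
    have := sum_pair (fun i => rN (t + i)) (n - t)
    simp only [htn', add_zero] at this
    exact this
  have hP : ∑ j ∈ range (s + 1), rN j = ∑ i ∈ Ico 0 (s + 1), rN i := by
    rw [Finset.range_eq_Ico]
  rw [Finset.range_eq_Ico] at hsum
  -- split of the middle sum at m
  have hM : ∑ i ∈ Ico (s + 1) (m + 1), rN i + ∑ i ∈ Ico (m + 1) t, rN i = ∑ i ∈ Ico (s + 1) t, rN i :=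
    Finset.sum_Ico_consecutive _ (by omega) (by omega)
  have hM1 : ∑ i ∈ Ico (s + 1) (m + 1), (α - β * (i : ℝ)) ≤ ∑ i ∈ Ico (s + 1) (m + 1), rN i := by
    apply Finset.sum_le_sum
    intro i hi
    rw [Finset.mem_Ico] at hi
    exact hL i (by omega)
  have hM2 : ∑ i ∈ Ico (m + 1) t, ((α - β * g) - β * (i : ℝ)) ≤ ∑ i ∈ Ico (m + 1) t, rN i := by
    apply Finset.sum_le_sum
    intro i hi
    rw [Finset.mem_Ico] at hi
    have := hR i (by omega) (by omega)
    linarith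
  rw [sum_Ico_affine _ _ _ _ (by omega)] at hM1 hM2
  -- total sum split at m
  have hT : ∑ i ∈ Ico 0 (m + 1), rN i + ∑ i ∈ Ico (m + 1) (n + 1), rN i = ∑ i ∈ Ico 0 (n + 1), rN i :=
    Finset.sum_Ico_consecutive _ (by omega) (by omega)
  have hT1 : ∑ i ∈ Ico 0 (m + 1), (α - β * (i : ℝ)) ≤ ∑ i ∈ Ico 0 (m + 1), rN i := by
    apply Finset.sum_le_sum
    intro i hi
    rw [Finset.mem_Ico] at hi
    exact hL i (by omega)
  have hT2 : ∑ i ∈ Ico (m + 1) (n + 1), ((α - β * g) - β * (i : ℝ)) ≤ ∑ i ∈ Ico (m + 1) (n + 1), rN i := by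
    apply Finset.sum_le_sum
    intro i hi
    rw [Finset.mem_Ico] at hi
    have := hR i (by omega) (by omega)
    linarith
  rw [sum_Ico_affine _ _ _ _ (by omega)] at hT1 hT2
  have hr0 : α ≤ rN 0 := by
    have := hL 0 (by omega)
    simpa using this
  have hrn : α - β * ((n : ℝ) + g) ≤ rN n := hR n (by omega) le_rfl
  have hnR : (n : ℝ) = m + g := by exact_mod_cast hmg.symm
  have hgR : (1 : ℝ) ≤ g := by exact_mod_cast hg
  have hgmR : (g : ℝ) ≤ m := by exact_mod_cast hgm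
  push_cast at hM1 hM2 hT1 hT2
  have hnR1 : (0 : ℝ) < (n : ℝ) + 1 := by positivity
  -- main bound
  have hX : ∑ j ∈ range s, (rN j + rN (j + 1)) + ((t : ℝ) + g - s) * (rN s + rN t)
      + ∑ i ∈ range (n - t), (rN (t + i) + rN (t + i + 1))
      ≤ (α - rN 0) + 2 * ((g : ℝ) - 1) * α + β * ((g : ℝ) ^ 2 - 2 * g * n + n) := by
    rw [hS1, hS3, hAs, hAt, hnR]
    rw [hnR] at hrn
    linarith
  have hC : ((n : ℝ) + 1) * α ≤ β * ((n : ℝ) * (n + 1) / 2 + (g : ℝ) ^ 2) := by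
    rw [hnR] at hT2 ⊢
    linarith
  have hK : 0 < ((n : ℝ) + 1) * ((n : ℝ) - g) - 2 * g * ((g : ℝ) - 1) := by
    rw [hnR]
    nlinarith [mul_nonneg (sub_nonneg.mpr hgmR) (by positivity : (0 : ℝ) ≤ (m : ℝ) + g + 1),
      mul_nonneg (by linarith : (0 : ℝ) ≤ (g : ℝ)) (sub_nonneg.mpr hgmR)]
  have hg1 : (0 : ℝ) ≤ 2 * ((g : ℝ) - 1) := by linarith
  have hC' := mul_le_mul_of_nonneg_left hC hg1
  have hX' := mul_le_mul_of_nonneg_left hX hnR1.le
  have hZ : ((n : ℝ) + 1) * (∑ j ∈ range s, (rN j + rN (j + 1)) + ((t : ℝ) + g - s) * (rN s + rN t)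
      + ∑ i ∈ range (n - t), (rN (t + i) + rN (t + i + 1)))
      ≤ ((n : ℝ) + 1) * (α - rN 0)
        - β * g * (((n : ℝ) + 1) * ((n : ℝ) - g) - 2 * g * ((g : ℝ) - 1)) := by
    linarith
  have hstrict : ((n : ℝ) + 1) * (α - rN 0)
        - β * g * (((n : ℝ) + 1) * ((n : ℝ) - g) - 2 * g * ((g : ℝ) - 1)) < 0 := by
    rcases hβ0.lt_or_eq with hβpos | hβz
    · have h1 : 0 < β * g * (((n : ℝ) + 1) * ((n : ℝ) - g) - 2 * g * ((g : ℝ) - 1)) :=
        mul_pos (mul_pos hβpos (by linarith)) hK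
      have h2 : ((n : ℝ) + 1) * (α - rN 0) ≤ 0 :=
        mul_nonpos_of_nonneg_of_nonpos hnR1.le (by linarith)
      linarith
    · have hlt : α < rN 0 := by
        by_contra hcon
        rw [not_lt] at hcon
        have hall : ∀ i, i ≤ n → rN i = α := by
          intro i hi
          have h1 : rN i ≤ rN 0 := hrN 0 i (by omega) hi
          have h2 : α ≤ rN i := by
            by_cases him : i ≤ m
            · have := hL i him
              rw [← hβz] at this
              linarith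
            · have := hR i (by omega) hi
              rw [← hβz] at this
              linarith
          linarith
        have hsum' : ∑ i ∈ Ico 0 (n + 1), rN i = ∑ i ∈ Ico 0 (n + 1), α := by
          apply Finset.sum_congr rfl
          intro i hi
          rw [Finset.mem_Ico] at hi
          exact hall i (by omega)
        rw [hsum, Finset.sum_const, Nat.card_Ico, nsmul_eq_mul] at hsum'
        have hα0 : α = 0 := by
          have h3 : ((n + 1 - 0 : ℕ) : ℝ) ≠ 0 := by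
            simp only [Nat.sub_zero]
            positivity
          rcases mul_eq_zero.mp hsum'.symm with h | h
          · exact absurd h h3
          · exact h
        obtain ⟨i, hi, hri⟩ := hne
        exact hri (by rw [hall i hi, hα0])
      rw [← hβz]
      have : ((n : ℝ) + 1) * (α - rN 0) < 0 := mul_neg_of_pos_of_neg hnR1 (by linarith)
      linarith
  by_contra hcon
  rw [not_lt] at hcon
  have := mul_nonneg hnR1.le hcon
  linarith


theorem main (n g : ℕ) (hg : 1 ≤ g) (hn : 2 * g ≤ n)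
    (e : Fin (n + 1) → ℕ) (he0 : e 0 = 0) (hen : e (Fin.last n) = n + g) (hmono : Monotone e)
    (hle : ∀ i : Fin (n + 1), (i : ℕ) ≤ n - g → e i ≤ (i : ℕ))
    (hle' : ∀ i : Fin (n + 1), e i ≤ (i : ℕ) + g)
    (r : Fin (n + 1) → ℝ) (hanti : Antitone r) (hsum : ∑ i, r i = 0) (hr : r ≠ 0) :
    ∃ (μ : ℕ) (c : Fin (μ + 1) → Fin (n + 1)), StrictMono c ∧ c 0 = 0 ∧
      c (Fin.last μ) = Fin.last n ∧
      ∑ j : Fin μ, ((e (c j.succ) : ℝ) - (e (c j.castSucc) : ℝ)) *
        (r (c j.succ) + r (c j.castSucc)) < 0 := by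
  classical
  obtain ⟨m, hmg⟩ : ∃ m, m + g = n := ⟨n - g, by omega⟩
  have hgm : g ≤ m := by omega
  have hm' : n - g = m := by omega
  -- ℕ-indexed versions
  let eN : ℕ → ℝ := fun i => if h : i < n + 1 then (e ⟨i, h⟩ : ℝ) else 0
  let rN : ℕ → ℝ := fun i => if h : i < n + 1 then r ⟨i, h⟩ else 0
  let xN : ℕ → ℝ := fun i => if i ≤ m then (i : ℝ) else (i : ℝ) + g
  have heN : ∀ i (h : i < n + 1), eN i = (e ⟨i, h⟩ : ℝ) := fun i h => dif_pos h
  have hrNdef : ∀ i (h : i < n + 1), rN i = r ⟨i, h⟩ := fun i h => dif_pos h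
  have hxL : ∀ i, i ≤ m → xN i = i := fun i h => if_pos h
  have hxR : ∀ i, m < i → xN i = (i : ℝ) + g := fun i h => if_neg (by omega)
  have hrN : ∀ a b, a ≤ b → b ≤ n → rN b ≤ rN a := by
    intro a b hab hbn
    rw [hrNdef a (by omega), hrNdef b (by omega)]
    exact hanti (Fin.mk_le_mk.mpr hab)
  have hsumN : ∑ i ∈ range (n + 1), rN i = 0 := by
    rw [← Fin.sum_univ_eq_sum_range, ← hsum]
    apply Finset.sum_congr rfl
    intro i _
    exact hrNdef i i.isLt
  have hneN : ∃ i, i ≤ n ∧ rN i ≠ 0 := by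
    by_contra hcon
    push Not at hcon
    apply hr
    funext i
    have := hcon i (by have := i.isLt; omega)
    rw [hrNdef i i.isLt] at this
    exact this
  have heN_le : ∀ i, i ≤ n → eN i ≤ xN i := by
    intro i hi
    have h : i < n + 1 := by omega
    rw [heN i h]
    by_cases him : i ≤ m
    · rw [hxL i him]
      exact_mod_cast hle ⟨i, h⟩ (by simpa [hm'] using him)
    · rw [hxR i (by omega)]
      exact_mod_cast hle' ⟨i, h⟩
  obtain ⟨s, t, α, β, hsm, hmt, htn, hβ0, hAs, hAt, hL, hR⟩ :=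
    exists_supporting n g m hg hmg rN hrN
  have hkey := key_ineq n g m hg hmg hgm rN hrN hsumN hneN s t α β hsm hmt htn hβ0 hAs hAt hL hR
  -- the chain
  let cv : ℕ → ℕ := fun j => if j ≤ s then j else j + (t - s - 1)
  have hcvL : ∀ j, j ≤ s → cv j = j := fun j h => if_pos h
  have hcvR : ∀ j, s < j → cv j = j + (t - s - 1) := fun j h => if_neg (by omega)
  obtain ⟨μ, hμ⟩ : ∃ μ, μ = s + 1 + (n - t) := ⟨_, rfl⟩
  have hcv_le : ∀ j, j ≤ μ → cv j ≤ n := by
    intro j hj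
    by_cases h : j ≤ s
    · rw [hcvL j h]; omega
    · rw [hcvR j (by omega)]; omega
  have hcv_mono : ∀ j, cv j < cv (j + 1) := by
    intro j
    by_cases h : j + 1 ≤ s
    · rw [hcvL j (by omega), hcvL (j + 1) h]; omega
    · by_cases h2 : j ≤ s
      · rw [hcvL j h2, hcvR (j + 1) (by omega)]; omega
      · rw [hcvR j (by omega), hcvR (j + 1) (by omega)]; omega
  have hcvSM : StrictMono cv := strictMono_nat_of_lt_succ hcv_mono
  have hcv0 : cv 0 = 0 := hcvL 0 (by omega)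
  have hcvμ : cv μ = n := by rw [hcvR μ (by omega)]; omega
  have hbound : ∀ j : Fin (μ + 1), cv j < n + 1 := by
    intro j
    have := hcv_le j (by have := j.isLt; omega)
    omega
  refine ⟨μ, fun j => ⟨cv j, hbound j⟩, ?_, ?_, ?_, ?_⟩
  · intro a b hab
    exact Fin.mk_lt_mk.mpr (hcvSM (Fin.lt_def.mp hab))
  · apply Fin.ext
    simp only [Fin.val_zero]
    exact hcv0
  · apply Fin.ext
    simp only [Fin.val_last]
    exact hcvμ
  · -- the sum
    have hsumc : ∑ j : Fin μ, ((e (⟨cv (j.succ : Fin (μ + 1)), hbound j.succ⟩ : Fin (n + 1)) : ℝ) -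
          (e (⟨cv (j.castSucc : Fin (μ + 1)), hbound j.castSucc⟩ : Fin (n + 1)) : ℝ)) *
        (r ⟨cv (j.succ : Fin (μ + 1)), hbound j.succ⟩ +
          r ⟨cv (j.castSucc : Fin (μ + 1)), hbound j.castSucc⟩)
        = ∑ j ∈ range μ, (eN (cv (j + 1)) - eN (cv j)) * (rN (cv (j + 1)) + rN (cv j)) := by
      rw [← Fin.sum_univ_eq_sum_range]
      apply Finset.sum_congr rfl
      intro j _
      have h1 : cv ((j : ℕ) + 1) < n + 1 := hbound j.succ
      have h2 : cv (j : ℕ) < n + 1 := hbound j.castSucc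
      rw [heN _ h1, heN _ h2, hrNdef _ h1, hrNdef _ h2]
      rfl
    rw [hsumc]
    -- monotonicity in e
    have hμ1 : 1 ≤ μ := by omega
    have hD := abel_nonneg (fun j => xN (cv j) - eN (cv j)) (fun j => rN (cv j)) μ hμ1
      (by
        show xN (cv 0) - eN (cv 0) = 0
        rw [hcv0, hxL 0 (by omega), heN 0 (by omega)]
        have : (⟨0, by omega⟩ : Fin (n + 1)) = 0 := rfl
        rw [this, he0]
        simp)
      (by
        show xN (cv μ) - eN (cv μ) = 0
        rw [hcvμ, hxR n (by omega), heN n (by omega)]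
        have : (⟨n, by omega⟩ : Fin (n + 1)) = Fin.last n := rfl
        rw [this, hen]
        push_cast
        ring)
      (by
        intro j hj
        show 0 ≤ xN (cv j) - eN (cv j)
        exact sub_nonneg.mpr (heN_le _ (hcv_le j hj)))
      (by
        intro j hj
        show rN (cv (j + 1)) ≤ rN (cv j)
        exact hrN _ _ (hcv_mono j).le (hcv_le (j + 1) hj))
    have hle1 : ∑ j ∈ range μ, (eN (cv (j + 1)) - eN (cv j)) * (rN (cv (j + 1)) + rN (cv j))
        ≤ ∑ j ∈ range μ, (xN (cv (j + 1)) - xN (cv j)) * (rN (cv (j + 1)) + rN (cv j)) := by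
      have : ∑ j ∈ range μ, (xN (cv (j + 1)) - xN (cv j)) * (rN (cv (j + 1)) + rN (cv j))
          - ∑ j ∈ range μ, (eN (cv (j + 1)) - eN (cv j)) * (rN (cv (j + 1)) + rN (cv j))
          = ∑ j ∈ range μ, ((xN (cv (j + 1)) - eN (cv (j + 1))) - (xN (cv j) - eN (cv j))) *
              (rN (cv (j + 1)) + rN (cv j)) := by
        rw [← Finset.sum_sub_distrib]
        apply Finset.sum_congr rfl
        intro j _
        ring
      linarith
    -- evaluation of the x-sum
    have hXs : ∑ j ∈ range μ, (xN (cv (j + 1)) - xN (cv j)) * (rN (cv (j + 1)) + rN (cv j))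
        = ∑ j ∈ range s, (rN j + rN (j + 1)) + ((t : ℝ) + g - s) * (rN s + rN t)
          + ∑ i ∈ range (n - t), (rN (t + i) + rN (t + i + 1)) := by
      rw [hμ, Finset.sum_range_add, Finset.sum_range_succ]
      have e1 : ∑ j ∈ range s, (xN (cv (j + 1)) - xN (cv j)) * (rN (cv (j + 1)) + rN (cv j))
          = ∑ j ∈ range s, (rN j + rN (j + 1)) := by
        apply Finset.sum_congr rfl
        intro j hj
        rw [Finset.mem_range] at hj
        rw [hcvL j (by omega), hcvL (j + 1) (by omega), hxL j (by omega), hxL (j + 1) (by omega)]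
        push_cast
        ring
      have e2 : (xN (cv (s + 1)) - xN (cv s)) * (rN (cv (s + 1)) + rN (cv s))
          = ((t : ℝ) + g - s) * (rN s + rN t) := by
        have : cv (s + 1) = t := by rw [hcvR (s + 1) (by omega)]; omega
        rw [this, hcvL s le_rfl, hxL s hsm, hxR t hmt]
        ring
      have e3 : ∑ i ∈ range (n - t), (xN (cv (s + 1 + i + 1)) - xN (cv (s + 1 + i))) *
            (rN (cv (s + 1 + i + 1)) + rN (cv (s + 1 + i)))
          = ∑ i ∈ range (n - t), (rN (t + i) + rN (t + i + 1)) := by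
        apply Finset.sum_congr rfl
        intro i hi
        rw [Finset.mem_range] at hi
        have h1 : cv (s + 1 + i + 1) = t + i + 1 := by rw [hcvR _ (by omega)]; omega
        have h2 : cv (s + 1 + i) = t + i := by rw [hcvR _ (by omega)]; omega
        rw [h1, h2, hxR (t + i + 1) (by omega), hxR (t + i) (by omega)]
        push_cast
        ring
      rw [e1, e2, e3]
    linarith

end Groth.Agent.H88.GITChain
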