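import Groth.Agent.H88.GLUnits

/-!
# Units of the coordinate ring of `GL_n`, part 2 (helper88)
-/

set_option autoImplicit false
set_option linter.unusedSectionVars false

namespace Groth.Agent.H88.GLUnits

open MvPolynomial

variable {m : Type*} [Fintype m] [DecidableEq m] [Nonempty m] (A : Type*) [CommRing A]

/-- The unit `det` of the coordinate ring. -/
noncomputable def δ : (Localization.Away (D (m := m) A))ˣ :=
  (IsLocalization.Away.algebraMap_isUnit (S := Localization.Away (D (m := m) A))
    (D (m := m) A)).unit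

/-- Constants as units of the coordinate ring. -/
noncomputable def α : Aˣ →* (Localization.Away (D (m := m) A))ˣ :=
  Units.map (algebraMap A (Localization.Away (D (m := m) A))).toMonoidHom

lemma δ_val : ((δ (m := m) A : (Localization.Away (D (m := m) A))ˣ) :
    Localization.Away (D (m := m) A)) = algebraMap _ _ (D (m := m) A) := rfl

lemma α_val (a : Aˣ) : ((α (m := m) A a : (Localization.Away (D (m := m) A))ˣ) :
    Localization.Away (D (m := m) A)) =
    algebraMap (MvPolynomial (m × m) A) _ (C (a : A)) := by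
  simp only [α, Units.coe_map, RingHom.toMonoidHom_eq_coe, MonoidHom.coe_coe]
  rw [IsScalarTower.algebraMap_apply A (MvPolynomial (m × m) A), MvPolynomial.algebraMap_eq]

lemma val_mul_pow (a : Aˣ) (n : ℕ) :
    ((α (m := m) A a * δ A ^ (n : ℤ) : (Localization.Away (D (m := m) A))ˣ) :
      Localization.Away (D (m := m) A)) =
    algebraMap (MvPolynomial (m × m) A) _ (C (a : A) * D A ^ n) := by
  rw [zpow_natCast, Units.val_mul, Units.val_pow_eq_pow_val, α_val, δ_val, map_mul, map_pow]

variable {A}

/-- Key step for injectivity. -/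
lemma key_inj [IsReduced A] [Nontrivial A] (a a' : Aˣ) (n : ℕ)
    (h : α (m := m) A a * δ A ^ (n : ℤ) = α A a') : n = 0 ∧ a = a' := by
  have h1 := congrArg (fun u : (Localization.Away (D (m := m) A))ˣ =>
    (u : Localization.Away (D (m := m) A))) h
  simp only [val_mul_pow, α_val] at h1
  have h2 := algebraMap_injective (m := m) (A := A) h1
  have h3 := congrArg (evalZero A) h2
  rw [map_mul, map_pow, evalZero_D, evalZero_C, evalZero_C] at h3
  rcases Nat.eq_zero_or_pos n with hn | hn
  · refine ⟨hn, ?_⟩
    rw [hn, pow_zero, mul_one] at h3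
    exact Units.ext h3
  · rw [zero_pow hn.ne', mul_zero] at h3
    exact absurd h3.symm a'.ne_zero

lemma injective_of_isReduced [IsReduced A] [Nontrivial A] :
    Function.Injective (fun p : Aˣ × ℤ => α (m := m) A p.1 * δ A ^ p.2) := by
  rintro ⟨a, e⟩ ⟨a', e'⟩ h
  simp only at h
  have h' : α (m := m) A a * δ A ^ (e - e') = α A a' := by
    rw [zpow_sub, ← mul_assoc, h, mul_assoc, mul_inv_cancel, mul_one]
  obtain ⟨n, hn | hn⟩ := Int.eq_nat_or_neg (e - e')
  · rw [hn] at h'
    obtain ⟨h0, haa⟩ := key_inj a a' n h'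
    have : e = e' := by omega
    rw [haa, this]
  · rw [hn, zpow_neg] at h'
    have h'' : α (m := m) A a' * δ A ^ (n : ℤ) = α A a := by
      rw [← h', mul_assoc, inv_mul_cancel, mul_one]
    obtain ⟨h0, haa⟩ := key_inj a' a n h''
    have : e = e' := by omega
    rw [haa, this]

lemma surjective_of_isReduced [IsReduced A] [Nontrivial A]
    (hconn : ∀ e : A, IsIdempotentElem e → e = 0 ∨ e = 1) :
    Function.Surjective (fun p : Aˣ × ℤ => α (m := m) A p.1 * δ A ^ p.2) := by
  intro u
  obtain ⟨k, f, hf⟩ := IsLocalization.Away.surj (D (m := m) A)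
    (u : Localization.Away (D (m := m) A))
  obtain ⟨l, g, hg⟩ := IsLocalization.Away.surj (D (m := m) A)
    ((u⁻¹ : (Localization.Away (D (m := m) A))ˣ) : Localization.Away (D (m := m) A))
  have hfg : f * g = D A ^ (k + l) := by
    apply algebraMap_injective (m := m) (A := A)
    rw [map_mul, ← hf, ← hg, map_pow, pow_add]
    have : (u : Localization.Away (D (m := m) A)) * ((u⁻¹ : (Localization.Away (D (m := m) A))ˣ) :
        Localization.Away (D (m := m) A)) = 1 := by simp
    calc _ = ((u : Localization.Away (D (m := m) A)) *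
          ((u⁻¹ : (Localization.Away (D (m := m) A))ˣ) : Localization.Away (D (m := m) A))) *
          (algebraMap _ _ (D A) ^ k * algebraMap _ _ (D A) ^ l) := by ring
      _ = _ := by rw [this, one_mul]
  obtain ⟨a, e, hfe⟩ := factor_of_mul_eq_pow hconn f g (k + l) hfg
  refine ⟨(a, (e : ℤ) - k), ?_⟩
  simp only
  have hu : u * δ A ^ (k : ℤ) = α (m := m) A a * δ A ^ (e : ℤ) := by
    apply Units.ext
    rw [val_mul_pow, ← hfe, ← hf, Units.val_mul, zpow_natCast, Units.val_pow_eq_pow_val, δ_val]
  rw [zpow_sub, ← mul_assoc, ← hu, mul_assoc, mul_inv_cancel, mul_one]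

open LaurentPolynomial in
/-- Evaluation at the matrix `diag(T, 1, …, 1)` over the Laurent polynomial ring. -/
noncomputable def evalT (i0 : m) : MvPolynomial (m × m) A →+* LaurentPolynomial A :=
  MvPolynomial.eval₂Hom (LaurentPolynomial.C : A →+* LaurentPolynomial A)
    (fun p : m × m => Matrix.diagonal (fun i : m => if i = i0 then LaurentPolynomial.T 1 else 1)
      p.1 p.2)

lemma evalT_D (i0 : m) : evalT (A := A) i0 (D A) = LaurentPolynomial.T 1 := by
  rw [evalT, D, RingHom.map_det]
  have : (MvPolynomial.eval₂Hom (LaurentPolynomial.C : A →+* LaurentPolynomial A)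
      (fun p : m × m => Matrix.diagonal
        (fun i : m => if i = i0 then LaurentPolynomial.T 1 else 1) p.1 p.2)).mapMatrix
      (Matrix.mvPolynomialX m m A) =
      Matrix.diagonal (fun i : m => if i = i0 then LaurentPolynomial.T 1 else 1) :=
    Matrix.mvPolynomialX_map_eval₂ _ _
  rw [this, Matrix.det_diagonal, Finset.prod_ite_eq']
  simp

lemma evalT_C (i0 : m) (a : A) : evalT (A := A) i0 (C a) = LaurentPolynomial.C a := by
  simp [evalT]

lemma evalT_X (i0 : m) : evalT (A := A) i0 (X (i0, i0)) = LaurentPolynomial.T 1 := by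
  simp [evalT]

/-- The induced map on the localization. -/
noncomputable def evalTL (i0 : m) : Localization.Away (D (m := m) A) →+* LaurentPolynomial A :=
  IsLocalization.Away.lift (D (m := m) A) (g := evalT i0)
    (by rw [evalT_D]; exact LaurentPolynomial.isUnit_T 1)

lemma evalTL_algebraMap (i0 : m) (f : MvPolynomial (m × m) A) :
    evalTL i0 (algebraMap _ (Localization.Away (D (m := m) A)) f) = evalT i0 f :=
  IsLocalization.Away.lift_eq _ _ _

/-- If every unit is of the form `a * det ^ e`, then `A` has no nonzero square-zero elements. -/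
lemma eq_zero_of_surjective [Nontrivial A]
    (hsurj : Function.Surjective (fun p : Aˣ × ℤ => α (m := m) A p.1 * δ A ^ p.2))
    (ε : A) (hε : ε ^ 2 = 0) : ε = 0 := by
  obtain ⟨i0⟩ := ‹Nonempty m›
  let u0 : (MvPolynomial (m × m) A)ˣ :=
    ⟨1 + C ε * X (i0, i0), 1 - C ε * X (i0, i0), by
      have : (1 + C ε * X (i0, i0)) * (1 - C ε * X (i0, i0)) =
          1 - C (ε ^ 2) * (X (i0, i0) : MvPolynomial (m × m) A) ^ 2 := by
        rw [map_pow]; ring
      rw [this, hε, map_zero, zero_mul, sub_zero], by
      have : (1 - C ε * X (i0, i0)) * (1 + C ε * X (i0, i0)) =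
          1 - C (ε ^ 2) * (X (i0, i0) : MvPolynomial (m × m) A) ^ 2 := by
        rw [map_pow]; ring
      rw [this, hε, map_zero, zero_mul, sub_zero]⟩
  let υ : (Localization.Away (D (m := m) A))ˣ :=
    Units.map (algebraMap (MvPolynomial (m × m) A) (Localization.Away (D (m := m) A))).toMonoidHom u0
  have hυ : (υ : Localization.Away (D (m := m) A)) = algebraMap _ _ (1 + C ε * X (i0, i0)) := rfl
  obtain ⟨⟨a, e⟩, hae⟩ := hsurj υ
  simp only at hae
  have hT : evalT (A := A) i0 (1 + C ε * X (i0, i0)) =
      1 + LaurentPolynomial.C ε * LaurentPolynomial.T 1 := by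
    rw [map_add, map_one, map_mul, evalT_C, evalT_X]
  obtain ⟨n, hn | hn⟩ := Int.eq_nat_or_neg e
  · -- `C a * T n = 1 + C ε * T 1`
    rw [hn] at hae
    have h1 := congrArg (fun u : (Localization.Away (D (m := m) A))ˣ =>
      evalTL i0 (u : Localization.Away (D (m := m) A))) hae
    simp only [val_mul_pow, hυ, evalTL_algebraMap, hT] at h1
    rw [map_mul, map_pow, evalT_C, evalT_D, LaurentPolynomial.T_pow, mul_one] at h1
    have c0 := congrArg (fun q : LaurentPolynomial A => q.coeff 0) h1
    have c1 := congrArg (fun q : LaurentPolynomial A => q.coeff 1) h1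
    rw [← LaurentPolynomial.single_eq_C_mul_T, ← LaurentPolynomial.single_eq_C_mul_T,
      ← LaurentPolynomial.T_zero] at c0 c1
    simp only [AddMonoidAlgebra.coeff_add, AddMonoidAlgebra.coeff_single] at c0 c1
    rw [Finsupp.add_apply, Finsupp.single_apply, Finsupp.single_apply,
      LaurentPolynomial.T_apply] at c0 c1
    by_cases hn0 : (n : ℤ) = 0
    · have hn1 : ¬ ((n : ℤ) = 1) := by omega
      rw [if_neg hn1] at c1
      simpa using c1.symm
    · rw [if_neg hn0] at c0
      simp at c0
  · -- `C a = (1 + C ε * T 1) * T (n)` with `n ≥ 1` (or `n = 0`, covered above)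
    rw [hn, zpow_neg] at hae
    have hae' : α (m := m) A a = υ * δ A ^ (n : ℤ) := by
      rw [← hae, mul_assoc, inv_mul_cancel, mul_one]
    have h1 := congrArg (fun u : (Localization.Away (D (m := m) A))ˣ =>
      evalTL i0 (u : Localization.Away (D (m := m) A))) hae'
    simp only [α_val, Units.val_mul, zpow_natCast, Units.val_pow_eq_pow_val, δ_val, hυ, map_mul,
      map_pow, evalTL_algebraMap, hT, evalT_C, evalT_D, LaurentPolynomial.T_pow, mul_one] at h1
    have c0 := congrArg (fun q : LaurentPolynomial A => q.coeff 0) h1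
    have c1 := congrArg (fun q : LaurentPolynomial A => q.coeff 1) h1
    have cn := congrArg (fun q : LaurentPolynomial A => q.coeff (n : ℤ)) h1
    rw [add_mul, one_mul, LaurentPolynomial.mul_T_assoc,
      ← LaurentPolynomial.single_eq_C_mul_T, ← LaurentPolynomial.single_eq_C] at c0 c1 cn
    simp only [AddMonoidAlgebra.coeff_add, AddMonoidAlgebra.coeff_single] at c0 c1 cn
    rw [Finsupp.add_apply, Finsupp.single_apply, Finsupp.single_apply,
      LaurentPolynomial.T_apply] at c0 c1 cn
    by_cases hn0 : (n : ℤ) = 0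
    · rw [hn0] at c1
      simpa using c1.symm
    · have h1' : ¬ ((0 : ℤ) = (n : ℤ)) := fun h => hn0 h.symm
      have h2' : ¬ ((1 : ℤ) + (n : ℤ) = (n : ℤ)) := by omega
      rw [if_neg h1', if_pos rfl, if_neg h2', add_zero] at cn
      exact absurd cn zero_ne_one

/-- Units of the coordinate ring of `GL_n` over a connected ring. -/
theorem bijective_iff_isReduced [Nontrivial A]
    (hconn : ∀ e : A, IsIdempotentElem e → e = 0 ∨ e = 1) :
    Function.Bijective (fun p : Aˣ × ℤ => α (m := m) A p.1 * δ A ^ p.2) ↔ IsReduced A := by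
  constructor
  · intro hbij
    rw [isReduced_iff_pow_one_lt 2 (by norm_num)]
    exact fun ε hε => eq_zero_of_surjective hbij.2 ε hε
  · intro hred
    exact ⟨injective_of_isReduced, surjective_of_isReduced hconn⟩

end Groth.Agent.H88.GLUnits
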