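import Mathlib

/-!
# Galois descent for two-sided ideals of `L ⊗[K] A`, `A` simple

If `L/K` is Galois (possibly infinite) and `A` is a simple `K`-algebra, then a nonzero two-sided
ideal of `L ⊗[K] A` which is stable under all `γ ⊗ id` is the unit ideal.  As a consequence the
Galois group permutes the minimal two-sided ideals transitively.
-/

set_option autoImplicit false

open TensorProduct

namespace Groth.Agent.H88.GaloisSimple

universe u v w

variable {K : Type u} {L : Type v} [Field K] [Field L] [Algebra K L]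
variable {A : Type w} [Ring A] [Algebra K A]

/-- `γ ⊗ id` as an algebra automorphism of `L ⊗[K] A`. -/
noncomputable def σ (γ : L ≃ₐ[K] L) : (L ⊗[K] A) ≃ₐ[K] (L ⊗[K] A) :=
  Algebra.TensorProduct.congr γ AlgEquiv.refl

lemma σ_apply (γ : L ≃ₐ[K] L) (x : L ⊗[K] A) :
    σ γ x = Algebra.TensorProduct.map (γ : L →ₐ[K] L) (AlgHom.id K A) x := rfl

@[simp] lemma σ_tmul (γ : L ≃ₐ[K] L) (l : L) (a : A) :
    σ γ (l ⊗ₜ[K] a) = (γ l) ⊗ₜ[K] a := by
  simp [σ]

lemma σ_mul (γ δ : L ≃ₐ[K] L) (x : L ⊗[K] A) : σ γ (σ δ x) = σ (γ * δ) x := by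
  induction x using TensorProduct.induction_on with
  | zero => simp
  | tmul l a => simp
  | add x y hx hy => simp [hx, hy]

lemma σ_one (x : L ⊗[K] A) : σ (1 : L ≃ₐ[K] L) x = x := by
  induction x using TensorProduct.induction_on with
  | zero => simp
  | tmul l a => simp
  | add x y hx hy => rw [map_add, hx, hy]

lemma σ_inv_σ (γ : L ≃ₐ[K] L) (x : L ⊗[K] A) : σ γ⁻¹ (σ γ x) = x := by
  rw [σ_mul, inv_mul_cancel, σ_one]

lemma σ_σ_inv (γ : L ≃ₐ[K] L) (x : L ⊗[K] A) : σ γ (σ γ⁻¹ x) = x := by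
  have := σ_inv_σ (A := A) γ⁻¹ x
  rwa [inv_inv] at this

section coord

variable {ι : Type*} (b : Module.Basis ι K A)

lemma repr_σ (γ : L ≃ₐ[K] L) (x : L ⊗[K] A) (i : ι) :
    (Algebra.TensorProduct.basis L b).repr (σ γ x) i =
      γ ((Algebra.TensorProduct.basis L b).repr x i) := by
  induction x using TensorProduct.induction_on with
  | zero => simp
  | tmul l a => simp
  | add x y hx hy => simp [hx, hy]

end coord

variable [IsGalois K L]

/-- Key step: a nonzero Galois-stable two-sided ideal contains a nonzero pure tensor `1 ⊗ a`. -/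
lemma exists_one_tmul_mem (N : TwoSidedIdeal (L ⊗[K] A))
    (hstab : ∀ (γ : L ≃ₐ[K] L) (t : L ⊗[K] A), t ∈ N → σ γ t ∈ N)
    {ι : Type*} (b : Module.Basis ι K A) :
    ∀ (n : ℕ) (x : L ⊗[K] A), x ∈ N → x ≠ 0 →
      ((Algebra.TensorProduct.basis L b).repr x).support.card ≤ n →
      ∃ a : A, a ≠ 0 ∧ (1 : L) ⊗ₜ[K] a ∈ N := by
  classical
  set B := Algebra.TensorProduct.basis L b with hB
  intro n
  induction n with
  | zero =>
    intro x _ hx0 hcard
    exfalso
    apply hx0
    have : (B.repr x).support = ∅ := Finset.card_eq_zero.mp (Nat.le_zero.mp hcard)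
    rw [Finsupp.support_eq_empty] at this
    exact B.repr.map_eq_zero_iff.mp this
  | succ n ih =>
    intro x hxN hx0 hcard
    have hsupp : (B.repr x).support.Nonempty := by
      rw [Finset.nonempty_iff_ne_empty, Ne, Finsupp.support_eq_empty]
      intro h
      exact hx0 (B.repr.map_eq_zero_iff.mp h)
    obtain ⟨i0, hi0⟩ := hsupp
    have hc0 : B.repr x i0 ≠ 0 := Finsupp.mem_support_iff.mp hi0
    set c0 := B.repr x i0 with hc0def
    set x' : L ⊗[K] A := c0⁻¹ • x with hx'def
    have hx'N : x' ∈ N := by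
      have : x' = (c0⁻¹ ⊗ₜ[K] (1 : A)) * x := by
        rw [hx'def, Algebra.smul_def, Algebra.TensorProduct.algebraMap_apply]
        simp
      rw [this]
      exact N.mul_mem_left _ _ hxN
    have hx'0 : x' ≠ 0 := smul_ne_zero (inv_ne_zero hc0) hx0
    have hrepr' : ∀ i, B.repr x' i = c0⁻¹ * B.repr x i := by
      intro i
      simp [hx'def]
    have hi0' : B.repr x' i0 = 1 := by
      rw [hrepr', ← hc0def, inv_mul_cancel₀ hc0]
    have hsupp' : (B.repr x').support = (B.repr x).support := by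
      ext i
      simp only [Finsupp.mem_support_iff, hrepr', ne_eq, mul_eq_zero, inv_eq_zero, hc0, false_or]
    by_cases hγ : ∃ γ : L ≃ₐ[K] L, σ γ x' - x' ≠ 0
    · obtain ⟨γ, hγ⟩ := hγ
      refine ih (σ γ x' - x') (N.sub_mem (hstab γ _ hx'N) hx'N) hγ ?_
      have hsub : (B.repr (σ γ x' - x')).support ⊆ (B.repr x').support.erase i0 := by
        intro i hi
        rw [Finsupp.mem_support_iff] at hi
        rw [Finset.mem_erase, Finsupp.mem_support_iff]
        have hval : B.repr (σ γ x' - x') i = γ (B.repr x' i) - B.repr x' i := by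
          rw [map_sub, Finsupp.sub_apply, hB, repr_σ]
        rw [hval] at hi
        constructor
        · rintro rfl
          apply hi
          rw [hi0', map_one, sub_self]
        · intro h0
          apply hi
          rw [h0, map_zero, sub_self]
      have h1 := Finset.card_le_card hsub
      rw [Finset.card_erase_of_mem (by rw [hsupp']; exact hi0), hsupp'] at h1
      omega
    · push Not at hγ
      have hfix : ∀ i, ∀ γ : L ≃ₐ[K] L, γ (B.repr x' i) = B.repr x' i := by
        intro i γ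
        have h := hγ γ
        rw [sub_eq_zero] at h
        have := repr_σ b γ x' i
        rw [h] at this
        exact this.symm
      have hk : ∀ i, ∃ k : K, algebraMap K L k = B.repr x' i := fun i =>
        (InfiniteGalois.mem_range_algebraMap_iff_fixed (B.repr x' i)).mpr (hfix i)
      choose k hk using hk
      refine ⟨∑ i ∈ (B.repr x').support, k i • b i, ?_, ?_⟩
      · intro h0
        apply hx'0
        have hx'eq : x' = (1 : L) ⊗ₜ[K] (∑ i ∈ (B.repr x').support, k i • b i) := by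
          rw [TensorProduct.tmul_sum]
          conv_lhs => rw [← B.linearCombination_repr x', Finsupp.linearCombination_apply,
            Finsupp.sum]
          refine Finset.sum_congr rfl fun i _ => ?_
          rw [TensorProduct.tmul_smul, ← hk i, algebraMap_smul, hB,
            Algebra.TensorProduct.basis_apply]
        rw [hx'eq, h0, TensorProduct.tmul_zero]
      · have hx'eq : x' = (1 : L) ⊗ₜ[K] (∑ i ∈ (B.repr x').support, k i • b i) := by
          rw [TensorProduct.tmul_sum]
          conv_lhs => rw [← B.linearCombination_repr x', Finsupp.linearCombination_apply,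
            Finsupp.sum]
          refine Finset.sum_congr rfl fun i _ => ?_
          rw [TensorProduct.tmul_smul, ← hk i, algebraMap_smul, hB,
            Algebra.TensorProduct.basis_apply]
        rw [← hx'eq]
        exact hx'N

variable [IsSimpleRing A]

/-- A nonzero Galois-stable two-sided ideal of `L ⊗[K] A` (with `A` simple) contains `1`. -/
theorem one_mem_of_stable (N : TwoSidedIdeal (L ⊗[K] A))
    (hstab : ∀ (γ : L ≃ₐ[K] L) (t : L ⊗[K] A), t ∈ N → σ γ t ∈ N)
    (hN : ∃ x ∈ N, x ≠ 0) : (1 : L ⊗[K] A) ∈ N := by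
  obtain ⟨x, hxN, hx0⟩ := hN
  obtain ⟨a, ha0, haN⟩ := exists_one_tmul_mem N hstab (Module.Basis.ofVectorSpace K A) _ x hxN hx0
    le_rfl
  set NA : TwoSidedIdeal A :=
    TwoSidedIdeal.comap (Algebra.TensorProduct.includeRight : A →ₐ[K] L ⊗[K] A) N with hNA
  have haNA : a ∈ NA := by
    rw [hNA, TwoSidedIdeal.mem_comap]
    simpa using haN
  have hNAtop : NA = ⊤ := by
    rcases eq_bot_or_eq_top NA with h | h
    · exfalso
      rw [h, TwoSidedIdeal.mem_bot] at haNA
      exact ha0 haNA
    · exact h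
  have h1 : (1 : A) ∈ NA := by rw [hNAtop]; trivial
  rw [hNA, TwoSidedIdeal.mem_comap] at h1
  have h2 : (Algebra.TensorProduct.includeRight : A →ₐ[K] L ⊗[K] A) 1 = 1 := map_one _
  rwa [h2] at h1

/-- The Galois group acts transitively on the minimal two-sided ideals of `L ⊗[K] A`. -/
theorem exists_σ_image_eq (I J : TwoSidedIdeal (L ⊗[K] A)) (hI : IsAtom I) (hJ : IsAtom J) :
    ∃ γ : L ≃ₐ[K] L, (J : Set (L ⊗[K] A)) = σ γ '' (I : Set (L ⊗[K] A)) := by
  classical
  by_contra hcon
  push Not at hcon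
  -- elements of `I`, `J`
  have hI0 : ∃ y ∈ I, y ≠ 0 := by
    by_contra h
    push Not at h
    apply hI.1
    rw [eq_bot_iff]
    intro y hy
    rw [TwoSidedIdeal.mem_bot]
    exact h y hy
  have hJ0 : ∃ x ∈ J, x ≠ 0 := by
    by_contra h
    push Not at h
    apply hJ.1
    rw [eq_bot_iff]
    intro y hy
    rw [TwoSidedIdeal.mem_bot]
    exact h y hy
  -- the key vanishing
  have hclaim : ∀ (γ : L ≃ₐ[K] L), ∀ x ∈ J, ∀ y ∈ I, x * σ γ y = 0 := by
    intro γ x hx y hy
    set Iγ : TwoSidedIdeal (L ⊗[K] A) := (σ (A := A) γ).toRingEquiv.mapTwoSidedIdeal I with hIγ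
    have hmemIγ : ∀ t, t ∈ Iγ ↔ σ γ⁻¹ t ∈ I := by
      intro t
      rw [hIγ, RingEquiv.mapTwoSidedIdeal_apply, TwoSidedIdeal.mem_comap]
      have : ((σ (A := A) γ).toRingEquiv.symm) t = σ γ⁻¹ t := by
        apply (σ (A := A) γ).injective
        rw [σ_σ_inv]
        exact (σ (A := A) γ).toRingEquiv.apply_symm_apply t
      rw [this]
    have hIγatom : IsAtom Iγ := ((σ (A := A) γ).toRingEquiv.mapTwoSidedIdeal.isAtom_iff I).mpr hI
    have hne : J ≠ Iγ := by
      intro h
      apply hcon γ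
      ext t
      rw [h]
      constructor
      · intro ht
        exact ⟨σ γ⁻¹ t, (hmemIγ t).mp ht, σ_σ_inv γ t⟩
      · rintro ⟨s, hs, rfl⟩
        rw [SetLike.mem_coe, hmemIγ, σ_inv_σ]
        exact hs
    have hinf : J ⊓ Iγ = ⊥ := by
      rcases hJ.le_iff.mp (inf_le_left : J ⊓ Iγ ≤ J) with h | h
      · exact h
      · exfalso
        have hJle : J ≤ Iγ := by rw [← h]; exact inf_le_right
        rcases hIγatom.le_iff.mp hJle with h' | h'
        · exact hJ.1 h'
        · exact hne h'
    have hmem : x * σ γ y ∈ J ⊓ Iγ := by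
      rw [TwoSidedIdeal.mem_inf]
      refine ⟨J.mul_mem_right _ _ hx, Iγ.mul_mem_left _ _ ?_⟩
      rw [hmemIγ, σ_inv_σ]
      exact hy
    rw [hinf, TwoSidedIdeal.mem_bot] at hmem
    exact hmem
  -- the stable ideal
  let N : TwoSidedIdeal (L ⊗[K] A) := TwoSidedIdeal.mk'
    {t | ∀ (γ : L ≃ₐ[K] L), ∀ y ∈ I, σ γ t * y = 0}
    (by intro γ y _; simp)
    (by
      intro s t hs ht γ y hy
      rw [map_add, add_mul, hs γ y hy, ht γ y hy, add_zero])
    (by
      intro s hs γ y hy
      rw [map_neg, neg_mul, hs γ y hy, neg_zero])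
    (by
      intro s t ht γ y hy
      rw [map_mul, mul_assoc, ht γ y hy, mul_zero])
    (by
      intro s t hs γ y hy
      rw [map_mul, mul_assoc]
      exact hs γ _ (I.mul_mem_left _ _ hy))
  have hNmem : ∀ t, t ∈ N ↔ ∀ (γ : L ≃ₐ[K] L), ∀ y ∈ I, σ γ t * y = 0 := by
    intro t
    exact TwoSidedIdeal.mem_mk' _ _ _ _ _ _ _
  have hJN : ∀ x ∈ J, x ∈ N := by
    intro x hx
    rw [hNmem]
    intro γ y hy
    have h := hclaim γ⁻¹ x hx y hy
    have : σ γ x * y = σ γ (x * σ γ⁻¹ y) := by
      rw [map_mul, σ_σ_inv]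
    rw [this, h, map_zero]
  have hstab : ∀ (γ : L ≃ₐ[K] L) (t : L ⊗[K] A), t ∈ N → σ γ t ∈ N := by
    intro γ t ht
    rw [hNmem] at ht ⊢
    intro δ y hy
    rw [σ_mul]
    exact ht _ y hy
  obtain ⟨x, hxJ, hx0⟩ := hJ0
  have h1 : (1 : L ⊗[K] A) ∈ N := one_mem_of_stable N hstab ⟨x, hJN x hxJ, hx0⟩
  rw [hNmem] at h1
  obtain ⟨y, hyI, hy0⟩ := hI0
  have := h1 1 y hyI
  rw [map_one, one_mul] at this
  exact hy0 this

end Groth.Agent.H88.GaloisSimple
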