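import Mathlib.RingTheory.DiscreteValuationRing.Basic
import Mathlib.RingTheory.PowerSeries.Basic
import Mathlib.RingTheory.PowerSeries.Inverse
import Mathlib.RingTheory.Ideal.Quotient.Operations

set_option autoImplicit false

namespace Groth.Agent.H88

open PowerSeries

theorem coeff_zero_dvd_of_mul_eq_C {R : Type*} [CommRing R] [IsDomain R]
    [IsDiscreteValuationRing R] (ϖ : R) (hϖ : Irreducible ϖ) :
    ∀ (n : ℕ) (u : Rˣ) (g f : PowerSeries R), g * f = PowerSeries.C ((u : R) * ϖ ^ n) →
      ∀ i, PowerSeries.coeff 0 f ∣ PowerSeries.coeff i f := by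
  have hprime : Prime ϖ := hϖ.prime
  have hϖ0 : ϖ ≠ 0 := hϖ.ne_zero
  have hCϖ : (PowerSeries.C ϖ : PowerSeries R) ≠ 0 := by
    intro h
    have := congrArg (PowerSeries.coeff 0) h
    simp at this
    exact hϖ0 this
  -- divisibility of all coefficients by ϖ means divisibility by `C ϖ`
  have hdiv : ∀ h : PowerSeries R, (∀ j, ϖ ∣ PowerSeries.coeff j h) →
      ∃ h₁ : PowerSeries R, h = PowerSeries.C ϖ * h₁ := by
    intro h hh
    choose q hq using hh
    refine ⟨PowerSeries.mk q, ?_⟩
    ext j
    rw [PowerSeries.coeff_C_mul, PowerSeries.coeff_mk, hq j]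
  intro n
  induction n with
  | zero =>
    intro u g f hgf i
    have hunit : IsUnit f := by
      refine IsUnit.of_mul_eq_one (g * PowerSeries.C ((u⁻¹ : Rˣ) : R)) ?_
      rw [mul_comm f, mul_assoc, mul_comm (PowerSeries.C _) f, ← mul_assoc, hgf, pow_zero, mul_one,
        ← map_mul, Units.mul_inv, map_one]
    have : IsUnit (PowerSeries.constantCoeff f) := PowerSeries.isUnit_iff_constantCoeff.1 hunit
    rw [PowerSeries.coeff_zero_eq_constantCoeff_apply]
    exact this.dvd
  | succ n ih =>
    intro u g f hgf i
    by_cases hg : ∀ j, ϖ ∣ PowerSeries.coeff j g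
    · obtain ⟨g₁, rfl⟩ := hdiv g hg
      have : PowerSeries.C ϖ * (g₁ * f) = PowerSeries.C ϖ * PowerSeries.C ((u : R) * ϖ ^ n) := by
        rw [← mul_assoc, hgf, ← map_mul]
        congr 1
        ring
      exact ih u g₁ f (mul_left_cancel₀ hCϖ this) i
    · by_cases hf : ∀ j, ϖ ∣ PowerSeries.coeff j f
      · obtain ⟨f₁, rfl⟩ := hdiv f hf
        have : PowerSeries.C ϖ * (g * f₁) = PowerSeries.C ϖ * PowerSeries.C ((u : R) * ϖ ^ n) := by
          rw [mul_left_comm, hgf, ← map_mul]
          congr 1
          ring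
        have h1 := ih u g f₁ (mul_left_cancel₀ hCϖ this) i
        rw [PowerSeries.coeff_C_mul, PowerSeries.coeff_C_mul]
        exact mul_dvd_mul_left ϖ h1
      · exfalso
        have hI : (Ideal.span {ϖ} : Ideal R).IsPrime :=
          (Ideal.span_singleton_prime hϖ0).2 hprime
        let π := Ideal.Quotient.mk (Ideal.span {ϖ} : Ideal R)
        have hmap0 : ∀ h : PowerSeries R, PowerSeries.map π h = 0 →
            ∀ j, ϖ ∣ PowerSeries.coeff j h := by
          intro h hh j
          have := congrArg (PowerSeries.coeff j) hh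
          rw [PowerSeries.coeff_map, map_zero] at this
          exact Ideal.mem_span_singleton.1 (Ideal.Quotient.eq_zero_iff_mem.1 this)
        have hprod : PowerSeries.map π g * PowerSeries.map π f = 0 := by
          rw [← map_mul, hgf, PowerSeries.map_C]
          have : π ((u : R) * ϖ ^ (n + 1)) = 0 := by
            apply Ideal.Quotient.eq_zero_iff_mem.2
            apply Ideal.mem_span_singleton.2
            exact Dvd.intro_left _ (by rw [pow_succ, mul_assoc])
          rw [this, map_zero]
        rcases mul_eq_zero.1 hprod with h | h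
        · exact hg (hmap0 g h)
        · exact hf (hmap0 f h)

end Groth.Agent.H88
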