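import Groth.Prelude.Def_W4c1nerontoraddGraph
import Mathlib

set_option autoImplicit false
set_option linter.unusedSectionVars false
universe u v

namespace Groth.Agent.H88.LG

open LabGraph

variable {V E : Type u} [Fintype V] [Fintype E] [DecidableEq V] [DecidableEq E]

/-- adjacency through an edge of `F`. -/
def adjIn (ends : E → V × V) (F : Finset E) (v w : V) : Prop :=
  ∃ e ∈ F, ends e = (v, w) ∨ ends e = (w, v)

/-- every vertex meets `C` in an even number of edge-ends. -/
def EvenSet (ends : E → V × V) (C : Finset E) : Prop := ∀ v, Even (endCount ends C v)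

/-- contribution of one edge to `endCount`. -/
def tm (ends : E → V × V) (e : E) (v : V) : ℕ :=
  (if (ends e).1 = v then 1 else 0) + (if (ends e).2 = v then 1 else 0)

omit [Fintype V] [Fintype E] [DecidableEq E] in
lemma tm_eq_of_ends (ends : E → V × V) {e : E} {b c : V} (h : ends e = (b, c)) (x : V) :
    tm ends e x = (if b = x then 1 else 0) + (if c = x then 1 else 0) := by
  unfold tm
  rw [h]

omit [Fintype V] [Fintype E] in
lemma endCount_eq (ends : E → V × V) (C : Finset E) (v : V) :
    endCount ends C v = ∑ e ∈ C, tm ends e v := rfl

omit [Fintype V] [Fintype E] in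
lemma endCount_insert (ends : E → V × V) {C : Finset E} {e : E} (h : e ∉ C) (v : V) :
    endCount ends (insert e C) v = tm ends e v + endCount ends C v := by
  rw [endCount_eq, endCount_eq, Finset.sum_insert h]

omit [Fintype V] [Fintype E] in
lemma endCount_erase (ends : E → V × V) {C : Finset E} {e : E} (h : e ∈ C) (v : V) :
    endCount ends (C.erase e) v + tm ends e v = endCount ends C v := by
  rw [endCount_eq, endCount_eq, Finset.sum_erase_add _ _ h]

omit [Fintype V] [Fintype E] in
lemma endCount_sdiff (ends : E → V × V) {C C' : Finset E} (h : C' ⊆ C) (v : V) :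
    endCount ends (C \ C') v + endCount ends C' v = endCount ends C v := by
  rw [endCount_eq, endCount_eq, endCount_eq, Finset.sum_sdiff h]

omit [Fintype V] [Fintype E] [DecidableEq V] [DecidableEq E] in
lemma const_of_reach (ends : E → V × V) (F : Finset E) {α : Type*} (k : V → α)
    (hk : ∀ e ∈ F, k (ends e).1 = k (ends e).2) {a b : V}
    (h : Relation.ReflTransGen (adjIn ends F) a b) : k a = k b := by
  induction h with
  | refl => rfl
  | tail _ hbc ih =>
    obtain ⟨e, he, h1 | h1⟩ := hbc
    · have := hk e he
      rw [h1] at this
      exact ih.trans this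
    · have := hk e he
      rw [h1] at this
      exact ih.trans this.symm

omit [Fintype V] [Fintype E] in
/-- A walk in `F` from `a` to `b` gives an edge set with odd degree exactly at `a`, `b`. -/
lemma exists_parity_set (ends : E → V × V) (F : Finset E) {a b : V}
    (h : Relation.ReflTransGen (adjIn ends F) a b) :
    ∃ P ⊆ F, ∀ x, Even (endCount ends P x + (if a = x then 1 else 0) + (if b = x then 1 else 0)) := by
  induction h with
  | refl =>
    refine ⟨∅, Finset.empty_subset _, fun x => ?_⟩
    rw [endCount_eq, Finset.sum_empty]
    split_ifs <;> decide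
  | @tail b c _ hbc ih =>
    obtain ⟨P, hPF, hP⟩ := ih
    obtain ⟨e, he, h1⟩ := hbc
    have htm : ∀ x, tm ends e x % 2 = ((if b = x then 1 else 0) + (if c = x then 1 else 0)) % 2 := by
      intro x
      rcases h1 with h1 | h1
      · rw [tm_eq_of_ends ends h1]
      · rw [tm_eq_of_ends ends h1, add_comm]
    by_cases heP : e ∈ P
    · refine ⟨P.erase e, (Finset.erase_subset _ _).trans hPF, fun x => ?_⟩
      have h2 := endCount_erase ends heP x
      have h3 := hP x
      have h4 := htm x
      rw [Nat.even_iff] at h3 ⊢
      omega
    · refine ⟨insert e P, Finset.insert_subset he hPF, fun x => ?_⟩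
      have h2 := endCount_insert ends heP x
      have h3 := hP x
      have h4 := htm x
      rw [Nat.even_iff] at h3 ⊢
      omega

omit [Fintype E] in
/-- handshake: over a union of components of `(V, P)` the degrees add up to an even number. -/
lemma even_sum_endCount (ends : E → V × V) (P : Finset E) (S : Finset V)
    (hS : ∀ e ∈ P, ((ends e).1 ∈ S ↔ (ends e).2 ∈ S)) :
    Even (∑ v ∈ S, endCount ends P v) := by
  have : ∑ v ∈ S, endCount ends P v
      = ∑ e ∈ P, ((if (ends e).1 ∈ S then 1 else 0) + (if (ends e).2 ∈ S then 1 else 0)) := by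
    simp only [endCount_eq, tm]
    rw [Finset.sum_comm]
    apply Finset.sum_congr rfl
    intro e _
    rw [Finset.sum_add_distrib, Finset.sum_ite_eq, Finset.sum_ite_eq]
  rw [this]
  apply Finset.even_sum
  intro e he
  have := hS e he
  by_cases h1 : (ends e).1 ∈ S
  · have h2 := this.1 h1
    simp [h1, h2]
  · have h2 : (ends e).2 ∉ S := fun h => h1 (this.2 h)
    simp [h1, h2]

omit [Fintype E] in
/-- if `insert e₀ P` is an even set then the endpoints of `e₀` are joined inside `P`. -/
lemma reach_of_evenSet_insert (ends : E → V × V) (P : Finset E) (e₀ : E) (he₀ : e₀ ∉ P)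
    (hev : EvenSet ends (insert e₀ P)) :
    Relation.ReflTransGen (adjIn ends P) (ends e₀).1 (ends e₀).2 := by
  classical
  by_contra hcon
  set u := (ends e₀).1 with hu
  set w := (ends e₀).2 with hw
  let S : Finset V := Finset.univ.filter (fun v => Relation.ReflTransGen (adjIn ends P) u v)
  have hmemS : ∀ v, v ∈ S ↔ Relation.ReflTransGen (adjIn ends P) u v := fun v => by
    simp [S]
  have huS : u ∈ S := (hmemS u).2 Relation.ReflTransGen.refl
  have hwS : w ∉ S := fun h => hcon ((hmemS w).1 h)
  have hclosed : ∀ e ∈ P, ((ends e).1 ∈ S ↔ (ends e).2 ∈ S) := by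
    intro e he
    rw [hmemS, hmemS]
    constructor
    · intro h
      exact h.tail ⟨e, he, Or.inl rfl⟩
    · intro h
      exact h.tail ⟨e, he, Or.inr rfl⟩
  have h1 := even_sum_endCount ends P S hclosed
  have h2 : Even (∑ v ∈ S, (endCount ends P v + (if u = v then 1 else 0))) := by
    apply Finset.even_sum
    intro v hv
    have h3 := hev v
    rw [endCount_insert ends he₀, tm_eq_of_ends ends (show ends e₀ = (u, w) from rfl)] at h3
    have h4 : (if w = v then 1 else 0) = 0 := by
      rw [if_neg]
      rintro rfl
      exact hwS hv
    rw [h4] at h3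
    rw [Nat.even_iff] at h3 ⊢
    omega
  rw [Finset.sum_add_distrib, Finset.sum_ite_eq, if_pos huS] at h2
  rw [Nat.even_iff] at h1 h2
  omega

omit [Fintype V] [Fintype E] in
/-- a minimal `P` with `insert e₀ P` even gives a circuit. -/
lemma exists_circuit (ends : E → V × V) (F : Finset E) (e₀ : E) (he₀ : e₀ ∉ F)
    (P₀ : Finset E) (hP₀F : P₀ ⊆ F) (hP₀ : EvenSet ends (insert e₀ P₀)) :
    ∃ P ⊆ F, IsCircuit ends (insert e₀ P) := by
  classical
  obtain ⟨P, hPmem, hmin⟩ := Finset.exists_min_image
    (F.powerset.filter (fun P => EvenSet ends (insert e₀ P))) Finset.card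
    ⟨P₀, by simp [hP₀F, hP₀]⟩
  rw [Finset.mem_filter, Finset.mem_powerset] at hPmem
  obtain ⟨hPF, hPev⟩ := hPmem
  have he₀P : e₀ ∉ P := fun h => he₀ (hPF h)
  refine ⟨P, hPF, ⟨e₀, Finset.mem_insert_self _ _⟩, hPev, fun C' hC' hne => ?_⟩
  by_contra hcon
  push Not at hcon
  by_cases heC : e₀ ∈ C'
  · -- P₁ = C'.erase e₀
    have hsub : C'.erase e₀ ⊆ P := by
      intro x hx
      rw [Finset.mem_erase] at hx
      have := hC'.1 hx.2
      rw [Finset.mem_insert] at this
      rcases this with h | h
      · exact absurd h hx.1
      · exact h
    have hins : insert e₀ (C'.erase e₀) = C' := Finset.insert_erase heC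
    have hmem : C'.erase e₀ ∈ F.powerset.filter (fun P => EvenSet ends (insert e₀ P)) := by
      rw [Finset.mem_filter, Finset.mem_powerset]
      refine ⟨hsub.trans hPF, ?_⟩
      rw [hins]
      exact hcon
    have hle := hmin _ hmem
    have hss : C'.erase e₀ ⊂ P := by
      refine ⟨hsub, fun h => hC'.2 ?_⟩
      intro x hx
      rw [Finset.mem_insert] at hx
      rcases hx with rfl | hx
      · exact heC
      · exact (Finset.mem_erase.mp (h hx)).2
    have := Finset.card_lt_card hss
    omega
  · have hsub : C' ⊆ P := by
      intro x hx
      have := hC'.1 hx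
      rw [Finset.mem_insert] at this
      rcases this with h | h
      · exact absurd (h ▸ hx) heC
      · exact h
    have hins : insert e₀ (P \ C') = (insert e₀ P) \ C' := (Finset.insert_sdiff_of_notMem _ heC).symm
    have hmem : P \ C' ∈ F.powerset.filter (fun P => EvenSet ends (insert e₀ P)) := by
      rw [Finset.mem_filter, Finset.mem_powerset]
      refine ⟨Finset.sdiff_subset.trans hPF, ?_⟩
      rw [hins]
      intro x
      have h1 := endCount_sdiff ends hC'.1 x
      have h2 := hcon x
      have h3 := hPev x
      rw [Nat.even_iff] at h2 h3 ⊢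
      omega
    have hle := hmin _ hmem
    have := Finset.card_lt_card (Finset.sdiff_ssubset hsub hne)
    omega

/-- Potentials for the `lam`-part of the differential of `f`. -/
theorem exists_partial_potential {L : Type v} (ends : E → V × V) (lab : E → L)
    (hcirc : ∀ C : Finset E, IsCircuit ends C → ∀ e ∈ C, ∀ e' ∈ C, lab e = lab e')
    (f : V → ℤ) (lam : L) (F : Finset E) :
    ∃ h : V → ℤ,
      (∀ e ∈ F, lab e = lam → h (ends e).2 - h (ends e).1 = f (ends e).2 - f (ends e).1) ∧
      (∀ e ∈ F, lab e ≠ lam → h (ends e).2 = h (ends e).1) := by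
  classical
  induction F using Finset.induction_on with
  | empty => exact ⟨0, by simp, by simp⟩
  | insert e₀ F he₀ ih =>
    obtain ⟨h, h1, h2⟩ := ih
    set u := (ends e₀).1 with hu
    set w := (ends e₀).2 with hw
    by_cases hreach : Relation.ReflTransGen (adjIn ends F) w u
    · -- the value across `e₀` is already right
      obtain ⟨P₀, hP₀F, hP₀⟩ := exists_parity_set ends F hreach
      have hP₀ev : EvenSet ends (insert e₀ P₀) := by
        intro x
        have he₀P₀ : e₀ ∉ P₀ := fun h => he₀ (hP₀F h)
        rw [endCount_insert ends he₀P₀, tm_eq_of_ends ends (show ends e₀ = (u, w) from rfl)]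
        have := hP₀ x
        rw [Nat.even_iff] at this ⊢
        omega
      obtain ⟨P, hPF, hcircP⟩ := exists_circuit ends F e₀ he₀ P₀ hP₀F hP₀ev
      have he₀P : e₀ ∉ P := fun h => he₀ (hPF h)
      have hlabP : ∀ e ∈ P, lab e = lab e₀ := fun e he =>
        hcirc _ hcircP e (Finset.mem_insert_of_mem he) e₀ (Finset.mem_insert_self _ _)
      have hr : Relation.ReflTransGen (adjIn ends P) u w :=
        reach_of_evenSet_insert ends P e₀ he₀P hcircP.2.1
      refine ⟨h, ?_, ?_⟩
      · intro e he hlab
        rw [Finset.mem_insert] at he
        rcases he with rfl | he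
        · have := const_of_reach ends P (fun v => h v - f v) (fun e' he' => by
            have := h1 e' (hPF he') ((hlabP e' he').trans hlab)
            show h (ends e').1 - f (ends e').1 = h (ends e').2 - f (ends e').2
            linarith) hr
          show h w - h u = f w - f u
          linarith
        · exact h1 e he hlab
      · intro e he hlab
        rw [Finset.mem_insert] at he
        rcases he with rfl | he
        · have := const_of_reach ends P h (fun e' he' => by
            have := h2 e' (hPF he') (by rw [hlabP e' he']; exact hlab)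
            exact this.symm) hr
          exact this.symm
        · exact h2 e he hlab
    · -- shift `h` on the component of `w`
      set t : ℤ := if lab e₀ = lam then f w - f u else 0 with ht
      set c : ℤ := t - (h w - h u) with hc
      let h' : V → ℤ := fun v => h v + (if Relation.ReflTransGen (adjIn ends F) w v then c else 0)
      have hiff : ∀ e ∈ F, (Relation.ReflTransGen (adjIn ends F) w (ends e).1 ↔
          Relation.ReflTransGen (adjIn ends F) w (ends e).2) := by
        intro e he
        constructor
        · intro hh
          exact hh.tail ⟨e, he, Or.inl rfl⟩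
        · intro hh
          exact hh.tail ⟨e, he, Or.inr rfl⟩
      have hdiff : ∀ e ∈ F, h' (ends e).2 - h' (ends e).1 = h (ends e).2 - h (ends e).1 := by
        intro e he
        simp only [h']
        by_cases hh : Relation.ReflTransGen (adjIn ends F) w (ends e).1
        · rw [if_pos hh, if_pos ((hiff e he).1 hh)]
          ring
        · rw [if_neg hh, if_neg (fun h3 => hh ((hiff e he).2 h3))]
          ring
      have hnew : h' w - h' u = t := by
        simp only [h']
        rw [if_pos Relation.ReflTransGen.refl, if_neg hreach, hc]
        ring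
      refine ⟨h', ?_, ?_⟩
      · intro e he hlab
        rw [Finset.mem_insert] at he
        rcases he with rfl | he
        · show h' w - h' u = f w - f u
          rw [hnew, ht, if_pos hlab]
        · rw [hdiff e he]
          exact h1 e he hlab
      · intro e he hlab
        rw [Finset.mem_insert] at he
        rcases he with rfl | he
        · have : h' w - h' u = 0 := by rw [hnew, ht, if_neg hlab]
          show h' w = h' u
          linarith
        · have := hdiff e he
          have := h2 e he hlab
          linarith

end Groth.Agent.H88.LG
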