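import Mathlib

set_option autoImplicit false

namespace Groth.Agent.H88

/-- `p`-adic peeling: if `p ^ m e` divides the difference of `f` across every edge `e` and `m e ≤ a`,
then `f = ∑_{j ≤ a} p^j g_j` with `g_j` constant across every edge with `j < m e`. -/
theorem padic_peel {V E : Type*} (ends : E → V × V) (p : ℤ) (hp : p ≠ 0) :
    ∀ (a : ℕ) (m : E → ℕ) (f : V → ℤ), (∀ e, m e ≤ a) →
      (∀ e, p ^ m e ∣ f (ends e).1 - f (ends e).2) →
      ∃ g : ℕ → V → ℤ, (∀ v, f v = ∑ j ∈ Finset.range (a + 1), p ^ j * g j v) ∧
        ∀ j e, j < m e → g j (ends e).1 = g j (ends e).2 := by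
  intro a
  induction a with
  | zero =>
    intro m f hm _
    refine ⟨fun _ => f, fun v => by simp, fun j e hj => ?_⟩
    have := hm e
    omega
  | succ a ih =>
    intro m f hm hf
    -- the relation generated by edges with `0 < m e`
    let r : V → V → Prop := fun v w => ∃ e, 0 < m e ∧ (ends e).1 = v ∧ (ends e).2 = w
    have hr : ∀ v w, Relation.EqvGen r v w → p ∣ f v - f w := by
      intro v w h
      induction h with
      | rel x y hxy =>
        obtain ⟨e, he, rfl, rfl⟩ := hxy
        exact (dvd_pow_self p (Nat.pos_iff_ne_zero.mp he)).trans (hf e)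
      | refl x => simp
      | symm x y _ ih' => exact (dvd_sub_comm).mp ih'
      | trans x y z _ _ ih1 ih2 =>
        have : f x - f z = (f x - f y) + (f y - f z) := by ring
        rw [this]
        exact dvd_add ih1 ih2
    let rep : V → V := fun v => (Quot.mk r v).out
    have hrep : ∀ v, Relation.EqvGen r (rep v) v := fun v =>
      Quot.eqvGen_exact (Quot.out_eq (Quot.mk r v))
    let g0 : V → ℤ := fun v => f (rep v)
    have hg0 : ∀ e, 0 < m e → g0 (ends e).1 = g0 (ends e).2 := by
      intro e he
      have : Quot.mk r (ends e).1 = Quot.mk r (ends e).2 := Quot.sound ⟨e, he, rfl, rfl⟩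
      show f ((Quot.mk r (ends e).1).out) = f ((Quot.mk r (ends e).2).out)
      rw [this]
    have hdiv : ∀ v, ∃ c, f v - g0 v = p * c := by
      intro v
      have := hr _ _ (hrep v)
      obtain ⟨c, hc⟩ := (dvd_sub_comm).mp this
      exact ⟨c, hc⟩
    choose f' hf' using hdiv
    have hm' : ∀ e, m e - 1 ≤ a := fun e => by have := hm e; omega
    have hf'd : ∀ e, p ^ (m e - 1) ∣ f' (ends e).1 - f' (ends e).2 := by
      intro e
      rcases Nat.eq_zero_or_pos (m e) with h0 | hpos
      · simp [h0]
      · have h1 : p * (f' (ends e).1 - f' (ends e).2) = f (ends e).1 - f (ends e).2 := by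
          rw [mul_sub, ← hf', ← hf', hg0 e hpos]
          ring
        have h2 : p * p ^ (m e - 1) ∣ p * (f' (ends e).1 - f' (ends e).2) := by
          rw [h1, ← pow_succ']
          have : m e - 1 + 1 = m e := by omega
          rw [this]
          exact hf e
        exact (mul_dvd_mul_iff_left hp).mp h2
    obtain ⟨g', hg'1, hg'2⟩ := ih (fun e => m e - 1) f' hm' hf'd
    refine ⟨fun j => match j with | 0 => g0 | j + 1 => g' j, fun v => ?_, fun j e hj => ?_⟩
    · rw [Finset.sum_range_succ']
      have : f v = g0 v + p * f' v := by rw [← hf']; ring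
      rw [this, hg'1 v, Finset.mul_sum]
      simp only [pow_zero, one_mul]
      rw [add_comm]
      congr 1
      apply Finset.sum_congr rfl
      intro j _
      rw [pow_succ']
      ring
    · match j, hj with
      | 0, hj => exact hg0 e hj
      | j + 1, hj => exact hg'2 j e (by omega)

end Groth.Agent.H88
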