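import Mathlib
import Groth.Prelude.Def_Formal2

/-!
# Sections of a limit of `O_X`-modules

For a small diagram `G : J ⥤ X.Modules` (with `J : Type`, e.g. `ℕᵒᵖ`) and an open `U`, the sections
of `limit G` over `U` are the compatible families of sections of the `G j` over `U`:
* `limit_sections_ext` : two sections of `limit G` with the same projections are equal;
* `limit_sections_exists` : every compatible family comes from a section of `limit G`.
-/

set_option autoImplicit false
universe u
open CategoryTheory CategoryTheory.Limits AlgebraicGeometry Opposite TopologicalSpace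

namespace Groth.Agent.H88.LimSections

variable {X : Scheme.{u}} {J : Type} [SmallCategory J]

/-- sections over `U`, as a functor to types -/
noncomputable abbrev secFun (X : Scheme.{u}) (U : X.Opens) : X.Modules ⥤ Type u :=
  (Scheme.Modules.toPresheaf X ⋙ (evaluation (Opens X)ᵒᵖ Ab.{u}).obj (op U)) ⋙ forget Ab.{u}

noncomputable instance preservesLimit_secFun (G : J ⥤ X.Modules) (U : X.Opens) :
    PreservesLimit G (secFun X U) := by
  haveI : PreservesLimitsOfSize.{0, 0} (Scheme.Modules.toPresheaf X) :=
    preservesSmallestLimits_of_preservesLimits _
  haveI : PreservesLimitsOfShape J ((evaluation (Opens X)ᵒᵖ Ab.{u}).obj (op U)) := inferInstance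
  haveI : PreservesLimitsOfShape J (forget Ab.{u}) := inferInstance
  haveI : PreservesLimitsOfShape J (Scheme.Modules.toPresheaf X) := inferInstance
  haveI : PreservesLimitsOfShape J (secFun X U) := by
    unfold secFun
    infer_instance
  infer_instance

/-- the sections over `U` of the limit cone form a limit cone of types -/
noncomputable def isLimitSections (G : J ⥤ X.Modules) (U : X.Opens) :
    IsLimit ((secFun X U).mapCone (limit.cone G)) :=
  isLimitOfPreserves (secFun X U) (limit.isLimit G)

theorem limit_sections_ext (G : J ⥤ X.Modules) (U : X.Opens) (s s' : Γ(limit G, U))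
    (h : ∀ j, (limit.π G j).app U s = (limit.π G j).app U s') : s = s' := by
  apply (Types.isLimitEquivSections (isLimitSections G U)).injective
  apply Subtype.ext
  funext j
  exact h j

theorem limit_sections_exists (G : J ⥤ X.Modules) (U : X.Opens) (x : ∀ j, Γ(G.obj j, U))
    (hx : ∀ {i j : J} (f : i ⟶ j), (G.map f).app U (x i) = x j) :
    ∃ s : Γ(limit G, U), ∀ j, (limit.π G j).app U s = x j := by
  let sec : (G ⋙ secFun X U).sections := ⟨x, fun {i j} f => hx f⟩
  refine ⟨(Types.isLimitEquivSections (isLimitSections G U)).symm sec, fun j => ?_⟩
  exact Types.isLimitEquivSections_symm_apply (isLimitSections G U) sec j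

end Groth.Agent.H88.LimSections
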