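import Mathlib

/-!
# Towers of modules `M_j = M_{j+1} / J^{j+1} M_{j+1}` and their limits

Pure algebra.  Let `J` be a finitely generated ideal of a ring `B` and `(M_j, T)` a tower of `B`-modules
with surjective transition maps, `ker (M_{j+1} → M_j) ⊆ J^{j+1} M_{j+1}` and `J^{j+1} M_j = 0`.
Let `M` be "the" limit of the tower (a module with compatible projections `p_j` which are jointly
injective and through which every compatible family factors).  Then
* `proj_surjective` : every `p_m : M → M_m` is surjective;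
* `mem_pow_smul_top_of_proj_eq_zero` : `ker p_n ⊆ J^{n+1} M`.
-/

set_option autoImplicit false
universe u

namespace Groth.Agent.H88.TowerAdic

variable {B : Type u} [CommRing B] (J : Ideal B)
  (Mm : ℕ → Type u) [∀ m, AddCommGroup (Mm m)] [∀ m, Module B (Mm m)]
  (T : ∀ j k : ℕ, j ≤ k → (Mm k →ₗ[B] Mm j))
  (M : Type u) [AddCommGroup M] [Module B M] (p : ∀ m, M →ₗ[B] Mm m)

/-- every projection from the limit of a tower with surjective transition maps is surjective -/
theorem proj_surjective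
    (T1 : ∀ j (x : Mm j), T j j le_rfl x = x)
    (T2 : ∀ i j k (h : i ≤ j) (h' : j ≤ k) (x : Mm k), T i j h (T j k h' x) = T i k (h.trans h') x)
    (Tsurj : ∀ j, Function.Surjective (T j (j + 1) (Nat.le_succ j)))
    (hex : ∀ x : ∀ m, Mm m, (∀ m, T m (m + 1) (Nat.le_succ m) (x (m + 1)) = x m) →
      ∃ y : M, ∀ m, p m y = x m)
    (m : ℕ) : Function.Surjective (p m) := by
  intro z
  let v : ∀ k, m ≤ k → Mm k := fun k h =>
    Nat.leRec (motive := fun k _ => Mm k) z (fun k _ prev => Classical.choose (Tsurj k prev)) h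
  have hv0 : v m le_rfl = z := Nat.leRec_self _ _
  have hv1 : ∀ k (h : m ≤ k),
      T k (k + 1) (Nat.le_succ k) (v (k + 1) (h.trans (Nat.le_succ k))) = v k h := by
    intro k h
    change T k (k + 1) (Nat.le_succ k) (Nat.leRec (motive := fun k _ => Mm k) z
      (fun k _ prev => Classical.choose (Tsurj k prev)) (h.trans (Nat.le_succ k))) = _
    rw [Nat.leRec_succ _ _ h]
    exact Classical.choose_spec (Tsurj k _)
  have hv2 : ∀ k k' (h : m ≤ k) (h' : k ≤ k'), T k k' h' (v k' (h.trans h')) = v k h := by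
    intro k k' h h'
    induction k', h' using Nat.le_induction with
    | base => exact T1 _ _
    | succ k' h' ih =>
      rw [← T2 k k' (k' + 1) h' (Nat.le_succ k'), hv1 k' (h.trans h'), ih]
  let x : ∀ j, Mm j := fun j => T j (max j m) (le_max_left _ _) (v (max j m) (le_max_right _ _))
  have key : ∀ j k (hj : j ≤ k) (hm : m ≤ k), x j = T j k hj (v k hm) := by
    intro j k hj hm
    have hmax : max j m ≤ k := max_le hj hm
    change T j (max j m) _ (v (max j m) _) = _
    rw [← hv2 (max j m) k (le_max_right _ _) hmax, T2]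
  have hcompat : ∀ j, T j (j + 1) (Nat.le_succ j) (x (j + 1)) = x j := by
    intro j
    rw [key (j + 1) (max (j + 1) m) (le_max_left _ _) (le_max_right _ _),
      key j (max (j + 1) m) ((Nat.le_succ j).trans (le_max_left _ _)) (le_max_right _ _), T2]
  obtain ⟨y, hy⟩ := hex x hcompat
  refine ⟨y, ?_⟩
  rw [hy m, key m m le_rfl le_rfl, T1, hv0]

/-- elements of `span (range b) • N` are combinations `∑ b i • y i` with `y i ∈ N` -/
theorem exists_sum_smul_of_mem_smul {r : ℕ} (b : Fin r → B) (N : Submodule B M) (z : M)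
    (hz : z ∈ (Ideal.span (Set.range b)) • N) :
    ∃ y : Fin r → M, (∀ i, y i ∈ N) ∧ ∑ i, b i • y i = z := by
  refine Submodule.smul_induction_on hz ?_ ?_
  · intro c hc w hw
    obtain ⟨a, rfl⟩ := (Submodule.mem_span_range_iff_exists_fun B).1 hc
    refine ⟨fun i => a i • w, fun i => N.smul_mem _ hw, ?_⟩
    rw [Finset.sum_smul]
    refine Finset.sum_congr rfl fun i _ => ?_
    rw [smul_smul, smul_eq_mul, mul_comm]
  · rintro _ _ ⟨y, hy, rfl⟩ ⟨y', hy', rfl⟩
    refine ⟨fun i => y i + y' i, fun i => N.add_mem (hy i) (hy' i), ?_⟩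
    simp only [smul_add, Finset.sum_add_distrib]

/-- **Kernel of the projection from the limit.** -/
theorem mem_pow_smul_top_of_proj_eq_zero (hJ : J.FG)
    (T1 : ∀ j (x : Mm j), T j j le_rfl x = x)
    (T2 : ∀ i j k (h : i ≤ j) (h' : j ≤ k) (x : Mm k), T i j h (T j k h' x) = T i k (h.trans h') x)
    (Tsurj : ∀ j, Function.Surjective (T j (j + 1) (Nat.le_succ j)))
    (hker : ∀ j, LinearMap.ker (T j (j + 1) (Nat.le_succ j)) ≤
      J ^ (j + 1) • (⊤ : Submodule B (Mm (j + 1))))
    (hkill : ∀ j, ∀ c ∈ J ^ (j + 1), ∀ x : Mm j, c • x = 0)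
    (hp : ∀ j k (h : j ≤ k) (x : M), T j k h (p k x) = p j x)
    (hinj : ∀ x : M, (∀ m, p m x = 0) → x = 0)
    (hex : ∀ x : ∀ m, Mm m, (∀ m, T m (m + 1) (Nat.le_succ m) (x (m + 1)) = x m) →
      ∃ y : M, ∀ m, p m y = x m)
    (n : ℕ) (x : M) (hx : p n x = 0) : x ∈ J ^ (n + 1) • (⊤ : Submodule B M) := by
  have hsurj := proj_surjective Mm T M p T1 T2 Tsurj hex
  -- the filtration by kernels
  have hKanti : ∀ j k, j ≤ k → ∀ y : M, p k y = 0 → p j y = 0 := by
    intro j k h y hy
    rw [← hp j k h y, hy, map_zero]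
  have hJK : ∀ k, ∀ y ∈ J ^ (k + 1) • (⊤ : Submodule B M), p k y = 0 := by
    intro k y hy
    refine Submodule.smul_induction_on hy ?_ ?_
    · intro c hc w _
      rw [map_smul]
      exact hkill k c hc _
    · intro a b ha hb
      rw [map_add, ha, hb, add_zero]
  -- the step `K k ⊆ J^(k+1) M + K (k+1)`
  have hstep : ∀ k (y : M), p k y = 0 →
      ∃ z ∈ J ^ (k + 1) • (⊤ : Submodule B M), p (k + 1) (y - z) = 0 := by
    intro k y hy
    have h1 : p (k + 1) y ∈ LinearMap.ker (T k (k + 1) (Nat.le_succ k)) := by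
      rw [LinearMap.mem_ker, hp, hy]
    have h2 := hker k h1
    have h3 : (J ^ (k + 1) • (⊤ : Submodule B (Mm (k + 1)))) =
        (J ^ (k + 1) • (⊤ : Submodule B M)).map (p (k + 1)) := by
      rw [Submodule.map_smul'', Submodule.map_top, LinearMap.range_eq_top.2 (hsurj (k + 1))]
    rw [h3] at h2
    obtain ⟨z, hz, hzy⟩ := h2
    exact ⟨z, hz, by rw [map_sub, hzy, sub_self]⟩
  -- generators of `J^(n+1)`
  obtain ⟨r, b, hb⟩ := Submodule.fg_iff_exists_fin_generating_family.1 (hJ.pow (n := n + 1))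
  let Φ : (Fin r → M) → M := fun y => ∑ i, b i • y i
  have hΦsub : ∀ y y' : Fin r → M, Φ (fun i => y i + y' i) = Φ y + Φ y' := by
    intro y y'
    simp only [Φ, smul_add, Finset.sum_add_distrib]
  -- the recursion step
  have step : ∀ k (y : Fin r → M), p (n + k) (x - Φ y) = 0 →
      ∃ y' : Fin r → M, p (n + k + 1) (x - Φ y') = 0 ∧
        ∀ i, y' i - y i ∈ J ^ k • (⊤ : Submodule B M) := by
    intro k y hy
    obtain ⟨z, hz, hzy⟩ := hstep (n + k) (x - Φ y) hy
    have hz' : z ∈ (Ideal.span (Set.range b)) • (J ^ k • (⊤ : Submodule B M)) := by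
      have : (Ideal.span (Set.range b)) = J ^ (n + 1) := hb
      rw [this, ← mul_smul, ← pow_add]
      have e : n + 1 + k = n + k + 1 := by omega
      rw [e]
      exact hz
    obtain ⟨w, hw, hwz⟩ := exists_sum_smul_of_mem_smul M b _ z hz'
    refine ⟨fun i => y i + w i, ?_, fun i => by simpa using hw i⟩
    have : x - Φ (fun i => y i + w i) = x - Φ y - z := by
      rw [hΦsub]
      change _ = x - Φ y - z
      rw [← hwz]
      abel
    rw [this]
    exact hzy
  -- the sequence of approximations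
  have h0 : p (n + 0) (x - Φ (fun _ => 0)) = 0 := by
    simp only [Φ, smul_zero, Finset.sum_const_zero, sub_zero]
    exact hx
  let seq : ∀ k, {y : Fin r → M // p (n + k) (x - Φ y) = 0} := fun k =>
    Nat.rec (motive := fun k => {y : Fin r → M // p (n + k) (x - Φ y) = 0}) ⟨fun _ => 0, h0⟩
      (fun k y => ⟨Classical.choose (step k y.1 y.2), (Classical.choose_spec (step k y.1 y.2)).1⟩) k
  have hQ : ∀ k i, (seq (k + 1)).1 i - (seq k).1 i ∈ J ^ k • (⊤ : Submodule B M) := fun k =>
    (Classical.choose_spec (step k (seq k).1 (seq k).2)).2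
  -- the limit of the approximations
  have hstab : ∀ m i, p m ((seq (m + 2)).1 i) = p m ((seq (m + 1)).1 i) := by
    intro m i
    have := hJK m _ (hQ (m + 1) i)
    rwa [map_sub, sub_eq_zero] at this
  have hlim : ∀ i, ∃ y : M, ∀ m, p m y = p m ((seq (m + 1)).1 i) := by
    intro i
    refine hex (fun m => p m ((seq (m + 1)).1 i)) (fun m => ?_)
    change T m (m + 1) _ (p (m + 1) ((seq (m + 1 + 1)).1 i)) = _
    rw [hp, hstab]
  choose yl hyl using hlim
  have hxΦ : x = Φ yl := by
    rw [← sub_eq_zero]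
    refine hinj _ (fun m => ?_)
    have h1 : p m (Φ yl) = p m (Φ (seq (m + 1)).1) := by
      simp only [Φ, map_sum, map_smul, hyl]
    rw [map_sub, h1, ← map_sub]
    exact hKanti m (n + (m + 1)) (by omega) _ (seq (m + 1)).2
  rw [hxΦ]
  refine Submodule.sum_mem _ (fun i _ => ?_)
  refine Submodule.smul_mem_smul ?_ Submodule.mem_top
  rw [← hb]
  exact Submodule.subset_span ⟨i, rfl⟩

end Groth.Agent.H88.TowerAdic
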