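import Mathlib
import Groth.Prelude.Def_Formal2
import Groth.Agent.H70.Rees.IdealMulSections
import Groth.Agent.H12.QCohEpi
import Groth.Agent.H44.GammaZSections
import Groth.Agent.H88.LimSections
import Groth.Agent.H88.TowerAdic

/-!
# Truncations of the limit of a quasi-coherent formal system

For a finitely generated ideal `I` of `A`, `X` over `Spec A` and a system `(G_m)` of quasi-coherent
modules with `G_m` killed by `I^(m+1)` and `G_m = G_(m+1) / I^(m+1) G_(m+1)`: the projection
`lim G_m ⟶ G_n` identifies `G_n` with `(lim G_m) / I^(n+1) (lim G_m)`.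
-/

set_option autoImplicit false
universe u
open CategoryTheory CategoryTheory.Limits AlgebraicGeometry Opposite TopologicalSpace

namespace Groth.Agent.H88.LimTrunc

open Groth.Agent.H70.Rees Groth.Agent.Lead.SubRange Groth.Agent.H88.LimSections

/-- `C ⟶ L ⟶ Q ⟶ 0` exact implies `coker (C ⟶ L) ≅ Q` -/
theorem isIso_cokernel_desc_of_epi {C : Type*} [Category C] [Abelian C] {P L Q : C}
    (f : P ⟶ L) (g : L ⟶ Q) (w : f ≫ g = 0) [Epi g] (hk : Epi (kernel.lift g f w)) :
    IsIso (cokernel.desc f g w) := by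
  have hS : (ShortComplex.mk f g w).Exact := (ShortComplex.exact_iff_epi_kernel_lift _).2 hk
  haveI : Epi (ShortComplex.mk f g w).g := ‹Epi g›
  have h1 : g ≫ hS.desc (cokernel.π f) (cokernel.condition f) = cokernel.π f :=
    hS.g_desc (cokernel.π f) (cokernel.condition f)
  refine ⟨⟨hS.desc (cokernel.π f) (cokernel.condition f), ?_, ?_⟩⟩
  · rw [← cancel_epi (cokernel.π f), cokernel.π_desc_assoc, h1, Category.comp_id]
  · rw [← cancel_epi g, reassoc_of% h1, cokernel.π_desc, Category.comp_id]

variable {X : Scheme.{u}}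

theorem comp_app_apply {M N K : X.Modules} (φ : M ⟶ N) (ψ : N ⟶ K) (U : X.Opens) (x : Γ(M, U)) :
    (φ ≫ ψ).app U x = ψ.app U (φ.app U x) := rfl

theorem app_congr {M N : X.Modules} {φ ψ : M ⟶ N} (h : φ = ψ) (U : X.Opens) (x : Γ(M, U)) :
    φ.app U x = ψ.app U x := by rw [h]

/-- a morphism of modules which is surjective on sections over affine opens is an epimorphism -/
theorem epi_of_affine_surjective {M N : X.Modules} (p : M ⟶ N)
    (h : ∀ U : X.Opens, IsAffineOpen U → Function.Surjective (p.app U)) : Epi p := by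
  have hls : Sheaf.IsLocallySurjective ((SheafOfModules.toSheaf X.ringCatSheaf).map p) := by
    constructor
    intro V t x hx
    obtain ⟨W, hW, hxW, hWV⟩ := Opens.isBasis_iff_nbhd.1 (X.isBasis_affineOpens) hx
    obtain ⟨s, hs⟩ := h W hW (N.presheaf.map (homOfLE hWV).op t)
    exact ⟨W, homOfLE hWV, ⟨s, hs⟩, hxW⟩
  exact (SheafOfModules.toSheaf X.ringCatSheaf).epi_of_epi_map inferInstance

variable {A : Type u} [CommRing A] [X.Over (Spec (CommRingCat.of A))]

section Tower

variable (I : Ideal A) (G : ℕᵒᵖ ⥤ X.Modules) (hG : Formal2.IsQCohFormal I G) (W : X.Opens)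

/-- the transition maps on sections -/
noncomputable def Tm (j k : ℕ) (h : j ≤ k) :
    Γ(G.obj (op k), W) →ₗ[Γ(X, W)] Γ(G.obj (op j), W) :=
  appLin (G.map (homOfLE h).op) W

/-- the projections on sections -/
noncomputable def pm (m : ℕ) : Γ(limit G, W) →ₗ[Γ(X, W)] Γ(G.obj (op m), W) :=
  appLin (limit.π G (op m)) W

theorem Tm_refl (j : ℕ) (x : Γ(G.obj (op j), W)) : Tm G W j j le_rfl x = x := by
  have h : G.map (homOfLE (le_refl j)).op = 𝟙 _ := by
    rw [show (homOfLE (le_refl j)).op = 𝟙 (op j) from rfl, G.map_id]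
  change (G.map (homOfLE (le_refl j)).op).app W x = x
  rw [h]
  rfl

theorem Tm_trans (i j k : ℕ) (h : i ≤ j) (h' : j ≤ k) (x : Γ(G.obj (op k), W)) :
    Tm G W i j h (Tm G W j k h' x) = Tm G W i k (h.trans h') x := by
  have e : G.map (homOfLE h').op ≫ G.map (homOfLE h).op = G.map (homOfLE (h.trans h')).op := by
    rw [← G.map_comp]
    rfl
  change (G.map (homOfLE h).op).app W ((G.map (homOfLE h').op).app W x) = _
  rw [← ConcreteCategory.comp_apply, ← Scheme.Modules.Hom.comp_app, e]
  rfl

theorem Tm_pm (j k : ℕ) (h : j ≤ k) (x : Γ(limit G, W)) :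
    Tm G W j k h (pm G W k x) = pm G W j x := by
  change (G.map (homOfLE h).op).app W ((limit.π G (op k)).app W x) = _
  rw [← ConcreteCategory.comp_apply, ← Scheme.Modules.Hom.comp_app, limit.w]
  rfl

theorem pm_inj (x : Γ(limit G, W)) (h : ∀ m, pm G W m x = 0) : x = 0 := by
  refine limit_sections_ext G W x 0 (fun j => ?_)
  rw [map_zero]
  exact h j.unop

theorem pm_exists (x : ∀ m, Γ(G.obj (op m), W))
    (hx : ∀ m, Tm G W m (m + 1) (Nat.le_succ m) (x (m + 1)) = x m) :
    ∃ y : Γ(limit G, W), ∀ m, pm G W m y = x m := by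
  have hx' : ∀ j k (h : j ≤ k), Tm G W j k h (x k) = x j := by
    intro j k h
    induction k, h using Nat.le_induction with
    | base => exact Tm_refl G W j _
    | succ k h ih =>
      rw [← Tm_trans G W j k (k + 1) h (Nat.le_succ k), hx k, ih]
  obtain ⟨y, hy⟩ := limit_sections_exists G W (fun j => x j.unop) (by
    intro i j f
    have hf : f = (homOfLE (leOfHom f.unop)).op := rfl
    rw [hf]
    exact hx' j.unop i.unop (leOfHom f.unop))
  exact ⟨y, fun m => hy (op m)⟩

include hG in
theorem epi_trans (j : ℕ) : Epi (G.map (homOfLE (Nat.le_succ j)).op) := by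
  obtain ⟨h, hiso⟩ := hG.2.2 j
  have e : G.map (homOfLE (Nat.le_succ j)).op =
      cokernel.π (Formal.smulFamily (I ^ (j + 1)) (G.obj (op (j + 1)))) ≫ cokernel.desc _ _ h :=
    (cokernel.π_desc _ _ h).symm
  rw [e]
  haveI : Epi (cokernel.desc _ _ h) := @IsIso.epi_of_iso _ _ _ _ _ hiso
  exact epi_comp _ _

include hG in
theorem Tm_surjective (hW : IsAffineOpen W) (j : ℕ) :
    Function.Surjective (Tm G W j (j + 1) (Nat.le_succ j)) := by
  haveI := hG.1 j
  haveI := hG.1 (j + 1)
  haveI := epi_trans I G hG j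
  exact Groth.Agent.H12.QCohEpi.app_surjective_of_epi (G.map (homOfLE (Nat.le_succ j)).op) hW

include hG in
theorem Tm_ker (hW : IsAffineOpen W) (j : ℕ) :
    LinearMap.ker (Tm G W j (j + 1) (Nat.le_succ j)) ≤
      (I.map (toSections X W)) ^ (j + 1) • (⊤ : Submodule Γ(X, W) Γ(G.obj (op (j + 1)), W)) := by
  intro s hs
  haveI := hG.1 (j + 1)
  obtain ⟨h, hiso⟩ := hG.2.2 j
  set f := Formal.smulFamily (I ^ (j + 1)) (G.obj (op (j + 1))) with hf
  have e : G.map (homOfLE (Nat.le_succ j)).op = cokernel.π f ≫ cokernel.desc _ _ h :=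
    (cokernel.π_desc _ _ h).symm
  have hs0 : (G.map (homOfLE (Nat.le_succ j)).op).app W s = 0 := hs
  -- `s` is killed by `cokernel.π f`
  have hs1 : (cokernel.π f).app W s = 0 := by
    have h1 : (cokernel.π f ≫ cokernel.desc _ _ h).app W s = 0 := (app_congr e.symm W s).trans hs0
    rw [comp_app_apply] at h1
    have h2 := congrArg ((inv (cokernel.desc f _ h)).app W) h1
    rw [← comp_app_apply, IsIso.hom_inv_id, map_zero] at h2
    exact h2
  -- hence a section of the kernel, i.e. of the image
  obtain ⟨k, hk⟩ := (Groth.Agent.H44.GammaZSections.mem_range_kernel_ι_iff (cokernel.π f) W s).2 hs1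
  have hmem : s ∈ rng (CohIII.idealMulι (I ^ (j + 1)) (G.obj (op (j + 1)))) W := by
    let k' : Γ(Abelian.image f, W) := k
    refine ⟨(Abelian.imageIsoImage f).hom.app W k', ?_⟩
    change (Limits.image.ι f).app W ((Abelian.imageIsoImage f).hom.app W k') = s
    rw [← comp_app_apply, app_congr (Abelian.imageIsoImage_hom_comp_image_ι f) W k']
    exact hk
  rw [rng_idealMulι (I ^ (j + 1)) (G.obj (op (j + 1))) hW, Ideal.map_pow] at hmem
  exact hmem

include hG in
theorem Tm_kill (j : ℕ) (c : Γ(X, W)) (hc : c ∈ (I.map (toSections X W)) ^ (j + 1))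
    (x : Γ(G.obj (op j), W)) : c • x = 0 := by
  have hle : (I.map (toSections X W)) ^ (j + 1) ≤
      Module.annihilator Γ(X, W) Γ(G.obj (op j), W) := by
    rw [← Ideal.map_pow, Ideal.map_le_iff_le_comap]
    intro a ha
    rw [Ideal.mem_comap, Module.mem_annihilator]
    intro y
    have h1 := hG.2.1 j a ha
    have h2 := smulMod_app_apply (G.obj (op j)) a W y
    rw [h1] at h2
    exact h2.symm
  exact Module.mem_annihilator.1 (hle hc) x

end Tower

variable (I : Ideal A) (hI : I.FG) (G : ℕᵒᵖ ⥤ X.Modules) (hG : Formal2.IsQCohFormal I G)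

include hG in
/-- the projections from the limit are epimorphisms -/
theorem epi_limit_π (n : ℕ) : Epi (limit.π G (op n)) := by
  refine epi_of_affine_surjective _ (fun W hW => ?_)
  exact Groth.Agent.H88.TowerAdic.proj_surjective (fun m => Γ(G.obj (op m), W)) (Tm G W)
    Γ(limit G, W) (pm G W) (Tm_refl G W) (Tm_trans G W) (Tm_surjective I G hG W hW)
    (pm_exists G W) n

include hG hI in
/-- sections of the limit over an affine open killed by the `n`-th projection lie in
`I^(n+1) · Γ(W, lim G)` -/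
theorem mem_smul_top_of_π_eq_zero {W : X.Opens} (hW : IsAffineOpen W) (n : ℕ)
    (l : Γ(limit G, W)) (hl : (limit.π G (op n)).app W l = 0) :
    l ∈ (I.map (toSections X W)) ^ (n + 1) • (⊤ : Submodule Γ(X, W) Γ(limit G, W)) :=
  Groth.Agent.H88.TowerAdic.mem_pow_smul_top_of_proj_eq_zero (I.map (toSections X W))
    (fun m => Γ(G.obj (op m), W)) (Tm G W) Γ(limit G, W) (pm G W) (hI.map _)
    (Tm_refl G W) (Tm_trans G W) (Tm_surjective I G hG W hW) (Tm_ker I G hG W hW)
    (Tm_kill I G hG W) (Tm_pm G W) (pm_inj G W) (pm_exists G W) n l hl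

include hG in
theorem smulFamily_limit_π (n : ℕ) :
    Formal.smulFamily (I ^ (n + 1)) (limit G) ≫ limit.π G (op n) = 0 := by
  refine Sigma.hom_ext _ _ (fun a => ?_)
  rw [comp_zero]
  change Sigma.ι _ a ≫ Sigma.desc _ ≫ _ = 0
  rw [Sigma.ι_desc_assoc, Groth.Agent.H44.smulMod_naturality, hG.2.1 n a a.2, comp_zero]

include hG hI in
/-- **The truncations of the limit.** -/
theorem isIso_cokernel_desc (n : ℕ) :
    IsIso (cokernel.desc (Formal.smulFamily (I ^ (n + 1)) (limit G)) (limit.π G (op n))
      (smulFamily_limit_π I G hG n)) := by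
  haveI := epi_limit_π I G hG n
  refine isIso_cokernel_desc_of_epi _ _ _ ?_
  set f := Formal.smulFamily (I ^ (n + 1)) (limit G) with hf
  set π := limit.π G (op n) with hπ
  have w := smulFamily_limit_π I G hG n
  -- the inclusion of the image into the kernel
  have wι : Limits.image.ι f ≫ π = 0 := by
    rw [← cancel_epi (factorThruImage f), image.fac_assoc, comp_zero]
    exact w
  let j : Limits.image f ⟶ kernel π := kernel.lift π (Limits.image.ι f) wι
  have hj : Epi j := by
    refine epi_of_affine_surjective _ (fun W hW k => ?_)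
    have hk : π.app W ((kernel.ι π).app W k) = 0 := by
      rw [← comp_app_apply, app_congr (kernel.condition π) W k]
      rfl
    have h1 := mem_smul_top_of_π_eq_zero I hI G hG hW n _ hk
    rw [← Ideal.map_pow] at h1
    obtain ⟨s, hs⟩ := smul_top_le_rng_idealMulι (I ^ (n + 1)) (limit G) W h1
    let s' : Γ(Limits.image f, W) := s
    refine ⟨s', ?_⟩
    apply Groth.Agent.H12.QCohAbelian.app_injective_of_mono (kernel.ι π) W
    rw [← comp_app_apply, app_congr (kernel.lift_ι π (Limits.image.ι f) wι) W s']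
    exact hs
  have hfac : kernel.lift π f w = factorThruImage f ≫ j := by
    rw [← cancel_mono (kernel.ι π), kernel.lift_ι, Category.assoc, kernel.lift_ι, image.fac]
  rw [hfac]
  infer_instance

end Groth.Agent.H88.LimTrunc
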