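import Mathlib.Analysis.Normed.Group.Constructions
import Mathlib.Analysis.Normed.Field.Basic
import Mathlib.Analysis.Normed.Module.Basic
import Mathlib.Algebra.Order.BigOperators.Group.Finset
import Mathlib.Data.Rat.Cast.Order
import Mathlib.Data.Real.Basic

set_option autoImplicit false

namespace Groth.Agent.H88

open Finset

/-- the sup norm of a rational vector, as a real number -/
noncomputable def NN {r : ℕ} (v : Fin r → ℚ) : ℝ := ‖(fun j => ((v j : ℚ) : ℝ))‖

/-- the sum `Σ_{q=1}^n m^{n-q} δ^q` -/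
noncomputable def SS (n : ℕ) (m δ : ℝ) : ℝ := (Finset.Icc 1 n).sum (fun q => m ^ (n - q) * δ ^ q)

theorem NN_nonneg {r : ℕ} (v : Fin r → ℚ) : 0 ≤ NN v := norm_nonneg _

theorem abs_coord_le_NN {r : ℕ} (v : Fin r → ℚ) (j : Fin r) : |((v j : ℚ) : ℝ)| ≤ NN v := by
  have := norm_le_pi_norm (fun j => ((v j : ℚ) : ℝ)) j
  rwa [Real.norm_eq_abs] at this

theorem NN_le {r : ℕ} (v : Fin r → ℚ) {a : ℝ} (ha : 0 ≤ a) (h : ∀ j, |((v j : ℚ) : ℝ)| ≤ a) :
    NN v ≤ a := by
  unfold NN
  rw [pi_norm_le_iff_of_nonneg ha]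
  intro j
  rw [Real.norm_eq_abs]
  exact h j

theorem NN_smul {r : ℕ} (D : ℚ) (hD : 0 ≤ D) (v : Fin r → ℚ) : NN (D • v) = (D : ℝ) * NN v := by
  unfold NN
  have : (fun j => (((D • v) j : ℚ) : ℝ)) = (D : ℝ) • (fun j => ((v j : ℚ) : ℝ)) := by
    funext j
    simp
  rw [this, norm_smul, Real.norm_eq_abs, abs_of_nonneg (by exact_mod_cast hD)]

theorem SS_nonneg (n : ℕ) {m δ : ℝ} (hm : 0 ≤ m) (hδ : 0 ≤ δ) : 0 ≤ SS n m δ :=
  Finset.sum_nonneg fun q _ => mul_nonneg (pow_nonneg hm _) (pow_nonneg hδ _)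

theorem SS_mono (n : ℕ) {m m' δ δ' : ℝ} (hm : 0 ≤ m) (hmm : m ≤ m') (hδ : 0 ≤ δ) (hδδ : δ ≤ δ') :
    SS n m δ ≤ SS n m' δ' := by
  apply Finset.sum_le_sum
  intro q _
  exact mul_le_mul (pow_le_pow_left₀ hm hmm _) (pow_le_pow_left₀ hδ hδδ _) (pow_nonneg hδ _)
    (pow_nonneg (hm.trans hmm) _)

theorem SS_scale (n : ℕ) (D m δ : ℝ) : SS n (D * m) (D * δ) = D ^ n * SS n m δ := by
  unfold SS
  rw [Finset.mul_sum]
  apply Finset.sum_congr rfl
  intro q hq
  have hq' : q ≤ n := (Finset.mem_Icc.1 hq).2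
  have : D ^ n = D ^ (n - q) * D ^ q := by rw [← pow_add, Nat.sub_add_cancel hq']
  rw [mul_pow, mul_pow, this]
  ring

variable {r : ℕ} (n : ℕ) (f : (Fin r → ℚ) → ℝ)

/-- one coordinate step by an integer -/
theorem step_int (i : Fin r) (Ci : ℝ)
    (hCi : ∀ (v : Fin r → ℚ) (b : ℕ), 1 ≤ b →
      |f (v - (b : ℚ) • Pi.single i 1) - f v| ≤ Ci * SS n (NN v) (b : ℝ))
    (v : Fin r → ℚ) (z : ℤ) (m : ℝ) (hv : NN v ≤ m)
    (hw : NN (v - (z : ℚ) • Pi.single i 1) ≤ m) :
    |f (v - (z : ℚ) • Pi.single i 1) - f v| ≤ max Ci 0 * SS n m (|(z : ℝ)|) := by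
  have hm : 0 ≤ m := (NN_nonneg v).trans hv
  rcases lt_trichotomy z 0 with hz | hz | hz
  · -- negative step: apply the hypothesis at the other endpoint
    obtain ⟨b, hb⟩ : ∃ b : ℕ, z = -(b : ℤ) := ⟨z.natAbs, by omega⟩
    have hb1 : 1 ≤ b := by omega
    set w := v - (z : ℚ) • Pi.single i 1 with hwdef
    have hvw : v = w - (b : ℚ) • Pi.single i 1 := by
      rw [hwdef, hb]
      push_cast
      funext j
      simp
    have h1 := hCi w b hb1
    rw [← hvw] at h1
    rw [abs_sub_comm]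
    refine h1.trans ?_
    have habs : |(z : ℝ)| = (b : ℝ) := by
      rw [hb]; push_cast; rw [abs_neg, abs_of_nonneg (Nat.cast_nonneg b)]
    rw [habs]
    calc Ci * SS n (NN w) (b : ℝ) ≤ max Ci 0 * SS n (NN w) (b : ℝ) :=
          mul_le_mul_of_nonneg_right (le_max_left _ _)
            (SS_nonneg n (NN_nonneg w) (Nat.cast_nonneg b))
      _ ≤ max Ci 0 * SS n m (b : ℝ) :=
          mul_le_mul_of_nonneg_left (SS_mono n (NN_nonneg w) hw (Nat.cast_nonneg b) le_rfl)
            (le_max_right _ _)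
  · subst hz
    simp only [Int.cast_zero, zero_smul, sub_zero, sub_self, abs_zero]
    exact mul_nonneg (le_max_right _ _) (SS_nonneg n hm le_rfl)
  · obtain ⟨b, hb⟩ : ∃ b : ℕ, z = (b : ℤ) := ⟨z.natAbs, by omega⟩
    have hb1 : 1 ≤ b := by omega
    have h1 := hCi v b hb1
    have habs : |(z : ℝ)| = (b : ℝ) := by
      rw [hb]; push_cast; rw [abs_of_nonneg (Nat.cast_nonneg b)]
    rw [habs, hb]
    push_cast
    refine h1.trans ?_
    calc Ci * SS n (NN v) (b : ℝ) ≤ max Ci 0 * SS n (NN v) (b : ℝ) :=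
          mul_le_mul_of_nonneg_right (le_max_left _ _)
            (SS_nonneg n (NN_nonneg v) (Nat.cast_nonneg b))
      _ ≤ max Ci 0 * SS n m (b : ℝ) :=
          mul_le_mul_of_nonneg_left (SS_mono n (NN_nonneg v) hv (Nat.cast_nonneg b) le_rfl)
            (le_max_right _ _)

/-- the constants, indexed by natural numbers -/
noncomputable def cst (C : Fin r → ℝ) (i : ℕ) : ℝ := if h : i < r then max (C ⟨i, h⟩) 0 else 0

theorem cst_nonneg (C : Fin r → ℝ) (i : ℕ) : 0 ≤ cst C i := by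
  unfold cst
  split_ifs
  · exact le_max_right _ _
  · exact le_rfl

/-- the path from `v` to `w`, changing one coordinate at a time -/
def pth (v w : Fin r → ℚ) (k : ℕ) : Fin r → ℚ := fun j => if (j : ℕ) < k then w j else v j

theorem NN_pth_le (v w : Fin r → ℚ) (k : ℕ) : NN (pth v w k) ≤ max (NN v) (NN w) := by
  apply NN_le _ ((NN_nonneg v).trans (le_max_left _ _))
  intro j
  unfold pth
  split_ifs
  · exact (abs_coord_le_NN w j).trans (le_max_right _ _)
  · exact (abs_coord_le_NN v j).trans (le_max_left _ _)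

theorem int_diff (C : Fin r → ℝ)
    (hC : ∀ i, ∀ (v : Fin r → ℚ) (b : ℕ), 1 ≤ b →
      |f (v - (b : ℚ) • Pi.single i 1) - f v| ≤ C i * SS n (NN v) (b : ℝ))
    (v w : Fin r → ℚ) (z : Fin r → ℤ) (hz : ∀ j, v j - w j = z j) :
    |f v - f w| ≤ (∑ i ∈ Finset.range r, cst C i) * SS n (max (NN v) (NN w)) (NN (v - w)) := by
  set m := max (NN v) (NN w) with hm
  set δ := NN (v - w) with hδ
  have hm0 : 0 ≤ m := (NN_nonneg v).trans (le_max_left _ _)
  have hδ0 : 0 ≤ δ := NN_nonneg _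
  have hS0 : 0 ≤ SS n m δ := SS_nonneg n hm0 hδ0
  have key : ∀ k, k ≤ r → |f v - f (pth v w k)| ≤ (∑ i ∈ Finset.range k, cst C i) * SS n m δ := by
    intro k
    induction k with
    | zero =>
      intro _
      have : pth v w 0 = v := by
        funext j; simp [pth]
      rw [this]
      simp
    | succ k ih =>
      intro hk
      have hk' : k < r := hk
      have ih' := ih (le_of_lt hk')
      set i : Fin r := ⟨k, hk'⟩ with hi
      have hstep : pth v w (k + 1) = pth v w k - ((z i : ℤ) : ℚ) • Pi.single i 1 := by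
        funext j
        simp only [pth, Pi.sub_apply, Pi.smul_apply, Pi.single_apply, smul_eq_mul]
        by_cases hjk : (j : ℕ) < k
        · have hji : j ≠ i := by
            intro h; rw [h, hi] at hjk; simp at hjk
          simp [hjk, Nat.lt_succ_of_lt hjk, hji]
        · by_cases hjk' : (j : ℕ) = k
          · have hji : j = i := Fin.ext hjk'
            have h1 : (j : ℕ) < k + 1 := by omega
            rw [if_pos h1, if_neg hjk, if_pos hji, mul_one, hji, ← hz i]
            ring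
          · have hji : j ≠ i := by
              intro h; rw [h, hi] at hjk'; simp at hjk'
            have h1 : ¬ (j : ℕ) < k + 1 := by omega
            rw [if_neg h1, if_neg hjk, if_neg hji, mul_zero, sub_zero]
      have h1 := step_int n f i (C i) (hC i) (pth v w k) (z i) m (NN_pth_le v w k)
        (by rw [← hstep]; exact NN_pth_le v w (k + 1))
      rw [← hstep] at h1
      have hzi : |((z i : ℤ) : ℝ)| ≤ δ := by
        have := abs_coord_le_NN (v - w) i
        rw [Pi.sub_apply, hz i] at this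
        simpa using this
      have h2 : max (C i) 0 * SS n m (|((z i : ℤ) : ℝ)|) ≤ cst C k * SS n m δ := by
        have : cst C k = max (C i) 0 := by
          unfold cst; rw [dif_pos hk']
        rw [this]
        exact mul_le_mul_of_nonneg_left (SS_mono n hm0 le_rfl (abs_nonneg _) hzi) (le_max_right _ _)
      rw [Finset.sum_range_succ, add_mul]
      calc |f v - f (pth v w (k + 1))|
          = |(f v - f (pth v w k)) + (f (pth v w k) - f (pth v w (k + 1)))| := by ring_nf
        _ ≤ |f v - f (pth v w k)| + |f (pth v w k) - f (pth v w (k + 1))| := abs_add_le _ _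
        _ ≤ _ := add_le_add ih' (by rw [abs_sub_comm]; exact h1.trans h2)
  have hend : pth v w r = w := by
    funext j; simp [pth]
  have := key r le_rfl
  rwa [hend] at this

theorem cst_sum_nonneg (C : Fin r → ℝ) : 0 ≤ ∑ i ∈ Finset.range r, cst C i :=
  Finset.sum_nonneg fun i _ => cst_nonneg C i

theorem rat_diff (hhom : ∀ (q : ℚ) (v : Fin r → ℚ), 0 < q → f (q • v) = (q : ℝ) ^ n * f v)
    (C : Fin r → ℝ)
    (hC : ∀ i, ∀ (v : Fin r → ℚ) (b : ℕ), 1 ≤ b →
      |f (v - (b : ℚ) • Pi.single i 1) - f v| ≤ C i * SS n (NN v) (b : ℝ))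
    (v w : Fin r → ℚ) :
    |f v - f w| ≤ (∑ i ∈ Finset.range r, cst C i) * SS n (max (NN v) (NN w)) (NN (v - w)) := by
  classical
  set D : ℕ := ∏ j, (v j - w j).den with hD
  have hDpos : 0 < D := Finset.prod_pos fun j _ => Rat.den_pos _
  have hDq : (0 : ℚ) < (D : ℚ) := by exact_mod_cast hDpos
  have hDr : (0 : ℝ) < (D : ℝ) := by exact_mod_cast hDpos
  have hint : ∀ j, ∃ zj : ℤ, (D : ℚ) * (v j - w j) = zj := by
    intro j
    obtain ⟨t, ht⟩ : (v j - w j).den ∣ D := Finset.dvd_prod_of_mem _ (Finset.mem_univ j)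
    refine ⟨t * (v j - w j).num, ?_⟩
    rw [ht]
    push_cast
    have := Rat.mul_den_eq_num (v j - w j)
    calc ((v j - w j).den : ℚ) * (t : ℚ) * (v j - w j)
        = (t : ℚ) * ((v j - w j) * ((v j - w j).den : ℚ)) := by ring
      _ = (t : ℚ) * ((v j - w j).num : ℚ) := by rw [this]
  choose z hz using hint
  have h1 := int_diff n f C hC ((D : ℚ) • v) ((D : ℚ) • w) z (by
    intro j
    rw [Pi.smul_apply, Pi.smul_apply, smul_eq_mul, smul_eq_mul, ← mul_sub]
    exact hz j)
  rw [hhom _ v hDq, hhom _ w hDq, NN_smul _ hDq.le, NN_smul _ hDq.le, ← smul_sub,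
    NN_smul _ hDq.le, ← mul_max_of_nonneg _ _ (by exact_mod_cast hDq.le), SS_scale, ← mul_sub,
    abs_mul] at h1
  have hDn : (0 : ℝ) < ((D : ℚ) : ℝ) ^ n := by
    apply pow_pos; exact_mod_cast hDq
  rw [abs_of_pos hDn, mul_left_comm] at h1
  exact le_of_mul_le_mul_left h1 hDn

end Groth.Agent.H88
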