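import Mathlib
import Groth.Prelude.Def_CohB1
import Groth.Agent.H88.LimTrunc
import Groth.Agent.H70.Rees.UnitImage
import Groth.Agent.H71.QCoh.SupportProper
import Groth.Agent.H67.DevSupp

/-!
# The image of `lim G ⟶ G_e` for a Mittag-Leffler tower of quasi-coherent modules

For a tower `G : ℕᵒᵖ ⥤ X.Modules` of quasi-coherent modules which is Mittag-Leffler (the image
subobject of `G_d ⟶ G_e` is constant for `d ≥ D e`), the image of `lim G ⟶ G_e` is the stable image
`image (G_(D e) ⟶ G_e)`: `epi_limit_to_stableImage`, `nonempty_image_limit_π_iso`.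
-/

set_option autoImplicit false
universe u
open CategoryTheory CategoryTheory.Limits AlgebraicGeometry Opposite TopologicalSpace

namespace Groth.Agent.H88.MLImage

open Groth.Agent.H70.Rees Groth.Agent.Lead.SubRange Groth.Agent.H88.LimSections
  Groth.Agent.H88.LimTrunc

variable {X : Scheme.{u}}

theorem rng_arrow_congr {N : X.Modules} {P Q : Subobject N} (h : P = Q) (W : X.Opens) :
    rng P.arrow W = rng Q.arrow W := by
  subst h
  rfl

/-- equal image subobjects have equal ranges on sections over affine opens -/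
theorem rng_eq_of_imageSubobject_eq {M M' N : X.Modules} [M.IsQuasicoherent] [M'.IsQuasicoherent]
    [N.IsQuasicoherent] (φ : M ⟶ N) (φ' : M' ⟶ N) (h : imageSubobject φ = imageSubobject φ')
    {W : X.Opens} (hW : IsAffineOpen W) : rng φ W = rng φ' W := by
  have key : ∀ {K : X.Modules} [K.IsQuasicoherent] (ψ : K ⟶ N),
      rng ψ W = rng (imageSubobject ψ).arrow W := by
    intro K _ ψ
    rw [← rng_image_ι ψ hW, ← imageSubobject_arrow ψ, rng_eq_of_isIso_comp]
  rw [key φ, key φ', rng_arrow_congr h W]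

section Tower

variable (G : ℕᵒᵖ ⥤ X.Modules) (hq : ∀ n : ℕ, (G.obj (op n)).IsQuasicoherent)
  (D : ℕ → ℕ) (hD : ∀ j, j ≤ D j)
  (hDst : ∀ (j k : ℕ) (h : D j ≤ k),
    imageSubobject (G.map (homOfLE ((hD j).trans h)).op) = imageSubobject (G.map (homOfLE (hD j)).op))
  {W : X.Opens} (hW : IsAffineOpen W)

/-- the stable images on sections -/
noncomputable def St (j : ℕ) : Submodule Γ(X, W) Γ(G.obj (op j), W) :=
  LinearMap.range (Tm G W j (D j) (hD j))

include hq hDst hW in
theorem range_Tm_eq (j k : ℕ) (h : D j ≤ k) :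
    LinearMap.range (Tm G W j k ((hD j).trans h)) = St G D hD (W := W) j := by
  haveI := hq j
  haveI := hq k
  haveI := hq (D j)
  exact rng_eq_of_imageSubobject_eq _ _ (hDst j k h) hW

include hq hDst hW in
theorem Tm_mem_St (j k : ℕ) (h : j ≤ k) (x : Γ(G.obj (op k), W)) (hx : x ∈ St G D hD (W := W) k) :
    Tm G W j k h x ∈ St G D hD (W := W) j := by
  have hk' : D k ≤ max (D k) (D j) := le_max_left _ _
  have hj' : D j ≤ max (D k) (D j) := le_max_right _ _
  rw [← range_Tm_eq G hq D hD hDst hW k _ hk'] at hx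
  obtain ⟨y, rfl⟩ := hx
  rw [Tm_trans, ← range_Tm_eq G hq D hD hDst hW j _ hj']
  exact ⟨y, rfl⟩

include hq hDst hW in
theorem St_surjective (j : ℕ) (z : Γ(G.obj (op j), W)) (hz : z ∈ St G D hD (W := W) j) :
    ∃ z' ∈ St G D hD (W := W) (j + 1), Tm G W j (j + 1) (Nat.le_succ j) z' = z := by
  have hj' : D j ≤ max (D j) (D (j + 1)) := le_max_left _ _
  have hj1' : D (j + 1) ≤ max (D j) (D (j + 1)) := le_max_right _ _
  rw [← range_Tm_eq G hq D hD hDst hW j _ hj'] at hz
  obtain ⟨y, rfl⟩ := hz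
  refine ⟨Tm G W (j + 1) _ ((hD (j + 1)).trans hj1') y, ?_, ?_⟩
  · rw [← range_Tm_eq G hq D hD hDst hW (j + 1) _ hj1']
    exact ⟨y, rfl⟩
  · rw [Tm_trans]

include hq hDst hW in
/-- every element of the stable image lifts to a section of the limit -/
theorem exists_lift (e : ℕ) (y : Γ(G.obj (op e), W)) (hy : y ∈ St G D hD (W := W) e) :
    ∃ x : Γ(limit G, W), pm G W e x = y := by
  have hmaps := Tm_mem_St G hq D hD hDst hW
  let T' : ∀ j k : ℕ, j ≤ k → (↥(St G D hD (W := W) k) →ₗ[Γ(X, W)] ↥(St G D hD (W := W) j)) :=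
    fun j k h => (Tm G W j k h).restrict (hmaps j k h)
  let p' : ∀ m, Γ(limit G, W) →ₗ[Γ(X, W)] ↥(St G D hD (W := W) m) := fun m =>
    (pm G W m).codRestrict (St G D hD (W := W) m)
      (fun x => ⟨pm G W (D m) x, Tm_pm G W m (D m) (hD m) x⟩)
  have hsurj := Groth.Agent.H88.TowerAdic.proj_surjective
    (fun j => ↥(St G D hD (W := W) j)) T' Γ(limit G, W) p'
    (fun j x => Subtype.ext (Tm_refl G W j x.1))
    (fun i j k h h' x => Subtype.ext (Tm_trans G W i j k h h' x.1))
    (fun j z => by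
      obtain ⟨z', hz', hzz⟩ := St_surjective G hq D hD hDst hW j z.1 z.2
      exact ⟨⟨z', hz'⟩, Subtype.ext hzz⟩)
    (fun x hx => by
      obtain ⟨y, hy⟩ := pm_exists G W (fun m => (x m).1)
        (fun m => congrArg Subtype.val (hx m))
      exact ⟨y, fun m => Subtype.ext (hy m)⟩)
    e
  obtain ⟨x, hx⟩ := hsurj ⟨y, hy⟩
  exact ⟨x, congrArg Subtype.val hx⟩

include hq hDst in
/-- the limit maps onto the stable image -/
theorem epi_limit_to_stableImage (e : ℕ) :
    Epi (limit.π G (op (D e)) ≫ factorThruImage (G.map (homOfLE (hD e)).op)) := by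
  haveI := hq e
  haveI := hq (D e)
  refine epi_of_affine_surjective _ (fun W hW => ?_)
  intro s
  have hy : (Limits.image.ι (G.map (homOfLE (hD e)).op)).app W s ∈ St G D hD (W := W) e := by
    have h1 : (Limits.image.ι (G.map (homOfLE (hD e)).op)).app W s ∈
        rng (Limits.image.ι (G.map (homOfLE (hD e)).op)) W := ⟨s, rfl⟩
    rw [rng_image_ι (G.map (homOfLE (hD e)).op) hW] at h1
    exact h1
  obtain ⟨x, hx⟩ := exists_lift G hq D hD hDst hW e _ hy
  refine ⟨x, ?_⟩
  apply Groth.Agent.H12.QCohAbelian.app_injective_of_mono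
    (Limits.image.ι (G.map (homOfLE (hD e)).op)) W
  rw [← comp_app_apply]
  have e1 : (limit.π G (op (D e)) ≫ factorThruImage (G.map (homOfLE (hD e)).op)) ≫
      Limits.image.ι (G.map (homOfLE (hD e)).op) = limit.π G (op e) := by
    rw [Category.assoc, image.fac, limit.w]
  rw [app_congr e1 W x]
  exact hx

include hq hDst in
/-- the image of `lim G ⟶ G_e` is the stable image -/
theorem nonempty_image_limit_π_iso (e : ℕ) :
    Nonempty (Limits.image (G.map (homOfLE (hD e)).op) ≅ Limits.image (limit.π G (op e))) := by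
  haveI := epi_limit_to_stableImage G hq D hD hDst e
  haveI : StrongEpi (limit.π G (op (D e)) ≫ factorThruImage (G.map (homOfLE (hD e)).op)) :=
    strongEpi_of_epi _
  have e1 : (limit.π G (op (D e)) ≫ factorThruImage (G.map (homOfLE (hD e)).op)) ≫
      Limits.image.ι (G.map (homOfLE (hD e)).op) = limit.π G (op e) := by
    rw [Category.assoc, image.fac, limit.w]
  exact ⟨image.isoStrongEpiMono _ _ e1⟩

end Tower

/-- **Support of the image of `lim G ⟶ G_e`** for a Mittag-Leffler tower of coherent modules. -/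
theorem isClosed_support_image_limit_π (G : ℕᵒᵖ ⥤ X.Modules)
    (hG : ∀ n : ℕᵒᵖ, Coh.IsCoh (G.obj n))
    (hML : ∀ e : ℕ, ∃ (d : ℕ) (hd : e ≤ d), ∀ (d' : ℕ) (hd' : d ≤ d'),
      imageSubobject (G.map (homOfLE (hd.trans hd')).op) = imageSubobject (G.map (homOfLE hd).op))
    (e : ℕ) : IsClosed (CohB1.support (Limits.image (limit.π G (op e)))) := by
  choose D hD hDst using hML
  have hq : ∀ n : ℕ, (G.obj (op n)).IsQuasicoherent := fun n => (hG (op n)).1
  obtain ⟨i⟩ := nonempty_image_limit_π_iso G hq D hD hDst e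
  rw [← Groth.Agent.H67.Dev.support_eq_of_iso i]
  haveI := hq e
  haveI := hq (D e)
  haveI : SheafOfModules.IsFiniteType (R := X.ringCatSheaf) (G.obj (op (D e))) := (hG (op (D e))).2
  let Im : X.Modules := Limits.image (G.map (homOfLE (hD e)).op)
  haveI : Im.IsQuasicoherent := inferInstanceAs (Limits.image (G.map (homOfLE (hD e)).op)).IsQuasicoherent
  haveI : SheafOfModules.IsFiniteType (R := X.ringCatSheaf) Im :=
    Groth.Agent.H71.QCoh.isFiniteType_of_epi (factorThruImage (G.map (homOfLE (hD e)).op))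
  exact Groth.Agent.H71.QCoh.isClosed_support Im

end Groth.Agent.H88.MLImage
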