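import Mathlib
import Groth.Agent.H88.BlockPermSum

set_option autoImplicit false

open Matrix Equiv Finset

namespace Groth.Agent.H88

variable {R : Type*} [CommRing R]

/-- the sign of a permutation of `Fin n` as `(-1)^(number of inversions)`. -/
lemma sign_eq_neg_one_pow_card_inversions {n : ℕ} (σ : Perm (Fin n)) :
    (Perm.sign σ : ℤˣ) = (-1) ^ ((univ ×ˢ univ : Finset (Fin n × Fin n)).filter
      (fun ij => ij.1 < ij.2 ∧ σ ij.2 < σ ij.1)).card := by
  rw [Perm.sign_eq_prod_prod_Ioi]
  have h1 : ∀ i : Fin n, ∏ j ∈ Finset.Ioi i, (if σ i < σ j then (1 : ℤˣ) else -1)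
      = ∏ j, (if i < j ∧ σ j < σ i then (-1 : ℤˣ) else 1) := by
    intro i
    rw [← Finset.filter_lt_eq_Ioi, Finset.prod_filter]
    apply Finset.prod_congr rfl
    intro j _
    by_cases hij : i < j
    · have hne : σ i ≠ σ j := fun h => hij.ne (σ.injective h)
      by_cases h2 : σ i < σ j
      · simp [hij, h2, not_lt.mpr h2.le]
      · have : σ j < σ i := lt_of_le_of_ne (not_lt.mp h2) (Ne.symm hne)
        simp [hij, h2, this]
    · simp [hij]
  simp_rw [h1]
  rw [← Finset.prod_product' (s := univ) (t := univ)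
    (f := fun i j => if i < j ∧ σ j < σ i then (-1 : ℤˣ) else 1)]
  rw [Finset.prod_ite, Finset.prod_const_one, mul_one, Finset.prod_const]

/-- the pairing sum for arbitrary row selections `f`, `g`. -/
theorem sum_sign_mul_minors_append {p r : ℕ} (M : Matrix (Fin (p + r)) (Fin (p + r)) R)
    (f : Fin p → Fin (p + r)) (g : Fin r → Fin (p + r)) :
    ∑ π : Perm (Fin (p + r)), ((Perm.sign π : ℤ) : R) *
        ((M * π.permMatrix R).submatrix f (Fin.castAdd r)).det *
        ((M * π.permMatrix R).submatrix g (Fin.natAdd p)).det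
      = ((p.factorial * r.factorial : ℕ) : R) * (M.submatrix (Fin.append f g) id).det := by
  rw [← sum_sign_mul_block_minors]
  apply Finset.sum_congr rfl
  intro π _
  have h1 : ((M.submatrix (Fin.append f g) id) * π.permMatrix R).submatrix
      (Fin.castAdd r) (Fin.castAdd r) = (M * π.permMatrix R).submatrix f (Fin.castAdd r) := by
    ext i j
    simp [Matrix.mul_apply]
  have h2 : ((M.submatrix (Fin.append f g) id) * π.permMatrix R).submatrix
      (Fin.natAdd p) (Fin.natAdd p) = (M * π.permMatrix R).submatrix g (Fin.natAdd p) := by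
    ext i j
    simp [Matrix.mul_apply]
  rw [h1, h2]

end Groth.Agent.H88
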