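import Mathlib.Analysis.Polynomial.Basic
import Mathlib.Analysis.Normed.Field.Lemmas
import Mathlib.Topology.Instances.Rat

set_option autoImplicit false

namespace Groth.Agent.H88

open Polynomial Filter

theorem eventually_neg_of_leading (m : ℕ) (c : ℚ) (hc : c < 0) (P : Polynomial ℚ)
    (hP : P.natDegree < m) :
    ∃ N : ℕ, ∀ p : ℕ, N ≤ p → c * (p : ℚ) ^ m + P.eval (p : ℚ) < 0 := by
  have hm : 0 < m := by omega
  have hdegP : P.degree < (C c * X ^ m : ℚ[X]).degree := by
    rw [degree_C_mul_X_pow m hc.ne]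
    exact lt_of_le_of_lt degree_le_natDegree (by exact_mod_cast hP)
  set Q : ℚ[X] := C c * X ^ m + P with hQ
  have hdegQ : Q.degree = m := by
    rw [hQ, degree_add_eq_left_of_degree_lt hdegP, degree_C_mul_X_pow m hc.ne]
  have hlead : Q.leadingCoeff = c := by
    rw [hQ, leadingCoeff_add_of_degree_lt' hdegP, leadingCoeff_mul, leadingCoeff_C,
      leadingCoeff_X_pow, mul_one]
  have ht := tendsto_atBot_of_leadingCoeff_nonpos Q
    (by rw [hdegQ]; exact_mod_cast hm) (by rw [hlead]; exact hc.le)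
  have ht' : Tendsto (fun p : ℕ => eval (p : ℚ) Q) atTop atBot :=
    ht.comp tendsto_natCast_atTop_atTop
  have hev := ht'.eventually (eventually_lt_atBot (0 : ℚ))
  obtain ⟨N, hN⟩ := eventually_atTop.1 hev
  refine ⟨N, fun p hp => ?_⟩
  have := hN p hp
  simpa [hQ] using this

end Groth.Agent.H88
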