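import Mathlib
import Groth.Prelude.Def_GrMod2
import Groth.Agent.S3586
import Groth.Agent.S3587

/-!
# Sections of `M(n)~` over `D_+(g)` and the localization `M_g`

For `g` homogeneous of positive degree, `⨁ₙ Γ(D_+(g), M(n)~) ≃+ M_g`.
-/

namespace Groth.Agent.H88.ProjSect

open CategoryTheory GrTilde Opposite TopologicalSpace DirectSum

universe u

variable {R A : Type u} [CommRing R] [CommRing A] [Algebra R A] (𝒜 : ℕ → Submodule R A)
  [GradedAlgebra 𝒜]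
  {M : Type u} [AddCommGroup M] [Module R M] [Module A M] [IsScalarTower R A M]
  (ℳ : ℕ → Submodule R M) [DirectSum.Decomposition ℳ] [SetLike.GradedSMul 𝒜 ℳ]

omit [Module R M] [IsScalarTower R A M] in
theorem pow_not_mem {g : A} (x : ProjectiveSpectrum.basicOpen 𝒜 g) (k : ℕ) :
    g ^ k ∈ x.1.asHomogeneousIdeal.toIdeal.primeCompl :=
  fun h => (ProjectiveSpectrum.mem_basicOpen 𝒜 g x.1).mp x.2 (x.1.isPrime.mem_of_pow_mem k h)

/-- The fraction `m / g^k` in `M_x`. -/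
noncomputable abbrev germFrac {g : A} (x : ProjectiveSpectrum.basicOpen 𝒜 g) (m : M) (k : ℕ) :
    LocMod 𝒜 (M := M) x.1 :=
  LocalizedModule.mk m ⟨g ^ k, pow_not_mem 𝒜 x k⟩

/-- The fraction `m / g^k` in `M_g`. -/
noncomputable abbrev frac (g : A) (m : M) (k : ℕ) : LocalizedModule (Submonoid.powers g) M :=
  LocalizedModule.mk m ⟨g ^ k, ⟨k, rfl⟩⟩

variable {𝒜 ℳ}

/-- `s` is represented on `D_+(g)` by the fraction `m / g^k`, `deg m = k d + n`. -/
def Rep (g : A) (d : ℕ) (n : ℤ) (s : sect 𝒜 ℳ n (op (ProjectiveSpectrum.basicOpen 𝒜 g)))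
    (k i : ℕ) (m : ℳ i) : Prop :=
  (i : ℤ) = k * d + n ∧ ∀ x : ProjectiveSpectrum.basicOpen 𝒜 g,
    ((s.1 x : tildeAt 𝒜 ℳ n x.1) : LocMod 𝒜 (M := M) x.1) = germFrac 𝒜 x m.1 k

theorem exists_rep {g : A} {d : ℕ} (hd : 0 < d) (hg : g ∈ 𝒜 d) (n : ℤ)
    (s : sect 𝒜 ℳ n (op (ProjectiveSpectrum.basicOpen 𝒜 g))) :
    ∃ (k i : ℕ) (m : ℳ i), Rep g d n s k i m :=
  Groth.Agent.S3586.result 𝒜 ℳ n hd hg s

omit [DirectSum.Decomposition ℳ] [SetLike.GradedSMul 𝒜 ℳ] [IsScalarTower R A M] [Module R M] in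
theorem frac_eq_frac_iff (g : A) (m m' : M) (k k' : ℕ) :
    frac g m k = frac g m' k' ↔ ∃ N : ℕ, g ^ N • g ^ k' • m = g ^ N • g ^ k • m' := by
  rw [LocalizedModule.mk_eq]
  constructor
  · rintro ⟨⟨u, N, rfl⟩, hu⟩
    exact ⟨N, hu⟩
  · rintro ⟨N, hN⟩
    exact ⟨⟨g ^ N, N, rfl⟩, hN⟩

theorem rep_unique {g : A} {d : ℕ} (hd : 0 < d) (hg : g ∈ 𝒜 d) {n : ℤ}
    {s : sect 𝒜 ℳ n (op (ProjectiveSpectrum.basicOpen 𝒜 g))}
    {k i : ℕ} {m : ℳ i} {k' i' : ℕ} {m' : ℳ i'} (h : Rep g d n s k i m)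
    (h' : Rep g d n s k' i' m') : frac g m.1 k = frac g m'.1 k' := by
  have hgk : ∀ k : ℕ, g ^ k ∈ 𝒜 (k * d) := fun k => by
    have := SetLike.pow_mem_graded k hg
    rwa [smul_eq_mul] at this
  have hdeg : k * d + i' = k' * d + i := by
    have h1 := h.1
    have h2 := h'.1
    have : ((k * d + i' : ℕ) : ℤ) = ((k' * d + i : ℕ) : ℤ) := by push_cast; rw [h1, h2]; ring
    exact_mod_cast this
  have ha1 : g ^ k' • m.1 ∈ ℳ (k' * d + i) := SetLike.GradedSMul.smul_mem (hgk k') m.2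
  have ha2 : g ^ k • m'.1 ∈ ℳ (k' * d + i) := by
    rw [← hdeg]
    exact SetLike.GradedSMul.smul_mem (hgk k) m'.2
  obtain ⟨N, hN⟩ := Groth.Agent.S3587.result 𝒜 ℳ hd hg 0 (k' * d + i)
    ⟨g ^ k' • m.1 - g ^ k • m'.1, sub_mem ha1 ha2⟩ (fun x => by
      have e : germFrac 𝒜 x m.1 k = germFrac 𝒜 x m'.1 k' := by rw [← h.2 x, ← h'.2 x]
      obtain ⟨u, hu⟩ := LocalizedModule.mk_eq.mp e
      rw [← LocalizedModule.zero_mk (1 : x.1.asHomogeneousIdeal.toIdeal.primeCompl),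
        LocalizedModule.mk_eq]
      refine ⟨u, ?_⟩
      change u • (1 : x.1.asHomogeneousIdeal.toIdeal.primeCompl) • (g ^ k' • m.1 - g ^ k • m'.1) =
        u • _ • (0 : M)
      rw [one_smul, smul_zero, smul_zero, smul_sub, sub_eq_zero]
      exact hu)
  rw [frac_eq_frac_iff]
  refine ⟨N, ?_⟩
  change g ^ N • (g ^ k' • m.1 - g ^ k • m'.1) = 0 at hN
  rwa [smul_sub, sub_eq_zero] at hN


/-- The element of `M_g` attached to a section of `M(n)~` over `D_+(g)`. -/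
noncomputable def Φ {g : A} {d : ℕ} (hd : 0 < d) (hg : g ∈ 𝒜 d) (n : ℤ)
    (s : sect 𝒜 ℳ n (op (ProjectiveSpectrum.basicOpen 𝒜 g))) :
    LocalizedModule (Submonoid.powers g) M :=
  frac g (exists_rep hd hg n s).choose_spec.choose_spec.choose.1 (exists_rep hd hg n s).choose

theorem Φ_eq {g : A} {d : ℕ} (hd : 0 < d) (hg : g ∈ 𝒜 d) {n : ℤ}
    {s : sect 𝒜 ℳ n (op (ProjectiveSpectrum.basicOpen 𝒜 g))}
    {k i : ℕ} {m : ℳ i} (h : Rep g d n s k i m) : Φ hd hg n s = frac g m.1 k :=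
  rep_unique hd hg (exists_rep hd hg n s).choose_spec.choose_spec.choose_spec h

omit [DirectSum.Decomposition ℳ] in
theorem rep_add {g : A} {d : ℕ} (hg : g ∈ 𝒜 d) {n : ℤ}
    {s t : sect 𝒜 ℳ n (op (ProjectiveSpectrum.basicOpen 𝒜 g))}
    {k i : ℕ} {m : ℳ i} {k' i' : ℕ} {m' : ℳ i'} (h : Rep g d n s k i m)
    (h' : Rep g d n t k' i' m') :
    ∃ hm : g ^ k' • m.1 + g ^ k • m'.1 ∈ ℳ (k' * d + i),
      Rep g d n (s + t) (k + k') (k' * d + i) ⟨g ^ k' • m.1 + g ^ k • m'.1, hm⟩ := by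
  have hgk : ∀ k : ℕ, g ^ k ∈ 𝒜 (k * d) := fun k => by
    have := SetLike.pow_mem_graded k hg
    rwa [smul_eq_mul] at this
  have hdeg : k * d + i' = k' * d + i := by
    have h1 := h.1
    have h2 := h'.1
    have : ((k * d + i' : ℕ) : ℤ) = ((k' * d + i : ℕ) : ℤ) := by push_cast; rw [h1, h2]; ring
    exact_mod_cast this
  have ha1 : g ^ k' • m.1 ∈ ℳ (k' * d + i) := SetLike.GradedSMul.smul_mem (hgk k') m.2
  have ha2 : g ^ k • m'.1 ∈ ℳ (k' * d + i) := by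
    rw [← hdeg]
    exact SetLike.GradedSMul.smul_mem (hgk k) m'.2
  refine ⟨add_mem ha1 ha2, ?_, fun x => ?_⟩
  · have h1 := h.1
    push_cast
    rw [h1]
    ring
  · have e : ((s + t).1 x : tildeAt 𝒜 ℳ n x.1) = s.1 x + t.1 x := rfl
    rw [e, Submodule.coe_add, h.2 x, h'.2 x, LocalizedModule.mk_add_mk]
    congr 1
    exact Subtype.ext (pow_add g k k').symm

/-- `Φ` as an additive map. -/
noncomputable def ΦHom {g : A} {d : ℕ} (hd : 0 < d) (hg : g ∈ 𝒜 d) (n : ℤ) :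
    sect 𝒜 ℳ n (op (ProjectiveSpectrum.basicOpen 𝒜 g)) →+
      LocalizedModule (Submonoid.powers g) M :=
  AddMonoidHom.mk' (Φ hd hg n) (fun s t => by
    obtain ⟨k, i, m, h⟩ := exists_rep hd hg n s
    obtain ⟨k', i', m', h'⟩ := exists_rep hd hg n t
    obtain ⟨hm, h''⟩ := rep_add hg h h'
    rw [Φ_eq hd hg h, Φ_eq hd hg h', Φ_eq hd hg h'', LocalizedModule.mk_add_mk]
    change LocalizedModule.mk (g ^ k' • m.1 + g ^ k • m'.1) ⟨g ^ (k + k'), _⟩ = _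
    congr 1
    exact Subtype.ext (pow_add g k k'))

theorem ΦHom_eq {g : A} {d : ℕ} (hd : 0 < d) (hg : g ∈ 𝒜 d) {n : ℤ}
    {s : sect 𝒜 ℳ n (op (ProjectiveSpectrum.basicOpen 𝒜 g))}
    {k i : ℕ} {m : ℳ i} (h : Rep g d n s k i m) : ΦHom hd hg n s = frac g m.1 k :=
  Φ_eq hd hg h

theorem ΦHom_injective {g : A} {d : ℕ} (hd : 0 < d) (hg : g ∈ 𝒜 d) (n : ℤ) :
    Function.Injective (ΦHom (ℳ := ℳ) hd hg n) := by
  rw [injective_iff_map_eq_zero]
  intro s hs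
  obtain ⟨k, i, m, h⟩ := exists_rep hd hg n s
  rw [ΦHom_eq hd hg h, ← LocalizedModule.zero_mk (1 : Submonoid.powers g),
    LocalizedModule.mk_eq] at hs
  obtain ⟨⟨u, N, rfl⟩, hu⟩ := hs
  apply Subtype.ext
  funext x
  apply Subtype.ext
  rw [h.2 x]
  change germFrac 𝒜 x m.1 k = 0
  rw [← LocalizedModule.zero_mk (1 : x.1.asHomogeneousIdeal.toIdeal.primeCompl),
    LocalizedModule.mk_eq]
  exact ⟨⟨g ^ N, pow_not_mem 𝒜 x N⟩, hu⟩


omit [DirectSum.Decomposition ℳ] [IsScalarTower R A M] in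
theorem pow_mem_graded' {g : A} {d : ℕ} (hg : g ∈ 𝒜 d) (k : ℕ) : g ^ k ∈ 𝒜 (k * d) := by
  have := SetLike.pow_mem_graded k hg
  rwa [smul_eq_mul] at this

/-- The section `m / g^k` of `M(n)~` over `D_+(g)`, for `m` homogeneous of degree `k d + n`. -/
noncomputable def fracSect {g : A} {d : ℕ} (hg : g ∈ 𝒜 d) (n : ℤ) (k i : ℕ) (m : ℳ i)
    (h : (i : ℤ) = k * d + n) : sect 𝒜 ℳ n (op (ProjectiveSpectrum.basicOpen 𝒜 g)) :=
  ⟨fun x => ⟨germFrac 𝒜 x m.1 k,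
    Submodule.subset_span ⟨i, k * d, m, ⟨g ^ k, pow_mem_graded' hg k⟩, pow_not_mem 𝒜 x k,
      (by rw [h]; push_cast; ring), rfl⟩⟩,
   fun x => ⟨ProjectiveSpectrum.basicOpen 𝒜 g, x.2, 𝟙 _, i, k * d, m,
    ⟨g ^ k, pow_mem_graded' hg k⟩, fun y => pow_not_mem 𝒜 y k,
    Or.inl (by rw [h]; push_cast; ring), fun _ => rfl⟩⟩

omit [DirectSum.Decomposition ℳ] [IsScalarTower R A M] in
theorem rep_fracSect {g : A} {d : ℕ} (hg : g ∈ 𝒜 d) (n : ℤ) (k i : ℕ) (m : ℳ i)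
    (h : (i : ℤ) = k * d + n) : Rep g d n (fracSect hg n k i m h) k i m :=
  ⟨h, fun _ => rfl⟩

/-- The total map `⨁ₙ Γ(D_+(g), M(n)~) → M_g`. -/
noncomputable def Ψ {g : A} {d : ℕ} (hd : 0 < d) (hg : g ∈ 𝒜 d) :
    (⨁ n : ℤ, ((tildePre 𝒜 ℳ n).obj (op (ProjectiveSpectrum.basicOpen 𝒜 g)) : Type u)) →+
      LocalizedModule (Submonoid.powers g) M :=
  DirectSum.toAddMonoid (fun n => ΦHom hd hg n)

theorem Ψ_of {g : A} {d : ℕ} (hd : 0 < d) (hg : g ∈ 𝒜 d) (n : ℤ)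
    (s : sect 𝒜 ℳ n (op (ProjectiveSpectrum.basicOpen 𝒜 g))) :
    Ψ hd hg (DirectSum.of (fun n : ℤ => ((tildePre 𝒜 ℳ n).obj (op (ProjectiveSpectrum.basicOpen 𝒜 g)) : Type u)) n s) =
      ΦHom hd hg n s :=
  DirectSum.toAddMonoid_of _ _ _

theorem frac_homog_mem_range {g : A} {d : ℕ} (hd : 0 < d) (hg : g ∈ 𝒜 d) (k i : ℕ) (m : ℳ i) :
    frac g m.1 k ∈ AddMonoidHom.mrange (Ψ (ℳ := ℳ) hd hg) := by
  refine ⟨DirectSum.of (fun n : ℤ => ((tildePre 𝒜 ℳ n).obj (op (ProjectiveSpectrum.basicOpen 𝒜 g)) : Type u))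
    ((i : ℤ) - k * d) (fracSect hg _ k i m (by ring)), ?_⟩
  rw [Ψ_of, ΦHom_eq hd hg (rep_fracSect hg _ k i m (by ring))]

omit [DirectSum.Decomposition ℳ] [SetLike.GradedSMul 𝒜 ℳ] [IsScalarTower R A M] [Module R M] in
theorem frac_add (g : A) (m m' : M) (k : ℕ) : frac g (m + m') k = frac g m k + frac g m' k := by
  rw [LocalizedModule.mk_add_mk, ← smul_add, LocalizedModule.mk_cancel_common_left]

/-- `m ↦ m / g^k` as an additive map. -/
noncomputable def fracHom (g : A) (k : ℕ) : M →+ LocalizedModule (Submonoid.powers g) M where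
  toFun m := frac g m k
  map_zero' := LocalizedModule.zero_mk _
  map_add' m m' := frac_add g m m' k

theorem Ψ_surjective {g : A} {d : ℕ} (hd : 0 < d) (hg : g ∈ 𝒜 d) :
    Function.Surjective (Ψ (ℳ := ℳ) hd hg) := by
  classical
  intro y
  induction y using LocalizedModule.induction_on with
  | h m s =>
    obtain ⟨s, k, rfl⟩ := s
    change frac g m k ∈ AddMonoidHom.mrange (Ψ (ℳ := ℳ) hd hg)
    rw [← DirectSum.sum_support_decompose ℳ m]
    have e : frac g (∑ i ∈ (DirectSum.decompose ℳ m).support, ((DirectSum.decompose ℳ m) i : M)) k =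
        ∑ i ∈ (DirectSum.decompose ℳ m).support, frac g ((DirectSum.decompose ℳ m) i : M) k := by
      exact map_sum (fracHom g k) _ _
    rw [e]
    exact AddSubmonoid.sum_mem _ (fun i _ => frac_homog_mem_range hd hg k i _)


omit [SetLike.GradedSMul 𝒜 ℳ] [IsScalarTower R A M] [Module A M] in
/-- Homogeneous elements of pairwise distinct degrees with zero sum all vanish. -/
theorem eq_zero_of_sum_eq_zero_of_mem {ι : Type*} (S : Finset ι) (b : ι → M) (e : ι → ℕ)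
    (he : Set.InjOn e S) (hb : ∀ n ∈ S, b n ∈ ℳ (e n)) (hsum : ∑ n ∈ S, b n = 0) :
    ∀ n ∈ S, b n = 0 := by
  classical
  intro n0 hn0
  have h1 : ((DirectSum.decompose ℳ (∑ n ∈ S, b n)) (e n0) : M) = 0 := by
    rw [hsum, DirectSum.decompose_zero]
    rfl
  rw [DirectSum.decompose_sum, DFinsupp.finsetSum_apply, AddSubmonoidClass.coe_finsetSum,
    Finset.sum_eq_single n0] at h1
  · rwa [DirectSum.decompose_of_mem_same ℳ (hb n0 hn0)] at h1
  · intro n hn hne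
    exact DirectSum.decompose_of_mem_ne ℳ (hb n hn) (fun h => hne (he hn hn0 h))
  · intro h
    exact absurd hn0 h

theorem Ψ_injective {g : A} {d : ℕ} (hd : 0 < d) (hg : g ∈ 𝒜 d) :
    Function.Injective (Ψ (ℳ := ℳ) hd hg) := by
  classical
  refine (injective_iff_map_eq_zero (Ψ (ℳ := ℳ) hd hg)).mpr ?_
  intro z hz
  choose k i m hrep using fun n : ℤ => exists_rep hd hg n (z n)
  set S := DFinsupp.support z with hS
  set K := ∑ n ∈ S, k n with hK
  have hkK : ∀ n ∈ S, k n ≤ K := fun n hn => Finset.single_le_sum (fun _ _ => Nat.zero_le _) hn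
  -- common denominator
  have hfrac : ∀ n ∈ S, ΦHom hd hg n (z n) = frac g (g ^ (K - k n) • (m n).1) K := by
    intro n hn
    rw [ΦHom_eq hd hg (hrep n), frac_eq_frac_iff]
    refine ⟨0, ?_⟩
    rw [← mul_smul (g ^ k n), ← pow_add, Nat.add_sub_cancel' (hkK n hn)]
  have hz' : Ψ hd hg z = frac g (∑ n ∈ S, g ^ (K - k n) • (m n).1) K := by
    conv_lhs => rw [← DirectSum.sum_support_of z]
    rw [map_sum]
    have e : frac g (∑ n ∈ S, g ^ (K - k n) • (m n).1) K =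
        ∑ n ∈ S, frac g (g ^ (K - k n) • (m n).1) K := map_sum (fracHom g K) _ _
    rw [e]
    refine Finset.sum_congr rfl (fun n hn => ?_)
    rw [Ψ_of, hfrac n hn]
  rw [hz', ← LocalizedModule.zero_mk (1 : Submonoid.powers g), LocalizedModule.mk_eq] at hz
  obtain ⟨⟨u, N, rfl⟩, hu⟩ := hz
  change g ^ N • (1 : Submonoid.powers g) • (∑ n ∈ S, g ^ (K - k n) • (m n).1) =
    g ^ N • _ • (0 : M) at hu
  rw [one_smul, smul_zero, smul_zero, Finset.smul_sum] at hu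
  -- degrees
  have hdeg : ∀ n : ℤ, k n ≤ K →
      (((N + (K - k n)) * d + i n : ℕ) : ℤ) = (N + K) * d + n := by
    intro n hn
    have h1 := (hrep n).1
    push_cast [Nat.cast_sub hn]
    rw [h1]
    ring
  have hmem : ∀ n ∈ S, g ^ N • g ^ (K - k n) • (m n).1 ∈ ℳ ((N + (K - k n)) * d + i n) := by
    intro n _
    rw [← mul_smul, ← pow_add]
    exact SetLike.GradedSMul.smul_mem (pow_mem_graded' hg _) (m n).2
  have hinj : Set.InjOn (fun n : ℤ => (N + (K - k n)) * d + i n) S := by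
    intro n hn n' hn' h
    have h1 := hdeg n (hkK n hn)
    have h2 := hdeg n' (hkK n' hn')
    have h' : (((N + (K - k n)) * d + i n : ℕ) : ℤ) = (((N + (K - k n')) * d + i n' : ℕ) : ℤ) :=
      congrArg _ h
    rw [h1, h2] at h'
    linarith
  have hall := eq_zero_of_sum_eq_zero_of_mem (ℳ := ℳ) S (fun n => g ^ N • g ^ (K - k n) • (m n).1)
    (fun n : ℤ => (N + (K - k n)) * d + i n) hinj hmem hu
  -- conclusion
  refine DFinsupp.ext fun n => ?_
  by_cases hn : n ∈ S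
  · have h0 : ΦHom hd hg n (z n) = 0 := by
      rw [hfrac n hn, ← LocalizedModule.zero_mk (1 : Submonoid.powers g),
        LocalizedModule.mk_eq]
      refine ⟨⟨g ^ N, N, rfl⟩, ?_⟩
      change g ^ N • (1 : Submonoid.powers g) • g ^ (K - k n) • (m n).1 = g ^ N • _ • (0 : M)
      rw [one_smul, smul_zero, smul_zero]
      exact hall n hn
    exact ΦHom_injective hd hg n (h0.trans (map_zero _).symm)
  · exact DFinsupp.notMem_support_iff.mp hn

/-- `⨁ₙ Γ(D_+(g), M(n)~) ≃+ M_g`. -/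
noncomputable def ΨEquiv {g : A} {d : ℕ} (hd : 0 < d) (hg : g ∈ 𝒜 d) :
    (⨁ n : ℤ, ((tildePre 𝒜 ℳ n).obj (op (ProjectiveSpectrum.basicOpen 𝒜 g)) : Type u)) ≃+
      LocalizedModule (Submonoid.powers g) M :=
  AddEquiv.ofBijective (Ψ hd hg) ⟨Ψ_injective hd hg, Ψ_surjective hd hg⟩


/-! ### The transition maps `M_g → M_{hg}` -/

section LocMap

omit [Module R M] [IsScalarTower R A M] [DirectSum.Decomposition ℳ] [SetLike.GradedSMul 𝒜 ℳ] in
theorem isUnit_algebraMap_of_mul (g g' h : A) (hgg' : g' = h * g) (s : Submonoid.powers g) :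
    IsUnit (algebraMap A (Module.End A (LocalizedModule (Submonoid.powers g') M)) s) := by
  obtain ⟨s, j, rfl⟩ := s
  have h1 : IsUnit (algebraMap A (Module.End A (LocalizedModule (Submonoid.powers g') M))
      ((⟨g' ^ j, ⟨j, rfl⟩⟩ : Submonoid.powers g') : A)) :=
    IsLocalizedModule.map_units (LocalizedModule.mkLinearMap (Submonoid.powers g') M) _
  have h2 : g' ^ j = h ^ j * g ^ j := by rw [hgg', mul_pow]
  change IsUnit (algebraMap A _ (g' ^ j)) at h1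
  rw [h2, map_mul] at h1
  exact ((Commute.isUnit_mul_iff (Algebra.commutes' _ _)).mp h1).2

variable (M) in
/-- The canonical map `M_g → M_{hg}`. -/
noncomputable def locMap (g g' h : A) (hgg' : g' = h * g) :
    LocalizedModule (Submonoid.powers g) M →ₗ[A] LocalizedModule (Submonoid.powers g') M :=
  LocalizedModule.lift (Submonoid.powers g) (LocalizedModule.mkLinearMap (Submonoid.powers g') M)
    (isUnit_algebraMap_of_mul g g' h hgg')

omit [Module R M] [IsScalarTower R A M] [DirectSum.Decomposition ℳ] [SetLike.GradedSMul 𝒜 ℳ] in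
theorem locMap_frac (g g' h : A) (hgg' : g' = h * g) (m : M) (k : ℕ) :
    locMap M g g' h hgg' (frac g m k) = frac g' (h ^ k • m) k := by
  change LocalizedModule.lift _ _ _ (LocalizedModule.mk m _) = _
  rw [LocalizedModule.lift_mk, Module.End.algebraMap_isUnit_inv_apply_eq_iff,
    LocalizedModule.mkLinearMap_apply]
  change LocalizedModule.mk m 1 = g ^ k • LocalizedModule.mk (h ^ k • m) _
  rw [LocalizedModule.smul'_mk, ← mul_smul, ← mul_pow, mul_comm g h, ← hgg']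
  exact (LocalizedModule.mk_cancel (⟨g' ^ k, ⟨k, rfl⟩⟩ : Submonoid.powers g') m).symm

omit [Module R M] [IsScalarTower R A M] [DirectSum.Decomposition ℳ] [SetLike.GradedSMul 𝒜 ℳ] in
theorem locMap_comp_mkLinearMap (g g' h : A) (hgg' : g' = h * g) :
    (locMap M g g' h hgg').comp (LocalizedModule.mkLinearMap (Submonoid.powers g) M) =
      LocalizedModule.mkLinearMap (Submonoid.powers g') M :=
  LocalizedModule.lift_comp _ _ _

end LocMap

/-! ### Naturality of `Ψ` -/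

omit [Module R M] [IsScalarTower R A M] in
theorem basicOpen_mul_le_right (h g : A) :
    ProjectiveSpectrum.basicOpen 𝒜 (h * g) ≤ ProjectiveSpectrum.basicOpen 𝒜 g := by
  rw [ProjectiveSpectrum.basicOpen_mul]
  exact inf_le_right

omit [DirectSum.Decomposition ℳ] [IsScalarTower R A M] in
theorem rep_res {g h : A} {d e : ℕ} (hg : g ∈ 𝒜 d) (hh : h ∈ 𝒜 e) {n : ℤ}
    {s : sect 𝒜 ℳ n (op (ProjectiveSpectrum.basicOpen 𝒜 g))}
    {k i : ℕ} {m : ℳ i} (hr : Rep g d n s k i m) :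
    ∃ hm : h ^ k • m.1 ∈ ℳ (k * e + i),
      Rep (h * g) (e + d) n (res 𝒜 ℳ n (homOfLE (basicOpen_mul_le_right (𝒜 := 𝒜) h g)).op s) k
        (k * e + i) ⟨h ^ k • m.1, hm⟩ := by
  refine ⟨SetLike.GradedSMul.smul_mem (pow_mem_graded' hh k) m.2, ?_, fun x => ?_⟩
  · have h1 := hr.1
    push_cast
    rw [h1]
    ring
  · have hx : (x : ProjectiveSpectrum 𝒜) ∈ ProjectiveSpectrum.basicOpen 𝒜 g :=
      basicOpen_mul_le_right (𝒜 := 𝒜) h g x.2
    have e1 := hr.2 ⟨x.1, hx⟩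
    change ((s.1 ⟨x.1, hx⟩ : tildeAt 𝒜 ℳ n x.1) : LocMod 𝒜 (M := M) x.1) = _
    refine e1.trans ?_
    rw [LocalizedModule.mk_eq]
    refine ⟨1, ?_⟩
    change (1 : x.1.asHomogeneousIdeal.toIdeal.primeCompl) • (h * g) ^ k • m.1 =
      (1 : x.1.asHomogeneousIdeal.toIdeal.primeCompl) • g ^ k • h ^ k • m.1
    rw [← mul_smul (g ^ k), mul_pow, mul_comm (g ^ k)]

theorem ΦHom_res {g h : A} {d e : ℕ} (hd : 0 < d) (hg : g ∈ 𝒜 d) (hh : h ∈ 𝒜 e) (n : ℤ)
    (s : sect 𝒜 ℳ n (op (ProjectiveSpectrum.basicOpen 𝒜 g))) :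
    ΦHom (Nat.add_pos_right e hd) (SetLike.mul_mem_graded hh hg) n
        (res 𝒜 ℳ n (homOfLE (basicOpen_mul_le_right (𝒜 := 𝒜) h g)).op s) =
      locMap M g (h * g) h rfl (ΦHom hd hg n s) := by
  obtain ⟨k, i, m, hr⟩ := exists_rep hd hg n s
  obtain ⟨hm, hr'⟩ := rep_res hg hh hr
  rw [ΦHom_eq hd hg hr, ΦHom_eq _ _ hr', locMap_frac]


/-! ### Versions over an arbitrary open equal to `D_+(g)` -/

variable (𝒜 ℳ) in
/-- `⨁ₙ Γ(W, M(n)~) ≃+ M_g` for `W = D_+(g)`. -/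
noncomputable def ΨW (W : Opens (ProjectiveSpectrum.top 𝒜)) (g : A) (d : ℕ) (hd : 0 < d)
    (hg : g ∈ 𝒜 d) (hW : W = ProjectiveSpectrum.basicOpen 𝒜 g) :
    (⨁ n : ℤ, ((tildePre 𝒜 ℳ n).obj (op W) : Type u)) ≃+
      LocalizedModule (Submonoid.powers g) M :=
  hW ▸ ΨEquiv hd hg

theorem ΨW_res (W W' : Opens (ProjectiveSpectrum.top 𝒜)) (g g' h : A) (d d' e : ℕ) (hd : 0 < d)
    (hg : g ∈ 𝒜 d) (hd' : 0 < d') (hg' : g' ∈ 𝒜 d') (hh : h ∈ 𝒜 e)
    (hW : W = ProjectiveSpectrum.basicOpen 𝒜 g) (hW' : W' = ProjectiveSpectrum.basicOpen 𝒜 g')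
    (hgg' : g' = h * g) (hdd' : d' = e + d) (i : op W ⟶ op W')
    (z : ⨁ n : ℤ, ((tildePre 𝒜 ℳ n).obj (op W) : Type u)) :
    ΨW 𝒜 ℳ W' g' d' hd' hg' hW' (DirectSum.map (fun n => ((tildePre 𝒜 ℳ n).map i).hom) z) =
      locMap M g g' h hgg' (ΨW 𝒜 ℳ W g d hd hg hW z) := by
  subst hgg' hdd' hW hW'
  have hi : i = (homOfLE (basicOpen_mul_le_right (𝒜 := 𝒜) h g)).op := Subsingleton.elim _ _
  subst hi
  change Ψ hd' hg' (DirectSum.map (fun n => ((tildePre 𝒜 ℳ n).map _).hom) z) =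
    locMap M g (h * g) h rfl (Ψ hd hg z)
  induction z using DirectSum.induction_on with
  | zero => rw [map_zero, map_zero, map_zero, map_zero]
  | of n s =>
    rw [DirectSum.map_of, Ψ_of, Ψ_of]
    exact ΦHom_res hd hg hh n s
  | add a b ha hb => rw [map_add, map_add, map_add, map_add, ha, hb]

end Groth.Agent.H88.ProjSect
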