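import Mathlib
import Groth.Prelude.Def_Coh
import Groth.Agent.H88.ProjSect

/-!
# Sections of `M~` over `D(g)` on `Spec A` and the localization `M_g`
-/

namespace Groth.Agent.H88.SpecSect

open CategoryTheory AlgebraicGeometry Opposite TopologicalSpace
open Groth.Agent.H88.ProjSect

universe u

variable {R : CommRingCat.{u}} (Mc : ModuleCat.{u} R)

/-- `Γ(D(g), M~) ≃+ M_g`. -/
noncomputable def Θ (g : R) :
    ((Coh.toAb (tilde Mc)).obj.obj (op (PrimeSpectrum.basicOpen g)) : Type u) ≃+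
      LocalizedModule (Submonoid.powers g) Mc :=
  (IsLocalizedModule.iso (Submonoid.powers g)
    (tilde.toOpen Mc (PrimeSpectrum.basicOpen g)).hom).symm.toAddEquiv

theorem Θ_res (g g' h : R) (hgg' : g' = h * g)
    (i : op (PrimeSpectrum.basicOpen g) ⟶ op (PrimeSpectrum.basicOpen g'))
    (t : ((Coh.toAb (tilde Mc)).obj.obj (op (PrimeSpectrum.basicOpen g)) : Type u)) :
    Θ Mc g' (((Coh.toAb (tilde Mc)).obj.map i).hom t) = locMap Mc g g' h hgg' (Θ Mc g t) := by
  obtain ⟨y, rfl⟩ := (Θ Mc g).symm.surjective t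
  rw [AddEquiv.apply_symm_apply]
  -- two linear maps out of `M_g`
  let L := IsLocalizedModule.iso (Submonoid.powers g)
    (tilde.toOpen Mc (PrimeSpectrum.basicOpen g)).hom
  let L' := IsLocalizedModule.iso (Submonoid.powers g')
    (tilde.toOpen Mc (PrimeSpectrum.basicOpen g')).hom
  let ρ : (modulesSpecToSheaf.obj (tilde Mc)).presheaf.obj (op (PrimeSpectrum.basicOpen g)) ⟶
      (modulesSpecToSheaf.obj (tilde Mc)).presheaf.obj (op (PrimeSpectrum.basicOpen g')) :=
    (modulesSpecToSheaf.obj (tilde Mc)).presheaf.map i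
  have key : (L'.symm.toLinearMap.comp (ρ.hom.comp L.toLinearMap)) = locMap Mc g g' h hgg' := by
    apply IsLocalizedModule.ext (Submonoid.powers g)
      (LocalizedModule.mkLinearMap (Submonoid.powers g) Mc)
      (isUnit_algebraMap_of_mul g g' h hgg')
    rw [locMap_comp_mkLinearMap]
    ext m
    change L'.symm (ρ.hom (L (LocalizedModule.mk m 1))) = LocalizedModule.mk m 1
    rw [IsLocalizedModule.iso_mk_one]
    exact IsLocalizedModule.iso_symm_apply (Submonoid.powers g')
      (tilde.toOpen Mc (PrimeSpectrum.basicOpen g')).hom m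
  exact LinearMap.congr_fun key y


/-- `Γ(W, M~) ≃+ M_g` for `W = D(g)`. -/
noncomputable def ΘW (W : (Spec R).Opens) (g : R) (hW : W = PrimeSpectrum.basicOpen g) :
    ((Coh.toAb (tilde Mc)).obj.obj (op W) : Type u) ≃+
      LocalizedModule (Submonoid.powers g) Mc :=
  hW ▸ Θ Mc g

theorem ΘW_res (W W' : (Spec R).Opens) (g g' h : R) (hW : W = PrimeSpectrum.basicOpen g)
    (hW' : W' = PrimeSpectrum.basicOpen g') (hgg' : g' = h * g) (i : op W ⟶ op W')
    (t : ((Coh.toAb (tilde Mc)).obj.obj (op W) : Type u)) :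
    ΘW Mc W' g' hW' (((Coh.toAb (tilde Mc)).obj.map i).hom t) =
      locMap Mc g g' h hgg' (ΘW Mc W g hW t) := by
  subst hW hW'
  exact Θ_res Mc g g' h hgg' i t

end Groth.Agent.H88.SpecSect
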