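import Mathlib
import Groth.Prelude.Def_Coh
import Groth.Prelude.Def_GrMod2
import Groth.Prelude.Def_ega3
import Groth.Agent.H88.ProjSect
import Groth.Agent.H88.SpecSect
import Groth.Agent.H88.CechDirectSum
import Groth.Agent.H88.CechCompare
import Groth.Agent.H88.KoszulCech
import Groth.Agent.H88.KoszulHZM
import Groth.Agent.H18.GrTildeQC
import Groth.Agent.Lead.Coh.LocTop

/-!
# `⨁ₙ H^p(D_+(f_1) ∪ … ∪ D_+(f_r), M(n)~)` as Koszul cohomology
-/

namespace Groth.Agent.H88.ProjKoszul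

open CategoryTheory Limits AlgebraicGeometry TopologicalSpace Opposite Abelian DirectSum
open Groth.Agent.Lead.Coh Groth.Agent.Lead.Cech
open Groth.Agent.H88.ProjSect Groth.Agent.H88.SpecSect

universe u

variable {R A : Type u} [CommRing R] [CommRing A] [Algebra R A] (𝒜 : ℕ → Submodule R A)
  [GradedAlgebra 𝒜] (fs : List A)
  {M : Type u} [AddCommGroup M] [Module R M] [Module A M] [IsScalarTower R A M]
  (ℳ : ℕ → Submodule R M) [DirectSum.Decomposition ℳ] [SetLike.GradedSMul 𝒜 ℳ]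

/-- The family `D_+(f_i)`. -/
noncomputable def projFam : ULift.{u} (Fin fs.length) → (Proj 𝒜).Opens :=
  fun i => Proj.basicOpen 𝒜 (fs.get i.down)

theorem iSup_projFam :
    iSup (projFam 𝒜 fs) = ⨆ i : Fin fs.length, Proj.basicOpen 𝒜 (fs.get i) := by
  apply le_antisymm
  · exact iSup_le fun i => le_iSup (fun i : Fin fs.length => Proj.basicOpen 𝒜 (fs.get i)) i.down
  · exact iSup_le fun i => le_iSup (projFam 𝒜 fs) ⟨i⟩

/-- The product of the `f_i` along `σ`. -/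
def gσ {k : ℕ} (σ : Fin (k + 1) → ULift.{u} (Fin fs.length)) : A := ∏ a, fs.get (σ a).down

/-- The degree of `gσ`. -/
def dσ (deg : Fin fs.length → ℕ) {k : ℕ} (σ : Fin (k + 1) → ULift.{u} (Fin fs.length)) : ℕ :=
  ∑ a, deg (σ a).down

theorem gσ_mem (deg : Fin fs.length → ℕ) (hdeg : ∀ i, fs.get i ∈ 𝒜 (deg i)) {k : ℕ}
    (σ : Fin (k + 1) → ULift.{u} (Fin fs.length)) : gσ fs σ ∈ 𝒜 (dσ fs deg σ) :=
  SetLike.prod_mem_graded 𝒜 _ _ (fun a _ => hdeg _)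

theorem dσ_pos (deg : Fin fs.length → ℕ) (hpos : ∀ i, 0 < deg i) {k : ℕ}
    (σ : Fin (k + 1) → ULift.{u} (Fin fs.length)) : 0 < dσ fs deg σ :=
  Finset.sum_pos (fun _ _ => hpos _) Finset.univ_nonempty

theorem gσ_face {k : ℕ} (σ : Fin (k + 2) → ULift.{u} (Fin fs.length)) (j : Fin (k + 2)) :
    gσ fs σ = fs.get (σ j).down * gσ fs (σ ∘ j.succAbove) :=
  Fin.prod_univ_succAbove _ j

theorem dσ_face (deg : Fin fs.length → ℕ) {k : ℕ} (σ : Fin (k + 2) → ULift.{u} (Fin fs.length))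
    (j : Fin (k + 2)) : dσ fs deg σ = deg (σ j).down + dσ fs deg (σ ∘ j.succAbove) :=
  Fin.sum_univ_succAbove _ j

theorem cechOpen_projFam {k : ℕ} (σ : Fin (k + 1) → ULift.{u} (Fin fs.length)) :
    cechOpen (X := Proj 𝒜) (projFam 𝒜 fs) σ = ProjectiveSpectrum.basicOpen 𝒜 (gσ fs σ) := by
  apply le_antisymm
  · intro x hx
    change gσ fs σ ∉ x.asHomogeneousIdeal.toIdeal
    intro hmem
    haveI := x.isPrime
    obtain ⟨a, -, ha⟩ := (Ideal.IsPrime.prod_mem_iff (p := x.asHomogeneousIdeal.toIdeal)).mp hmem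
    exact (cechOpen_le (X := Proj 𝒜) (projFam 𝒜 fs) σ a hx) ha
  · apply le_cechOpen
    intro a x hx
    change fs.get (σ a).down ∉ x.asHomogeneousIdeal
    intro hmem
    apply (ProjectiveSpectrum.mem_basicOpen 𝒜 _ x).mp hx
    change (∏ a, fs.get (σ a).down) ∈ x.asHomogeneousIdeal.toIdeal
    rw [← Finset.mul_prod_erase Finset.univ _ (Finset.mem_univ a)]
    exact Ideal.mul_mem_right _ _ hmem

theorem cechOpen_basicFam {k : ℕ} (σ : Fin (k + 1) → ULift.{u} (Fin fs.length)) :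
    cechOpen (X := Spec (CommRingCat.of A)) (basicFam (R := CommRingCat.of A) fs) σ =
      PrimeSpectrum.basicOpen (gσ fs σ) := by
  apply le_antisymm
  · intro x hx
    change gσ fs σ ∉ x.asIdeal
    intro hmem
    haveI := x.isPrime
    obtain ⟨a, -, ha⟩ := (Ideal.IsPrime.prod_mem_iff (p := x.asIdeal)).mp hmem
    exact (cechOpen_le (X := Spec (CommRingCat.of A)) (basicFam (R := CommRingCat.of A) fs) σ a hx)
      ha
  · apply le_cechOpen
    intro a x hx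
    change fs.get (σ a).down ∉ x.asIdeal
    intro hmem
    apply (PrimeSpectrum.mem_basicOpen _ x).mp hx
    change (∏ a, fs.get (σ a).down) ∈ x.asIdeal
    rw [← Finset.mul_prod_erase Finset.univ _ (Finset.mem_univ a)]
    exact Ideal.mul_mem_right _ _ hmem


theorem nonempty_directSum_congr {J : Type} [DecidableEq J] {β γ : J → Type u}
    [∀ j, AddCommGroup (β j)] [∀ j, AddCommGroup (γ j)] (e : ∀ j, Nonempty (β j ≃+ γ j)) :
    Nonempty ((⨁ j, β j) ≃+ (⨁ j, γ j)) := by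
  have e' : ∀ j, β j ≃+ γ j := fun j => (e j).some
  exact ⟨AddEquiv.ofBijective (DirectSum.map (fun j => (e' j).toAddMonoidHom))
    ⟨(DirectSum.map_injective _).mpr (fun j => (e' j).injective),
      (DirectSum.map_surjective _).mpr (fun j => (e' j).surjective)⟩⟩

section Main

variable (deg : Fin fs.length → ℕ) (hpos : ∀ i, 0 < deg i) (hdeg : ∀ i, fs.get i ∈ 𝒜 (deg i))

/-- The comparison between the Čech complex of `⨁ₙ M(n)~` for the `D_+(f_i)` on `Proj` and the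
Čech complex of `M~` for the `D(f_i)` on `Spec A`. -/
noncomputable def compat :
    CechCompat (X := Proj 𝒜) (Y := Spec (CommRingCat.of A)) (projFam 𝒜 fs)
      (basicFam (R := CommRingCat.of A) fs)
      (sumPresheaf (fun n : ℤ => (Coh.toAb (GrTilde.tilde 𝒜 ℳ n)).obj))
      (Coh.toAb (tilde (ModuleCat.of (CommRingCat.of A) M))).obj where
  θ k σ := AddEquiv.toAddCommGrpIso
    ((ΨW 𝒜 ℳ _ (gσ fs σ) (dσ fs deg σ) (dσ_pos fs deg hpos σ) (gσ_mem 𝒜 fs deg hdeg σ)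
      (cechOpen_projFam 𝒜 fs σ)).trans
      (ΘW (ModuleCat.of (CommRingCat.of A) M) _ (gσ fs σ) (cechOpen_basicFam fs σ)).symm)
  comm k σ j := by
    apply AddCommGrpCat.hom_ext
    apply AddMonoidHom.ext
    intro z
    apply (ΘW (ModuleCat.of (CommRingCat.of A) M) _ (gσ fs σ) (cechOpen_basicFam fs σ)).injective
    refine (ΘW_res (ModuleCat.of (CommRingCat.of A) M) _ _ (gσ fs (σ ∘ j.succAbove)) (gσ fs σ)
      (fs.get (σ j).down) (cechOpen_basicFam fs (σ ∘ j.succAbove)) (cechOpen_basicFam fs σ)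
      (gσ_face fs σ j) _ _).trans ?_
    refine Eq.trans ?_ (AddEquiv.apply_symm_apply _ _).symm
    refine Eq.trans (congrArg _ (AddEquiv.apply_symm_apply _ _)) ?_
    exact (ΨW_res (𝒜 := 𝒜) (ℳ := ℳ) _ _ (gσ fs (σ ∘ j.succAbove)) (gσ fs σ) (fs.get (σ j).down)
      (dσ fs deg (σ ∘ j.succAbove)) (dσ fs deg σ) (deg (σ j).down)
      (dσ_pos fs deg hpos _) (gσ_mem 𝒜 fs deg hdeg _) (dσ_pos fs deg hpos σ)
      (gσ_mem 𝒜 fs deg hdeg σ) (hdeg _) (cechOpen_projFam 𝒜 fs _) (cechOpen_projFam 𝒜 fs σ)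
      (gσ_face fs σ j) (dσ_face fs deg σ j) _ z).symm

end Main


theorem acyc_projFam (deg : Fin fs.length → ℕ) (hpos : ∀ i, 0 < deg i)
    (hdeg : ∀ i, fs.get i ∈ 𝒜 (deg i)) (n : ℤ) :
    Acyc (X := (Proj 𝒜).toTopCat) (projFam 𝒜 fs) (Coh.toAb (GrTilde.tilde 𝒜 ℳ n)) := by
  haveI := Groth.Agent.H18.tilde_isQuasicoherent 𝒜 ℳ n
  intro p' σ q x
  have h : IsAffineOpen (cechOpen (X := Proj 𝒜) (projFam 𝒜 fs) σ) := by
    rw [cechOpen_projFam]
    exact Proj.isAffineOpen_basicOpen 𝒜 (gσ fs σ) (gσ_mem 𝒜 fs deg hdeg σ) (dσ_pos fs deg hpos σ)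
  exact hVanish_of_isAffineOpen (Proj 𝒜) (GrTilde.tilde 𝒜 ℳ n) h q x

/-- `⨁ₙ H^p(⋃ D_+(f_i), M(n)~) ≃+ colim_m H^{p+1}(f^m, M)` for `p ≥ 1`. -/
theorem nonempty_directSum_HHon_equiv_koszulHLim
    (hfs : ∀ a ∈ fs, ∃ d : ℕ, 0 < d ∧ a ∈ 𝒜 d) (p : ℕ) (hp : 1 ≤ p) :
    Nonempty (DirectSum ℤ (fun n : ℤ => Coh.HHon (Proj 𝒜) (GrTilde.tilde 𝒜 ℳ n)
        (⨆ i : Fin fs.length, Proj.basicOpen 𝒜 (fs.get i)) p) ≃+
      CohIII.koszulHLim fs (ModuleCat.of A M) (p + 1)) := by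
  have h : ∀ i : Fin fs.length, ∃ d : ℕ, 0 < d ∧ fs.get i ∈ 𝒜 d :=
    fun i => hfs _ (List.get_mem _ _)
  choose deg hpos hdeg using h
  -- each summand is Čech cohomology
  have hA : ∀ n : ℤ, Nonempty (Coh.HHon (Proj 𝒜) (GrTilde.tilde 𝒜 ℳ n)
      (⨆ i : Fin fs.length, Proj.basicOpen 𝒜 (fs.get i)) p ≃+
      (((K (X := Proj 𝒜) (projFam 𝒜 fs) (Coh.toAb (GrTilde.tilde 𝒜 ℳ n)).obj).homology p :
        AddCommGrpCat.{u}) : Type u)) := by
    intro n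
    obtain ⟨e1⟩ := nonempty_addEquiv_HHon_EM (GrTilde.tilde 𝒜 ℳ n)
      (⨆ i : Fin fs.length, Proj.basicOpen 𝒜 (fs.get i)) p
    obtain ⟨e2⟩ := leray (X := (Proj 𝒜).toTopCat) (projFam 𝒜 fs) p
      (Coh.toAb (GrTilde.tilde 𝒜 ℳ n)) (acyc_projFam 𝒜 fs ℳ deg hpos hdeg n)
    obtain ⟨e3⟩ := nonempty_ext_equiv_of_open_eq (T := (Proj 𝒜).toTopCat)
      (Coh.toAb (GrTilde.tilde 𝒜 ℳ n)) (iSup_projFam 𝒜 fs) p
    exact ⟨e1.trans (e2.trans e3).symm⟩
  obtain ⟨eA⟩ := nonempty_directSum_congr hA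
  obtain ⟨eB⟩ := nonempty_directSum_cechH_sumPresheaf_equiv (X := Proj 𝒜) (projFam 𝒜 fs)
    (fun n : ℤ => (Coh.toAb (GrTilde.tilde 𝒜 ℳ n)).obj) p
  obtain ⟨eC⟩ := (compat 𝒜 fs ℳ deg hpos hdeg).nonempty_homology_equiv p
  obtain ⟨eD⟩ := nonempty_cechH_basicFam_equiv_HZc (R := CommRingCat.of A) fs
    (tilde (ModuleCat.of (CommRingCat.of A) M)) p hp
  obtain ⟨eE⟩ := nonempty_HZM_tilde_equiv_koszulHLim (CommRingCat.of A) fs
    (ModuleCat.of (CommRingCat.of A) M) (p + 1)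
  exact ⟨eA.trans (eB.trans (eC.trans (eD.trans eE)))⟩

end Groth.Agent.H88.ProjKoszul
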