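import Groth.Agent.H20.RelProj.PsiChart
import Groth.Agent.H18.ProjSpaceVanish
import Groth.Agent.H18.TwistTensor
import Groth.Agent.H18.TwistTensor2
import Groth.Agent.H18.TwistPow
import Groth.Agent.H67.FinTwistBC
import Groth.Agent.H44.OmegaSpecAux
import Groth.Agent.H45.KFlat.Associator
import Groth.Agent.H30.AffinePush
import Groth.Agent.S0012
import Groth.Agent.Lead.Coh.LocTop
import Groth.Agent.H5.PullbackTensor
import Groth.Agent.H5.PullbackUnit
import Groth.Prelude.Def_SecTwist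
import Groth.Prelude.Def_PicGrp
import Groth.Prelude.Def_Twist2

/-!
# Higher direct images of `O(d)` along `P^r_Y ⟶ Y` (helper88)

* `nonempty_iso_of_inverse`: two modules with the same tensor inverse are isomorphic;
* `nonempty_pullback_projMap_twist_iso_int`: `(P^n_B ⟶ P^n_A)^* O(d) ≅ O(d)` for every integer `d`;
* `subsingleton_HU_twistOver`: `H^q(f⁻¹V, O(d)) = 0` for `V ⊆ Y` affine open, outside the two
  exceptional ranges;
* `isZero_RpushAb_twistOver`: `R^i f_* O(d) = 0` outside the two exceptional ranges.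
-/

set_option autoImplicit false
universe u
open CategoryTheory CategoryTheory.Limits AlgebraicGeometry TopologicalSpace Opposite

namespace Groth.Agent.H88.ProjOverVanish

section Inverse

variable {X : Scheme.{u}}

/-- the associator of `tensorMod` -/
noncomputable def assoc (A B D : X.Modules) :
    CohB1.tensorMod (CohB1.tensorMod A B) D ≅ CohB1.tensorMod A (CohB1.tensorMod B D) :=
  Groth.Agent.H45.tensorAssocApp (C := Opens X) (J := Opens.grothendieckTopology X) X.sheaf A B D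

/-- two modules with a common tensor inverse are isomorphic -/
theorem nonempty_iso_of_inverse {L L' N : X.Modules}
    (e : CohB1.tensorMod L N ≅ Coh.structureModule X)
    (e' : CohB1.tensorMod L' N ≅ Coh.structureModule X) : Nonempty (L ≅ L') :=
  ⟨(SecTwist.unitorR L).symm ≪≫
    PicGrp.tensorModIso (Iso.refl L) (e'.symm ≪≫ Groth.Agent.H18.tensorModComm L' N) ≪≫
    (assoc L N L').symm ≪≫
    PicGrp.tensorModIso e (Iso.refl L') ≪≫
    Groth.Agent.H18.tensorModComm _ _ ≪≫ SecTwist.unitorR L'⟩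

end Inverse

section Twist

open Groth.Agent.H97.ProjChart Groth.Agent.H67.Fin

variable (A B : Type u) [CommRing A] [CommRing B] [Algebra A B] (n : ℕ)

/-- `O(-m) ⊗ O(m) ≅ O` on `P^n_A` -/
theorem nonempty_twist_neg_tensor_iso (m : ℕ) :
    Nonempty (CohB1.tensorMod (Twist.twistProjSpace n A (-(m : ℤ)))
      (Twist.twistProjSpace n A (m : ℤ)) ≅ Coh.structureModule (CohB1.ProjSpace n A)) := by
  obtain ⟨e1⟩ := Groth.Agent.H18.TwMul.nonempty_tensorMod_tilde_twist_iso (CohB1.polyGrading n A)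
    (CohB1.polyGrading n A) (hcov_polyGrading A n) (-(m : ℤ)) (m : ℤ) 0 (by ring)
  obtain ⟨e2⟩ := Groth.Agent.H18.nonempty_twist_zero_iso (𝒜 := CohB1.polyGrading n A)
  exact ⟨e1 ≪≫ e2⟩

/-- `(P^n_B ⟶ P^n_A)^* O(d) ≅ O(d)` for every integer `d` -/
theorem nonempty_pullback_projMap_twist_iso_int (d : ℤ) :
    Nonempty ((Scheme.Modules.pullback (projMap A B n)).obj (Twist.twistProjSpace n A d) ≅
      Twist.twistProjSpace n B d) := by
  rcases le_or_gt 0 d with hd | hd
  · obtain ⟨m, rfl⟩ := Int.eq_ofNat_of_zero_le hd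
    exact nonempty_pullback_projMap_twist_iso A B n m
  · obtain ⟨m, rfl⟩ : ∃ m : ℕ, d = -(m : ℤ) := ⟨(-d).toNat, by omega⟩
    obtain ⟨eA⟩ := nonempty_twist_neg_tensor_iso A n m
    obtain ⟨eB⟩ := nonempty_twist_neg_tensor_iso B n m
    obtain ⟨eN⟩ := nonempty_pullback_projMap_twist_iso A B n m
    refine nonempty_iso_of_inverse (N := Twist.twistProjSpace n B (m : ℤ)) ?_ eB
    exact PicGrp.tensorModIso (Iso.refl _) eN.symm ≪≫
      (Groth.Agent.H5.PullbackTensor.pullbackTensorIso (projMap A B n) _ _).symm ≪≫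
      (Scheme.Modules.pullback (projMap A B n)).mapIso eA ≪≫
      Groth.Agent.H5.PullbackUnit.pullbackUnitIso (projMap A B n)

end Twist

section Chart

open Groth.Agent.H20.RelProj Groth.Agent.H97.ProjChart

attribute [local instance] ulZAlgebra

variable (Y : Scheme.{u}) (r : ℕ) (d : ℤ)

instance isQCoh_twistOver : Coh.IsQCoh (Twist.twistOver r Y d) := by
  unfold Twist.twistOver
  haveI : (Twist.twistProjSpace r (ULift.{u} ℤ) d).IsQuasicoherent :=
    Groth.Agent.H18.PSL.isQCoh_twistProjSpace r (ULift.{u} ℤ) d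
  exact Groth.Agent.H44.isQuasicoherent_pullback _ _

/-- the pull back of `O(d)` on `P^r_Y` to the chart `P^r_{Γ(Y,V)}` is `O(d)` -/
theorem nonempty_pullback_psi_twistOver_iso (V : Y.Opens) (hV : IsAffineOpen V) :
    Nonempty ((Scheme.Modules.pullback (psi r V hV)).obj (Twist.twistOver r Y d) ≅
      Twist.twistProjSpace r Γ(Y, V) d) := by
  obtain ⟨e⟩ := nonempty_pullback_projMap_twist_iso_int (ULift.{u} ℤ) Γ(Y, V) r d
  exact ⟨(Scheme.Modules.pullbackComp (psi r V hV) (fstP r Y)).app _ ≪≫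
    (Scheme.Modules.pullbackCongr (psi_fst r V hV)).app _ ≪≫ e⟩

/-- cohomology vanishing is invariant under isomorphisms of modules -/
theorem subsingleton_HH_of_iso' {X : Scheme.{u}} {M M' : X.Modules} (e : M ≅ M') (p : ℕ)
    (h : Subsingleton (Coh.HH X M p)) : Subsingleton (Coh.HH X M' p) := by
  let E := (Sheaf.functorH (Opens.grothendieckTopology X) p).mapIso
    ((SheafOfModules.toSheaf X.ringCatSheaf).mapIso e)
  exact @Equiv.subsingleton _ _ E.addCommGroupIsoToAddEquiv.symm.toEquiv h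

/-- `H^q(f⁻¹V, O(d)) = 0` for `V ⊆ Y` affine open, outside the two exceptional ranges -/
theorem subsingleton_HU_twistOver (V : Y.Opens) (hV : IsAffineOpen V) (q : ℕ)
    (h₀ : ¬ (q = 0 ∧ 0 ≤ d)) (hn : ¬ (q = r ∧ d ≤ -((r : ℤ) + 1))) :
    Subsingleton (CohTop.HU (Coh.toAb (Twist.twistOver r Y d)) q
      ((CohB1.ProjSpaceOver.toBase r Y) ⁻¹ᵁ V)) := by
  let W : (CohB1.ProjSpaceOver r Y).Opens := (CohB1.ProjSpaceOver.toBase r Y) ⁻¹ᵁ V
  let M := Twist.twistOver r Y d
  have hrange : Set.range (psi r V hV).base = Set.range W.ι.base := by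
    rw [Scheme.Opens.range_ι, ← Scheme.Hom.coe_opensRange, opensRange_psi]
  let e : CohB1.ProjSpace r Γ(Y, V) ≅ (W : Scheme.{u}) :=
    IsOpenImmersion.isoOfRangeEq (psi r V hV) W.ι hrange
  have he : e.hom ≫ W.ι = psi r V hV := IsOpenImmersion.isoOfRangeEq_hom_fac _ _ _
  have h1 := Groth.Agent.H18.PSL.subsingleton_HH_twist r Γ(Y, V) d q h₀ hn
  let N : (W : Scheme.{u}).Modules := (Scheme.Modules.pullback W.ι).obj M
  haveI : Coh.IsQCoh N := inferInstanceAs (Coh.IsQCoh ((Scheme.Modules.pullback W.ι).obj M))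
  obtain ⟨e3⟩ := Groth.Agent.S0012.result e.inv N q
  obtain ⟨e0⟩ := nonempty_pullback_psi_twistOver_iso Y r d V hV
  have iso : (Coh.push e.inv).obj N ≅ Twist.twistProjSpace r Γ(Y, V) d :=
    ((Groth.Agent.H44.pullbackInvIsoPushforward e.symm).app N).symm ≪≫
      (Scheme.Modules.pullbackComp e.hom W.ι).app M ≪≫
      (Scheme.Modules.pullbackCongr he).app M ≪≫ e0
  have h2 : Subsingleton (Coh.HH (CohB1.ProjSpace r Γ(Y, V)) ((Coh.push e.inv).obj N) q) :=
    subsingleton_HH_of_iso' iso.symm q h1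
  have h3 : Subsingleton (Coh.HH (W : Scheme.{u}) N q) := @Equiv.subsingleton _ _ e3.toEquiv h2
  have h4 : Subsingleton (Coh.HHon (CohB1.ProjSpaceOver r Y) M W q) :=
    subsingleton_HH_of_iso' ((Scheme.Modules.restrictFunctorIsoPullback W.ι).app M).symm q h3
  obtain ⟨e4⟩ := Groth.Agent.Lead.Coh.nonempty_addEquiv_HHon_EM M W q
  exact @Equiv.subsingleton _ _ e4.symm.toEquiv h4

end Chart

section Main

variable {X : TopCat.{u}}

/-- a sheaf of abelian groups whose sections over the members of a basis vanish is zero -/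
lemma isZero_of_forall_basis (B : Set (Opens X)) (hB : Opens.IsBasis B)
    (G : CohTop.Ab X) (hsec : ∀ V ∈ B, ∀ s : G.obj.obj (op V), s = 0) : IsZero G := by
  rw [IsZero.iff_id_eq_zero]
  apply Sheaf.hom_ext
  apply NatTrans.ext
  funext W
  ext s
  obtain ⟨W⟩ := W
  have hs0 : s = 0 := by
    apply TopCat.Presheaf.IsSheaf.section_ext
      ((TopCat.Presheaf.isSheaf_iff_isSheaf_comp (forget AddCommGrpCat) G.obj).1 G.property)
    intro x hx
    obtain ⟨V, hVB, hxV, hVW⟩ := Opens.isBasis_iff_nbhd.1 hB hx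
    refine ⟨V, hVW, hxV, ?_⟩
    exact (hsec V hVB _).trans (hsec V hVB _).symm
  rw [hs0]
  simp

/-- sections over `W` vanish if `H^0(W, F) = 0` -/
lemma eq_zero_of_subsingleton_HU (F : CohTop.Ab X) (W : Opens X)
    (h : Subsingleton (CohTop.HU F 0 W)) (s : F.obj.obj (op W)) : s = 0 := by
  have h1 : (Abelian.Ext.mk₀ (CohFree.ofSect (Opens.grothendieckTopology X) W F s) :
        CohTop.HU F 0 W) =
      Abelian.Ext.mk₀ (CohFree.ofSect (Opens.grothendieckTopology X) W F 0) :=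
    @Subsingleton.elim _ h _ _
  have h2 := (Abelian.Ext.mk₀_bijective _ _).1 h1
  have h3 := congrArg (CohFree.evalGen (Opens.grothendieckTopology X) W F) h2
  rw [CohFree.evalGen_ofSect, CohFree.evalGen_ofSect] at h3
  exact h3

end Main

/-- **`R^i f_* O(d) = 0` on `P^r_Y ⟶ Y`** unless `i = 0, d ≥ 0` or `i = r, d ≤ -(r+1)`. -/
theorem isZero_RpushAb_twistOver (Y : Scheme.{u}) (r : ℕ) (i : ℕ) (d : ℤ)
    (h : ¬ ((i = 0 ∧ 0 ≤ d) ∨ (i = r ∧ d ≤ -((r : ℤ) + 1)))) :
    IsZero ((Coh.RpushAb (CohB1.ProjSpaceOver.toBase r Y) i).obj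
      (Coh.toAb (Twist.twistOver r Y d))) := by
  have h₀ : ¬ (i = 0 ∧ 0 ≤ d) := fun h' => h (Or.inl h')
  have hn : ¬ (i = r ∧ d ≤ -((r : ℤ) + 1)) := fun h' => h (Or.inr h')
  have hvan : ∀ V ∈ Y.affineOpens, Subsingleton (CohTop.HU (Coh.toAb (Twist.twistOver r Y d)) i
      ((Opens.map (CohB1.ProjSpaceOver.toBase r Y).base).obj V)) :=
    fun V hV => subsingleton_HU_twistOver Y r d V hV i h₀ hn
  rcases Nat.eq_zero_or_pos i with rfl | hi
  · refine IsZero.of_iso ?_ ((Coh.pushAb (CohB1.ProjSpaceOver.toBase r Y)).rightDerivedZeroIsoSelf.app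
      (Coh.toAb (Twist.twistOver r Y d)))
    refine isZero_of_forall_basis Y.affineOpens Y.isBasis_affineOpens _ (fun V hV s => ?_)
    exact eq_zero_of_subsingleton_HU (Coh.toAb (Twist.twistOver r Y d))
      ((Opens.map (CohB1.ProjSpaceOver.toBase r Y).base).obj V) (hvan V hV) s
  · obtain ⟨j, rfl⟩ : ∃ j, i = j + 1 := ⟨i - 1, by omega⟩
    exact Groth.Agent.H30.LocalExact.isZero_Rpush_of_basis (CohB1.ProjSpaceOver.toBase r Y).base
      (Coh.toAb (Twist.twistOver r Y d)) j Y.affineOpens Y.isBasis_affineOpens hvan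

end Groth.Agent.H88.ProjOverVanish
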