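import Mathlib

set_option autoImplicit false

open RingTheory.Sequence Function

namespace Groth.Agent.H88

universe u
variable {R : Type*} [CommRing R]

lemma quotSMulTop_map_injective {M' M M'' : Type*} [AddCommGroup M'] [AddCommGroup M]
    [AddCommGroup M''] [Module R M'] [Module R M] [Module R M''] (r : R)
    {f : M' →ₗ[R] M} {g : M →ₗ[R] M''} (hf : Injective f) (hfg : Exact f g)
    (hr : IsSMulRegular M'' r) : Injective (QuotSMulTop.map r f) := by
  rw [injective_iff_map_eq_zero]
  intro x hx
  obtain ⟨x, rfl⟩ := Submodule.Quotient.mk_surjective _ x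
  rw [QuotSMulTop.map_apply_mk, Submodule.Quotient.mk_eq_zero,
    Submodule.mem_smul_pointwise_iff_exists] at hx
  obtain ⟨y, -, hy⟩ := hx
  have h1 : r • g y = r • (0 : M'') := by
    rw [← map_smul, hy, smul_zero]; exact hfg.apply_apply_eq_zero x
  have h2 : g y = 0 := hr h1
  obtain ⟨x', hx'⟩ := (hfg y).mp h2
  have : x = r • x' := hf (by rw [map_smul, hx', hy])
  rw [Submodule.Quotient.mk_eq_zero, Submodule.mem_smul_pointwise_iff_exists]
  exact ⟨x', trivial, this.symm⟩

/-- weak regularity passes to the middle term of a short exact sequence. -/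
theorem isWeaklyRegular_of_shortExact (rs : List R) :
    ∀ {M' M M'' : Type u} [AddCommGroup M'] [AddCommGroup M] [AddCommGroup M'']
      [Module R M'] [Module R M] [Module R M''] (f : M' →ₗ[R] M) (g : M →ₗ[R] M''),
      Injective f → Exact f g → Surjective g →
      IsWeaklyRegular M' rs → IsWeaklyRegular M'' rs → IsWeaklyRegular M rs := by
  induction rs with
  | nil =>
    intro M' M M'' _ _ _ _ _ _ f g _ _ _ _ _
    exact IsWeaklyRegular.nil R M
  | cons r rs ih =>
    intro M' M M'' _ _ _ _ _ _ f g hf hfg hg h' h''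
    rw [isWeaklyRegular_cons_iff] at h' h'' ⊢
    refine ⟨?_, ih (QuotSMulTop.map r f) (QuotSMulTop.map r g)
      (quotSMulTop_map_injective r hf hfg h''.1) (QuotSMulTop.map_exact r hfg hg)
      (QuotSMulTop.map_surjective r hg) h'.2 h''.2⟩
    exact isSMulRegular_of_range_eq_ker hf hfg.linearMap_ker_eq.symm h'.1 h''.1

section mulHead

variable {M : Type u} [AddCommGroup M] [Module R M]

/-- multiplication by `b` induces `M/cM → M/bcM`. -/
noncomputable def mulQuot (b c : R) : QuotSMulTop c M →ₗ[R] QuotSMulTop (b * c) M :=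
  Submodule.mapQ _ _ (LinearMap.lsmul R M b) (by
    intro m hm
    rw [Submodule.mem_smul_pointwise_iff_exists] at hm
    obtain ⟨m', -, rfl⟩ := hm
    rw [Submodule.mem_comap, Submodule.mem_smul_pointwise_iff_exists]
    exact ⟨m', trivial, by simp [mul_smul, smul_comm c b m']⟩)

/-- the projection `M/bcM → M/bM`. -/
noncomputable def projQuot (b c : R) : QuotSMulTop (b * c) M →ₗ[R] QuotSMulTop b M :=
  Submodule.mapQ _ _ LinearMap.id (by
    intro m hm
    rw [Submodule.mem_smul_pointwise_iff_exists] at hm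
    obtain ⟨m', -, rfl⟩ := hm
    rw [Submodule.mem_comap, Submodule.mem_smul_pointwise_iff_exists]
    exact ⟨c • m', trivial, by simp [mul_smul]⟩)

lemma mulQuot_mk (b c : R) (m : M) :
    mulQuot b c (Submodule.Quotient.mk m : QuotSMulTop c M) = Submodule.Quotient.mk (b • m) := rfl

lemma projQuot_mk (b c : R) (m : M) :
    projQuot b c (Submodule.Quotient.mk m : QuotSMulTop (b * c) M) = Submodule.Quotient.mk m := rfl

lemma mulQuot_injective (b c : R) (hb : IsSMulRegular M b) :
    Injective (mulQuot (M := M) b c) := by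
  rw [injective_iff_map_eq_zero]
  intro x hx
  obtain ⟨x, rfl⟩ := Submodule.Quotient.mk_surjective _ x
  rw [mulQuot_mk, Submodule.Quotient.mk_eq_zero, Submodule.mem_smul_pointwise_iff_exists] at hx
  obtain ⟨y, -, hy⟩ := hx
  rw [mul_smul] at hy
  have : c • y = x := hb hy
  rw [Submodule.Quotient.mk_eq_zero, Submodule.mem_smul_pointwise_iff_exists]
  exact ⟨y, trivial, this⟩

lemma projQuot_surjective (b c : R) : Surjective (projQuot (M := M) b c) := by
  intro x
  obtain ⟨x, rfl⟩ := Submodule.Quotient.mk_surjective _ x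
  exact ⟨Submodule.Quotient.mk x, rfl⟩

lemma mulQuot_projQuot_exact (b c : R) :
    Exact (mulQuot (M := M) b c) (projQuot (M := M) b c) := by
  intro x
  obtain ⟨x, rfl⟩ := Submodule.Quotient.mk_surjective _ x
  rw [projQuot_mk, Submodule.Quotient.mk_eq_zero, Submodule.mem_smul_pointwise_iff_exists]
  constructor
  · rintro ⟨y, -, rfl⟩
    exact ⟨Submodule.Quotient.mk y, rfl⟩
  · rintro ⟨y, hy⟩
    obtain ⟨y, rfl⟩ := Submodule.Quotient.mk_surjective _ y
    rw [mulQuot_mk, Submodule.Quotient.eq, Submodule.mem_smul_pointwise_iff_exists] at hy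
    obtain ⟨z, -, hz⟩ := hy
    refine ⟨y - c • z, trivial, ?_⟩
    rw [smul_sub, ← mul_smul, hz]
    abel

/-- if `b :: rs` and `c :: rs` are weakly regular then so is `(b * c) :: rs`. -/
theorem isWeaklyRegular_mul_cons {b c : R} {rs : List R}
    (hb : IsWeaklyRegular M (b :: rs)) (hc : IsWeaklyRegular M (c :: rs)) :
    IsWeaklyRegular M ((b * c) :: rs) := by
  rw [isWeaklyRegular_cons_iff] at hb hc ⊢
  refine ⟨hb.1.mul hc.1, ?_⟩
  exact isWeaklyRegular_of_shortExact rs (mulQuot b c) (projQuot b c)
    (mulQuot_injective b c hb.1) (mulQuot_projQuot_exact b c) (projQuot_surjective b c)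
    hc.2 hb.2

theorem isWeaklyRegular_pow_cons {a : R} {rs : List R}
    (h : IsWeaklyRegular M (a :: rs)) : ∀ k : ℕ, 1 ≤ k → IsWeaklyRegular M ((a ^ k) :: rs) := by
  intro k hk
  induction k, hk using Nat.le_induction with
  | base => simpa using h
  | succ k hk ih =>
    rw [pow_succ]
    exact isWeaklyRegular_mul_cons ih h

end mulHead

/-- powers of a weakly regular sequence form a weakly regular sequence. -/
theorem isWeaklyRegular_ofFn_pow (n : ℕ) :
    ∀ {M : Type u} [AddCommGroup M] [Module R M] (f : Fin n → R) (v : Fin n → ℕ),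
      (∀ i, 1 ≤ v i) → IsWeaklyRegular M (List.ofFn f) →
      IsWeaklyRegular M (List.ofFn fun i => f i ^ v i) := by
  induction n with
  | zero =>
    intro M _ _ f v _ _
    simp only [List.ofFn_zero]
    exact IsWeaklyRegular.nil R M
  | succ n ih =>
    intro M _ _ f v hv hf
    rw [List.ofFn_succ] at hf ⊢
    have h1 := isWeaklyRegular_pow_cons hf (v 0) (hv 0)
    rw [isWeaklyRegular_cons_iff] at h1 ⊢
    exact ⟨h1.1, ih (fun i => f i.succ) (fun i => v i.succ) (fun i => hv i.succ) h1.2⟩

end Groth.Agent.H88
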