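import Mathlib
import Groth.Agent.H1.CSADim

/-!
# The centralizer of a regular separable element of a central simple algebra

* `finrank_centralizer_le`: an endomorphism `f` of a finite-dimensional vector space whose minimal
  polynomial splits, is separable and has degree `dim V` has a centralizer of dimension `≤ dim V`.
* `mem_span_pow_of_commute`: in a central simple algebra of dimension `r²`, an element `x` with
  separable minimal polynomial of degree `r` has centralizer spanned by `1, x, …, x^(r-1)`.
-/

set_option autoImplicit false

open TensorProduct Polynomial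

namespace Groth.Agent.H88.RegularElt

universe u v w

section F0

variable {K : Type u} [Field K] {V : Type v} [AddCommGroup V] [Module K V] [FiniteDimensional K V]

/-- The centralizer of an endomorphism, as a submodule. -/
def centralizer (f : Module.End K V) : Submodule K (Module.End K V) :=
  LinearMap.ker (LinearMap.mulLeft K f - LinearMap.mulRight K f)

lemma mem_centralizer (f g : Module.End K V) : g ∈ centralizer f ↔ f * g = g * f := by
  simp [centralizer, LinearMap.mem_ker, sub_eq_zero]

/-- An endomorphism with `dim V` distinct eigenvalues has a small centralizer. -/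
theorem finrank_centralizer_le (f : Module.End K V) (hsep : (minpoly K f).Separable)
    (hsplit : (minpoly K f).Splits)
    (hdeg : (minpoly K f).natDegree = Module.finrank K V) :
    Module.finrank K (centralizer f) ≤ Module.finrank K V := by
  classical
  set s : Finset K := (minpoly K f).roots.toFinset with hs
  have hcard : s.card = Module.finrank K V := by
    rw [hs, Multiset.toFinset_card_of_nodup (Polynomial.nodup_roots hsep), ← hdeg]
    exact hsplit.natDegree_eq_card_roots.symm
  -- eigenvectors
  have hev : ∀ μ : s, ∃ v, f.HasEigenvector (μ : K) v := by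
    intro μ
    have hμ : (minpoly K f).IsRoot (μ : K) :=
      Polynomial.isRoot_of_mem_roots (Multiset.mem_toFinset.mp μ.2)
    exact (Module.End.hasEigenvalue_of_isRoot hμ).exists_hasEigenvector
  choose v hv using hev
  have hli : LinearIndependent K v :=
    f.eigenvectors_linearIndependent' (fun μ : s => (μ : K)) Subtype.coe_injective v hv
  have hcard' : Fintype.card s = Module.finrank K V := by
    rw [Fintype.card_coe, hcard]
  rcases isEmpty_or_nonempty s with hempty | hne
  · have h0 : Module.finrank K V = 0 := by
      rw [← hcard', Fintype.card_eq_zero]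
    have hsub : Subsingleton V := (Module.finrank_zero_iff (R := K)).mp h0
    have hsub' : Subsingleton (centralizer f) :=
      ⟨fun a b => Subtype.ext (LinearMap.ext fun x => Subsingleton.elim _ _)⟩
    rw [Module.finrank_zero_of_subsingleton]
    exact Nat.zero_le _
  let b : Module.Basis s K V := basisOfLinearIndependentOfCardEqFinrank hli hcard'
  have hb : ∀ μ, b μ = v μ := fun μ => by simp [b]
  -- the coefficient map
  let Φ : centralizer f →ₗ[K] (s → K) :=
    { toFun := fun g μ => b.repr ((g : Module.End K V) (v μ)) μ
      map_add' := by intro g h; ext μ; simp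
      map_smul' := by intro c g; ext μ; simp }
  have hΦ : Function.Injective Φ := by
    rw [← LinearMap.ker_eq_bot, LinearMap.ker_eq_bot']
    intro g hg
    have hcomm : f * (g : Module.End K V) = (g : Module.End K V) * f :=
      (mem_centralizer f g).mp g.2
    -- `g (v μ)` is a multiple of `v μ`
    have hzero : ∀ μ, (g : Module.End K V) (v μ) = 0 := by
      intro μ
      set w := (g : Module.End K V) (v μ) with hw
      have hfw : f w = (μ : K) • w := by
        have h1 : f w = (f * (g : Module.End K V)) (v μ) := rfl
        rw [h1, hcomm, Module.End.mul_apply, (hv μ).apply_eq_smul, map_smul]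
      -- coordinates
      have hcoord : ∀ ν : s, ν ≠ μ → b.repr w ν = 0 := by
        intro ν hν
        have h2 : b.repr (f w) ν = (ν : K) * b.repr w ν := by
          conv_lhs => rw [← b.sum_repr w]
          rw [map_sum, map_sum]
          simp only [map_smul, hb, (hv _).apply_eq_smul]
          rw [Finsupp.coe_finsetSum, Finset.sum_apply]
          rw [Finset.sum_eq_single ν]
          · simp [← hb, mul_comm]
          · intro ν' _ hν'
            simp [← hb, Finsupp.single_apply, hν']
          · intro h; exact absurd (Finset.mem_univ ν) h
        rw [hfw, map_smul, Finsupp.smul_apply, smul_eq_mul] at h2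
        have h3 : ((μ : K) - (ν : K)) * b.repr w ν = 0 := by rw [sub_mul, h2, sub_self]
        rcases mul_eq_zero.mp h3 with h4 | h4
        · exfalso
          apply hν
          exact Subtype.ext (sub_eq_zero.mp h4).symm
        · exact h4
      have hμ0 : b.repr w μ = 0 := by
        have := congrFun hg μ
        simpa [Φ] using this
      apply b.repr.injective
      ext ν
      by_cases hν : ν = μ
      · rw [hν, hμ0]; simp
      · rw [hcoord ν hν]; simp
    apply Subtype.ext
    apply b.ext
    intro μ
    rw [hb, hzero μ]
    simp
  calc Module.finrank K (centralizer f) ≤ Module.finrank K (s → K) :=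
        LinearMap.finrank_le_finrank_of_injective hΦ
    _ = Module.finrank K V := by rw [Module.finrank_fintype_fun_eq_card, hcard']

end F0

section F1

variable {k : Type u} [Field k] {B : Type v} [Ring B] [Algebra k B] [Algebra.IsCentral k B]
  [IsSimpleRing B] [FiniteDimensional k B]

omit [Algebra.IsCentral k B] [IsSimpleRing B] [FiniteDimensional k B] in
/-- powers below the degree of the minimal polynomial are independent (reindexed). -/
lemma linearIndependent_pow_fin (x : B) (r : ℕ) (hdeg : (minpoly k x).natDegree = r) :
    LinearIndependent k (fun i : Fin r => x ^ (i : ℕ)) := by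
  subst hdeg
  exact linearIndependent_pow x

/-- If `r` powers of `X` are independent, the minimal polynomial has degree at least `r`. -/
lemma le_natDegree_minpoly_of_linearIndependent {K : Type u} [Field K] {E : Type v} [Ring E]
    [Algebra K E] (X : E) (hX : IsIntegral K X) (n : ℕ)
    (hind : LinearIndependent K (fun i : Fin n => X ^ (i : ℕ))) :
    n ≤ (minpoly K X).natDegree := by
  by_contra hlt
  push Not at hlt
  set q := minpoly K X with hq
  have hsum : ∑ i : Fin n, q.coeff (i : ℕ) • X ^ (i : ℕ) = 0 := by
    have h1 : aeval X q = 0 := minpoly.aeval K X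
    rw [Polynomial.aeval_eq_sum_range' hlt] at h1
    rw [← h1, Finset.sum_range]
  have h2 := Fintype.linearIndependent_iff.mp hind (fun i => q.coeff (i : ℕ)) hsum
    ⟨q.natDegree, hlt⟩
  have h3 : q.coeff q.natDegree = 1 := (minpoly.monic hX).coeff_natDegree
  simp only at h2
  rw [h3] at h2
  exact one_ne_zero h2

/-- In a central simple algebra of dimension `r²`, the centralizer of an element whose minimal
polynomial is separable of degree `r` is spanned by its powers. -/
theorem mem_span_pow_of_commute (r : ℕ) (hB : Module.finrank k B = r ^ 2) (x : B)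
    (hsep : (minpoly k x).Separable) (hdeg : (minpoly k x).natDegree = r) (y : B)
    (hy : x * y = y * x) :
    y ∈ Submodule.span k (Set.range (fun i : Fin r => x ^ (i : ℕ))) := by
  classical
  obtain ⟨n, hn, ⟨e⟩⟩ :=
    Groth.Agent.H1.exists_algEquiv_matrix_of_isAlgClosed k B (AlgebraicClosure k)
  have hnr : n = r := by
    have h1 := Groth.Agent.H1.finrank_eq_sq_of_algEquiv_matrix k B (AlgebraicClosure k) n e
    rw [hB] at h1
    exact (Nat.pow_left_injective (n := 2) (by norm_num) h1).symm
  subst hnr
  set K := AlgebraicClosure k with hK
  let φ : K ⊗[k] B ≃ₐ[K] Module.End K (Fin n → K) := e.trans Matrix.toLinAlgEquiv'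
  set X : Module.End K (Fin n → K) := φ ((1 : K) ⊗ₜ[k] x) with hX
  have hXint : IsIntegral K X := Algebra.IsIntegral.isIntegral X
  -- the centralizer of `x`
  set C : Submodule k B := LinearMap.ker (LinearMap.mulLeft k x - LinearMap.mulRight k x) with hC
  have hmemC : ∀ z : B, z ∈ C ↔ x * z = z * x := by
    intro z
    simp [hC, LinearMap.mem_ker, sub_eq_zero]
  set E₀ : Submodule k B := Submodule.span k (Set.range (fun i : Fin n => x ^ (i : ℕ))) with hE₀
  have hE₀C : E₀ ≤ C := by
    rw [hE₀, Submodule.span_le]
    rintro _ ⟨i, rfl⟩
    rw [SetLike.mem_coe, hmemC]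
    exact ((Commute.refl x).pow_right _).eq
  have hli : LinearIndependent k (fun i : Fin n => x ^ (i : ℕ)) :=
    linearIndependent_pow_fin x n hdeg
  have hE₀rk : Module.finrank k E₀ = n := by
    rw [hE₀, finrank_span_eq_card hli, Fintype.card_fin]
  -- properties of the minimal polynomial of `X`
  have hroot : aeval X ((minpoly k x).map (algebraMap k K)) = 0 := by
    have h1 : aeval X ((minpoly k x).map (algebraMap k K)) =
        φ (aeval ((1 : K) ⊗ₜ[k] x) ((minpoly k x).map (algebraMap k K))) := by
      rw [hX]
      exact Polynomial.aeval_algHom_apply φ.toAlgHom _ _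
    rw [h1, Polynomial.aeval_map_algebraMap]
    have h2 : aeval ((1 : K) ⊗ₜ[k] x) (minpoly k x) =
        (Algebra.TensorProduct.includeRight : B →ₐ[k] K ⊗[k] B) (aeval x (minpoly k x)) := by
      rw [← Polynomial.aeval_algHom_apply]
      rfl
    rw [h2, minpoly.aeval, map_zero, map_zero]
  have hdvd : minpoly K X ∣ (minpoly k x).map (algebraMap k K) := minpoly.dvd K X hroot
  have hsepX : (minpoly K X).Separable := (hsep.map (f := algebraMap k K)).of_dvd hdvd
  have hsplitX : (minpoly K X).Splits := IsAlgClosed.splits _
  have hxint : IsIntegral k x := Algebra.IsIntegral.isIntegral x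
  have hdegX : (minpoly K X).natDegree = Module.finrank K (Fin n → K) := by
    rw [Module.finrank_fin_fun]
    apply le_antisymm
    · have hne : (minpoly k x).map (algebraMap k K) ≠ 0 :=
        (Polynomial.map_ne_zero (minpoly.ne_zero hxint))
      have := Polynomial.natDegree_le_of_dvd hdvd hne
      rwa [Polynomial.natDegree_map, hdeg] at this
    · apply le_natDegree_minpoly_of_linearIndependent X hXint n
      have h1 : LinearIndependent K (fun i : Fin n => (1 : K) ⊗ₜ[k] (x ^ (i : ℕ))) :=
        Module.Flat.linearIndependent_one_tmul (S := K) hli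
      have h2 := h1.map' φ.toLinearMap (LinearMap.ker_eq_bot.mpr φ.injective)
      have h3 : (fun i : Fin n => X ^ (i : ℕ)) =
          (⇑φ.toLinearMap ∘ fun i : Fin n => (1 : K) ⊗ₜ[k] (x ^ (i : ℕ))) := by
        funext i
        simp only [Function.comp_apply, AlgEquiv.toLinearMap_apply, hX]
        rw [← map_pow, Algebra.TensorProduct.tmul_pow, one_pow]
      rw [h3]
      exact h2
  have hF0 := finrank_centralizer_le X hsepX hsplitX hdegX
  rw [Module.finrank_fin_fun] at hF0
  -- the base change of `C` embeds into the centralizer of `X`
  let ψ₀ : K ⊗[k] C →ₗ[K] Module.End K (Fin n → K) :=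
    φ.toLinearMap ∘ₗ (LinearMap.baseChange K C.subtype)
  have hψ₀inj : Function.Injective ψ₀ := by
    apply φ.injective.comp
    have : Function.Injective (LinearMap.lTensor K C.subtype) :=
      Module.Flat.lTensor_preserves_injective_linearMap (M := K) C.subtype
        (Submodule.injective_subtype C)
    exact this
  have hψ₀mem : ∀ t, ψ₀ t ∈ centralizer X := by
    intro t
    rw [mem_centralizer]
    induction t using TensorProduct.induction_on with
    | zero => simp
    | tmul c z =>
      have hz := (hmemC z.1).mp z.2
      have h1 : ψ₀ (c ⊗ₜ[k] z) = φ (c ⊗ₜ[k] (z : B)) := by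
        simp [ψ₀]
      rw [h1, hX, ← map_mul, ← map_mul, Algebra.TensorProduct.tmul_mul_tmul,
        Algebra.TensorProduct.tmul_mul_tmul, one_mul, mul_one, hz]
    | add s t hs ht =>
      rw [map_add, mul_add, add_mul, hs, ht]
  let ψ : K ⊗[k] C →ₗ[K] centralizer X := LinearMap.codRestrict _ ψ₀ hψ₀mem
  have hψinj : Function.Injective ψ := by
    intro a b hab
    apply hψ₀inj
    exact congrArg Subtype.val hab
  have hCrk : Module.finrank k C ≤ n := by
    have h1 : Module.finrank K (K ⊗[k] C) = Module.finrank k C := Module.finrank_baseChange
    rw [← h1]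
    exact (LinearMap.finrank_le_finrank_of_injective hψinj).trans hF0
  have hEq : E₀ = C := Submodule.eq_of_le_of_finrank_le hE₀C (by rw [hE₀rk]; exact hCrk)
  rw [hEq, hmemC]
  exact hy

end F1

end Groth.Agent.H88.RegularElt
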