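import Mathlib
import Groth.Agent.H88.RegularElt

/-!
# Existence of regular separable elements in central simple algebras

A central simple algebra of dimension `r²` over a field `k` contains an element whose minimal
polynomial is separable of degree `r`.

* infinite `k`: Zariski density of the rational points, tested against a diagonal matrix with
  distinct entries over the algebraic closure;
* finite `k`: the algebra is a matrix algebra and contains the extension of degree `r`.
-/

set_option autoImplicit false

open TensorProduct Polynomial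

namespace Groth.Agent.H88.RegularExists

universe u v w

section sepRes

variable {n : ℕ}

/-- The separability resultant of a matrix over a commutative ring. -/
noncomputable def sepRes {R : Type*} [CommRing R] (M : Matrix (Fin n) (Fin n) R) : R :=
  resultant M.charpoly (derivative M.charpoly) n (n - 1)

theorem map_sepRes {R S : Type*} [CommRing R] [CommRing S] (ψ : R →+* S)
    (M : Matrix (Fin n) (Fin n) R) : ψ (sepRes M) = sepRes (M.map ψ) := by
  rw [sepRes, sepRes, ← resultant_map_map, Matrix.charpoly_map, derivative_map]

theorem resultant_ne_zero_iff_separable {F : Type*} [Field F] {p : F[X]} (hp : p.Monic)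
    (hdeg : p.natDegree = n) :
    resultant p (derivative p) n (n - 1) ≠ 0 ↔ p.Separable := by
  have h1 : (derivative p).natDegree ≤ n - 1 := hdeg ▸ natDegree_derivative_le p
  obtain ⟨j, hj⟩ := Nat.exists_eq_add_of_le h1
  have h2 : resultant p (derivative p) n (n - 1) = resultant p (derivative p) := by
    rw [hj, resultant_add_right_deg _ _ _ _ _ le_rfl, ← hdeg, coeff_natDegree, hp.leadingCoeff,
      one_pow, one_mul]
  rw [h2, ← isUnit_iff_ne_zero, isUnit_resultant_iff_isCoprime hp]
  rfl

theorem sepRes_ne_zero_iff {F : Type*} [Field F] (M : Matrix (Fin n) (Fin n) F) :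
    sepRes M ≠ 0 ↔ M.charpoly.Separable :=
  resultant_ne_zero_iff_separable (Matrix.charpoly_monic _)
    (by rw [Matrix.charpoly_natDegree_eq_dim, Fintype.card_fin])

end sepRes

section density

variable {k : Type u} [Field k] [Infinite k] {B : Type v} [Ring B] [Algebra k B]
  [FiniteDimensional k B] {F : Type w} [Field F] [Algebra k F] {n : ℕ}
  (φ : F ⊗[k] B ≃ₐ[F] Matrix (Fin n) (Fin n) F)

/-- Density: if some matrix over the splitting field has separable characteristic polynomial,
then so has the image of some rational element. -/
theorem exists_charpoly_separable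
    (h : ∃ Y : Matrix (Fin n) (Fin n) F, Y.charpoly.Separable) :
    ∃ y : B, (φ ((1 : F) ⊗ₜ[k] y)).charpoly.Separable := by
  classical
  let m := Module.finrank k B
  let b : Module.Basis (Fin m) k B := Module.finBasis k B
  let Bm : Fin m → Matrix (Fin n) (Fin n) F := fun i => φ ((1 : F) ⊗ₜ[k] b i)
  let R := MvPolynomial (Fin m) F
  let G : Matrix (Fin n) (Fin n) R :=
    ∑ i, (MvPolynomial.X i : R) • (Bm i).map (MvPolynomial.C : F →+* R)
  have hmap : ∀ c : Fin m → F, G.map (MvPolynomial.eval c) = ∑ i, c i • Bm i := by
    intro c
    ext a a'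
    simp [G, Matrix.sum_apply]
  let H : R := sepRes G
  have heval : ∀ c : Fin m → F, MvPolynomial.eval c H = sepRes (∑ i, c i • Bm i) := by
    intro c
    show MvPolynomial.eval c (sepRes G) = _
    rw [map_sepRes, hmap]
  obtain ⟨Y, hYsep⟩ := h
  have hH : H ≠ 0 := by
    let t := φ.symm Y
    let TB := Algebra.TensorProduct.basis F b
    have ht : Y = ∑ i, TB.repr t i • Bm i := by
      have h1 : t = ∑ i, TB.repr t i • TB i := (TB.sum_repr t).symm
      have h2 : Y = φ t := (φ.apply_symm_apply Y).symm
      rw [h2]
      conv_lhs => rw [h1]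
      rw [map_sum]
      refine Finset.sum_congr rfl fun i _ => ?_
      rw [map_smul, Algebra.TensorProduct.basis_apply]
    intro h0
    have h1 := heval (fun i => TB.repr t i)
    rw [h0, map_zero, ← ht] at h1
    exact (sepRes_ne_zero_iff Y).mpr hYsep h1.symm
  obtain ⟨c0, hc0⟩ : ∃ c0 : Fin m → k,
      MvPolynomial.eval (fun i => algebraMap k F (c0 i)) H ≠ 0 := by
    by_contra hne
    push Not at hne
    apply hH
    apply MvPolynomial.funext_set (fun _ : Fin m => Set.range (algebraMap k F))
      (fun _ => Set.infinite_range_of_injective (algebraMap k F).injective)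
    intro x hx
    have hx' : ∀ i, ∃ c : k, algebraMap k F c = x i := fun i => hx i (Set.mem_univ i)
    choose c0 hc0 using hx'
    have : x = fun i => algebraMap k F (c0 i) := funext fun i => (hc0 i).symm
    rw [this, hne c0, map_zero]
  refine ⟨∑ i, c0 i • b i, ?_⟩
  have hfy : φ ((1 : F) ⊗ₜ[k] (∑ i, c0 i • b i)) = ∑ i, algebraMap k F (c0 i) • Bm i := by
    rw [TensorProduct.tmul_sum, map_sum]
    refine Finset.sum_congr rfl fun i _ => ?_
    rw [TensorProduct.tmul_smul, ← algebraMap_smul F (c0 i) ((1 : F) ⊗ₜ[k] b i), map_smul]
  rw [hfy, ← sepRes_ne_zero_iff, ← heval]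
  exact hc0

end density

section minpoly

/-- The minimal polynomial is compatible with extension of the base field. -/
theorem minpoly_one_tmul {k : Type u} [Field k] {F : Type w} [Field F] [Algebra k F] {B : Type v}
    [Ring B] [Algebra k B] (y : B) (hy : IsIntegral k y) :
    minpoly F ((1 : F) ⊗ₜ[k] y) = (minpoly k y).map (algebraMap k F) := by
  set q := (minpoly k y).map (algebraMap k F) with hq
  have hqm : q.Monic := (minpoly.monic hy).map _
  have hroot : aeval ((1 : F) ⊗ₜ[k] y) q = 0 := by
    rw [hq, Polynomial.aeval_map_algebraMap]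
    have h2 : aeval ((1 : F) ⊗ₜ[k] y) (minpoly k y) =
        (Algebra.TensorProduct.includeRight : B →ₐ[k] F ⊗[k] B) (aeval y (minpoly k y)) := by
      rw [← Polynomial.aeval_algHom_apply]
      rfl
    rw [h2, minpoly.aeval, map_zero]
  have hint : IsIntegral F ((1 : F) ⊗ₜ[k] y) := ⟨q, hqm, by rwa [← aeval_def]⟩
  symm
  refine Polynomial.eq_of_monic_of_dvd_of_natDegree_le (minpoly.monic hint) hqm
    (minpoly.dvd F _ hroot) ?_
  rw [hq, natDegree_map]
  apply Groth.Agent.H88.RegularElt.le_natDegree_minpoly_of_linearIndependent _ hint
  have h1 := Module.Flat.linearIndependent_one_tmul (S := F)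
    (linearIndependent_pow (K := k) y)
  have h3 : (fun i : Fin (minpoly k y).natDegree => ((1 : F) ⊗ₜ[k] y) ^ (i : ℕ)) =
      fun i : Fin (minpoly k y).natDegree => (1 : F) ⊗ₜ[k] (y ^ (i : ℕ)) := by
    funext i
    rw [Algebra.TensorProduct.tmul_pow, one_pow]
  rw [h3]
  exact h1

/-- Over an algebraically closed field, an endomorphism with separable characteristic polynomial
has a minimal polynomial of full degree. -/
theorem natDegree_minpoly_of_charpoly_separable {K : Type u} [Field K] [IsAlgClosed K]
    {V : Type v} [AddCommGroup V] [Module K V] [FiniteDimensional K V] (f : Module.End K V)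
    (hsep : f.charpoly.Separable) : (minpoly K f).natDegree = Module.finrank K V := by
  classical
  have hint : IsIntegral K f := Algebra.IsIntegral.isIntegral f
  have hdvd : minpoly K f ∣ f.charpoly := LinearMap.minpoly_dvd_charpoly f
  have hne : f.charpoly ≠ 0 := (LinearMap.charpoly_monic f).ne_zero
  apply le_antisymm
  · have := Polynomial.natDegree_le_of_dvd hdvd hne
    rwa [LinearMap.charpoly_natDegree] at this
  · have hle : f.charpoly.roots ≤ (minpoly K f).roots := by
      rw [Multiset.le_iff_subset (Polynomial.nodup_roots hsep)]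
      intro μ hμ
      have h1 : f.charpoly.IsRoot μ := Polynomial.isRoot_of_mem_roots hμ
      have h2 : f.HasEigenvalue μ := (Module.End.hasEigenvalue_iff_isRoot_charpoly f μ).mpr h1
      have h3 : (minpoly K f).IsRoot μ := Module.End.isRoot_of_hasEigenvalue h2
      exact (Polynomial.mem_roots (minpoly.ne_zero hint)).mpr h3
    have hsplit : f.charpoly.Splits := IsAlgClosed.splits _
    calc Module.finrank K V = f.charpoly.natDegree := (LinearMap.charpoly_natDegree f).symm
      _ = Multiset.card f.charpoly.roots := hsplit.natDegree_eq_card_roots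
      _ ≤ Multiset.card (minpoly K f).roots := Multiset.card_le_card hle
      _ ≤ (minpoly K f).natDegree := Polynomial.card_roots' _

end minpoly

section main

variable (k : Type u) [Field k] (B : Type v) [Ring B] [Algebra k B] [Algebra.IsCentral k B]
  [IsSimpleRing B] [FiniteDimensional k B]

theorem exists_regular_of_infinite [Infinite k] (r : ℕ) (hB : Module.finrank k B = r ^ 2) :
    ∃ x : B, (minpoly k x).Separable ∧ (minpoly k x).natDegree = r := by
  classical
  obtain ⟨n, hn, ⟨e⟩⟩ :=
    Groth.Agent.H1.exists_algEquiv_matrix_of_isAlgClosed k B (AlgebraicClosure k)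
  have hnr : n = r := by
    have h1 := Groth.Agent.H1.finrank_eq_sq_of_algEquiv_matrix k B (AlgebraicClosure k) n e
    rw [hB] at h1
    exact (Nat.pow_left_injective (n := 2) (by norm_num) h1).symm
  subst hnr
  set K := AlgebraicClosure k with hK
  -- a diagonal matrix with distinct entries
  let d : Fin n → K := fun i => algebraMap k K (Infinite.natEmbedding k (i : ℕ))
  have hd : Function.Injective d := by
    intro i j hij
    have h1 := (algebraMap k K).injective hij
    exact Fin.val_injective ((Infinite.natEmbedding k).injective h1)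
  have hY : (Matrix.diagonal d).charpoly.Separable := by
    rw [Matrix.charpoly_diagonal]
    exact Polynomial.separable_prod_X_sub_C_iff.mpr hd
  obtain ⟨y, hy⟩ := exists_charpoly_separable e ⟨Matrix.diagonal d, hY⟩
  refine ⟨y, ?_, ?_⟩
  all_goals
    have hyint : IsIntegral k y := Algebra.IsIntegral.isIntegral y
    let φ : K ⊗[k] B ≃ₐ[K] Module.End K (Fin n → K) := e.trans Matrix.toLinAlgEquiv'
    have hX : (φ ((1 : K) ⊗ₜ[k] y)).charpoly.Separable := by
      have : φ ((1 : K) ⊗ₜ[k] y) = Matrix.toLin' (e ((1 : K) ⊗ₜ[k] y)) := rfl
      rw [this, Matrix.charpoly_toLin']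
      exact hy
    have h1 := natDegree_minpoly_of_charpoly_separable _ hX
    have h2 : minpoly K (φ ((1 : K) ⊗ₜ[k] y)) = minpoly K ((1 : K) ⊗ₜ[k] y) :=
      minpoly.algEquiv_eq φ _
    have h3 := minpoly_one_tmul (F := K) y hyint
    rw [h2, h3, natDegree_map, Module.finrank_fin_fun] at h1
  · have h4 : ((minpoly k y).map (algebraMap k K)).Separable := by
      rw [← h3, ← h2]
      exact hX.of_dvd (LinearMap.minpoly_dvd_charpoly _)
    exact (Polynomial.separable_map (algebraMap k K)).mp h4
  · exact h1

theorem exists_regular_of_finite [Finite k] (r : ℕ) (hB : Module.finrank k B = r ^ 2) :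
    ∃ x : B, (minpoly k x).Separable ∧ (minpoly k x).natDegree = r := by
  classical
  have hart : IsArtinianRing B := IsArtinianRing.of_finite k B
  obtain ⟨m, hm, D, _, _, _, ⟨f⟩⟩ := IsSimpleRing.exists_algEquiv_matrix_divisionRing_finite k B
  have hDfin : Finite D := Module.finite_of_finite k
  have hcomm : ∀ a b : D, a * b = b * a := by
    let _ : Field D := littleWedderburn D
    exact fun a b => mul_comm a b
  have hsurj : Function.Surjective (algebraMap k D) := by
    intro d
    have hcen : f.symm (Matrix.scalar (Fin m) d) ∈ Subalgebra.center k B := by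
      rw [Subalgebra.mem_center_iff]
      intro b
      apply f.injective
      rw [map_mul, map_mul, f.apply_symm_apply]
      exact ((Matrix.scalar_commute d (fun d' => hcomm d d') (f b)).eq).symm
    rw [Algebra.IsCentral.center_eq_bot, Algebra.mem_bot] at hcen
    obtain ⟨c, hc⟩ := hcen
    refine ⟨c, ?_⟩
    have h1 : f (algebraMap k B c) = Matrix.scalar (Fin m) d := by
      rw [hc, f.apply_symm_apply]
    rw [f.commutes] at h1
    have h2 := congrFun (congrFun h1 0) 0
    simpa [Matrix.algebraMap_matrix_apply] using h2
  let e1 : k ≃ₐ[k] D :=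
    AlgEquiv.ofBijective (Algebra.ofId k D) ⟨(algebraMap k D).injective, hsurj⟩
  let g : B ≃ₐ[k] Matrix (Fin m) (Fin m) k := f.trans e1.symm.mapMatrix
  have hmr : m = r := by
    have h1 : Module.finrank k B = m ^ 2 := by
      rw [g.toLinearEquiv.finrank_eq, Module.finrank_matrix]
      simp [sq]
    rw [hB] at h1
    exact (Nat.pow_left_injective (n := 2) (by norm_num) h1).symm
  subst hmr
  obtain ⟨p, hp⟩ := CharP.exists k
  have hpp : Fact p.Prime := ⟨CharP.char_is_prime k p⟩
  let L := FiniteField.Extension k p m
  have hL : Module.finrank k L = m := FiniteField.finrank_extension k p m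
  obtain ⟨θ, hθ⟩ := Field.exists_primitive_element k L
  have hint : IsIntegral k θ := Algebra.IsIntegral.isIntegral θ
  have hdeg : (minpoly k θ).natDegree = m := by
    rw [← IntermediateField.adjoin.finrank hint, hθ, IntermediateField.finrank_top', hL]
  have hsep : (minpoly k θ).Separable := Algebra.IsSeparable.isSeparable k θ
  let bL : Module.Basis (Fin m) k L := (Module.finBasis k L).reindex (finCongr hL)
  let ι : L →ₐ[k] Matrix (Fin m) (Fin m) k := Algebra.leftMulMatrix bL
  have hι : Function.Injective ι := Algebra.leftMulMatrix_injective bL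
  have hmin : minpoly k (g.symm (ι θ)) = minpoly k θ := by
    rw [minpoly.algEquiv_eq, minpoly.algHom_eq ι hι]
  exact ⟨g.symm (ι θ), by rw [hmin]; exact hsep, by rw [hmin]; exact hdeg⟩

/-- A central simple algebra of dimension `r²` contains an element whose minimal polynomial is
separable of degree `r`. -/
theorem exists_regular (r : ℕ) (hB : Module.finrank k B = r ^ 2) :
    ∃ x : B, (minpoly k x).Separable ∧ (minpoly k x).natDegree = r := by
  rcases finite_or_infinite k with h | h
  · exact exists_regular_of_finite k B r hB
  · exact exists_regular_of_infinite k B r hB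

end main

end Groth.Agent.H88.RegularExists
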