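import Mathlib
import Groth.Agent.H88.RegularElt
import Groth.Agent.H88.AzumayaFibre
import Groth.Agent.S19588

/-!
# Regular elements of Azumaya algebras over a local ring

If `ξ` is an element of an Azumaya algebra `A` of rank `r²` over a local ring whose residue class
generates a separable commutative subalgebra of dimension `r` of the special fibre, then
`1, ξ, …, ξ^(r-1)` is a basis of the centralizer of `ξ`; in particular `ξ^r` lies in their span.
-/

set_option autoImplicit false

open TensorProduct Polynomial

namespace Groth.Agent.H88.RegularLocal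

universe u v w

section G

variable {R : Type u} [CommRing R] [IsLocalRing R]
variable {N : Type v} {A : Type v} {A' : Type v}
  [AddCommGroup N] [Module R N] [Module.Finite R N] [Module.Free R N]
  [AddCommGroup A] [Module R A] [Module.Finite R A] [Module.Free R A]
  [AddCommGroup A'] [Module R A'] [Module.Finite R A'] [Module.Free R A']

/-- Exactness of `N → A → A'` at `A` can be tested on the special fibre when `N → A` is injective
there. -/
theorem ker_le_range_of_residue (ι : N →ₗ[R] A) (g : A →ₗ[R] A') (hgι : g ∘ₗ ι = 0)
    (hι : Function.Injective (ι.lTensor (IsLocalRing.ResidueField R)))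
    (hex : ∀ y, g.lTensor (IsLocalRing.ResidueField R) y = 0 →
      y ∈ LinearMap.range (ι.lTensor (IsLocalRing.ResidueField R))) :
    LinearMap.ker g ≤ LinearMap.range ι := by
  obtain ⟨l', hl'⟩ := (IsLocalRing.split_injective_iff_lTensor_residueField_injective ι).mpr hι
  let h : A →ₗ[R] N × A' := l'.prod g
  have hfst : (LinearMap.fst R N A') ∘ₗ h = l' := by ext; simp [h]
  have hsnd : (LinearMap.snd R N A') ∘ₗ h = g := by ext; simp [h]
  have hh : Function.Injective (h.lTensor (IsLocalRing.ResidueField R)) := by
    rw [← LinearMap.ker_eq_bot, LinearMap.ker_eq_bot']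
    intro y hy
    have h1 : g.lTensor (IsLocalRing.ResidueField R) y = 0 := by
      rw [← hsnd, LinearMap.lTensor_comp, LinearMap.comp_apply, hy, map_zero]
    have h2 : l'.lTensor (IsLocalRing.ResidueField R) y = 0 := by
      rw [← hfst, LinearMap.lTensor_comp, LinearMap.comp_apply, hy, map_zero]
    obtain ⟨n, rfl⟩ := hex y h1
    have h3 : l'.lTensor (IsLocalRing.ResidueField R)
        (ι.lTensor (IsLocalRing.ResidueField R) n) = n := by
      rw [← LinearMap.comp_apply, ← LinearMap.lTensor_comp, hl', LinearMap.lTensor_id,
        LinearMap.id_apply]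
    rw [h3] at h2
    rw [h2, map_zero]
  obtain ⟨h', hh'⟩ := (IsLocalRing.split_injective_iff_lTensor_residueField_injective h).mpr hh
  have hinj : Function.Injective h :=
    Function.HasLeftInverse.injective ⟨h', LinearMap.congr_fun hh'⟩
  intro x hx
  rw [LinearMap.mem_ker] at hx
  refine ⟨l' x, ?_⟩
  apply hinj
  have h4 : l' (ι (l' x)) = l' x := by
    have := LinearMap.congr_fun hl' (l' x)
    simpa using this
  have h5 : g (ι (l' x)) = 0 := by
    have := LinearMap.congr_fun hgι (l' x)
    simpa using this
  show (l' (ι (l' x)), g (ι (l' x))) = (l' x, g x)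
  rw [h4, h5, hx]

end G

section main

variable (R : Type u) [CommRing R] [IsLocalRing R] (A : Type u) [Ring A] [Algebra R A]
  [IsAzumaya R A]

omit [IsLocalRing R] [IsAzumaya R A] in
/-- the subalgebra generated by one element is spanned by its low powers -/
lemma toSubmodule_adjoin_eq_span {k : Type u} [Field k] {B : Type v} [Ring B] [Algebra k B]
    (x : B) (hx : IsIntegral k x) :
    Subalgebra.toSubmodule (Algebra.adjoin k ({x} : Set B)) =
      Submodule.span k (Set.range fun i : Fin (minpoly k x).natDegree => x ^ (i : ℕ)) := by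
  apply le_antisymm
  · intro y hy
    rw [Subalgebra.mem_toSubmodule, Algebra.adjoin_singleton_eq_range_aeval] at hy
    obtain ⟨f, rfl⟩ := hy
    exact hx.mem_span_pow ⟨f, rfl⟩
  · rw [Submodule.span_le]
    rintro _ ⟨i, rfl⟩
    exact pow_mem (Algebra.self_mem_adjoin_singleton k x) _

theorem regular_element (r : ℕ) (hA : Module.finrank R A = r ^ 2) (ξ : A)
    (hsep : Algebra.IsSeparable (IsLocalRing.ResidueField R)
      (Algebra.adjoin (IsLocalRing.ResidueField R)
        ({(1 : IsLocalRing.ResidueField R) ⊗ₜ[R] ξ} : Set (IsLocalRing.ResidueField R ⊗[R] A))))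
    (hrk : Module.finrank (IsLocalRing.ResidueField R)
      (Algebra.adjoin (IsLocalRing.ResidueField R)
        ({(1 : IsLocalRing.ResidueField R) ⊗ₜ[R] ξ} : Set (IsLocalRing.ResidueField R ⊗[R] A))) = r) :
    LinearIndependent R (fun i : Fin r => ξ ^ (i : ℕ)) ∧
      ξ ^ r ∈ Submodule.span R (Set.range (fun i : Fin r => ξ ^ (i : ℕ))) := by
  classical
  have hfree : Module.Free R A := Module.free_of_flat_of_isLocalRing
  set k := IsLocalRing.ResidueField R with hk
  set x : k ⊗[R] A := (1 : k) ⊗ₜ[R] ξ with hx
  have hAz : IsAzumaya k (k ⊗[R] A) := Groth.Agent.S19588.result R k A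
  have hcentral : Algebra.IsCentral k (k ⊗[R] A) := inferInstance
  have hsimple : IsSimpleRing (k ⊗[R] A) :=
    Groth.Agent.H88.AzumayaFibre.isSimpleRing_of_isAzumaya k (k ⊗[R] A)
  have hfin : Module.finrank k (k ⊗[R] A) = r ^ 2 := by
    rw [Module.finrank_baseChange, hA]
  have hxint : IsIntegral k x := Algebra.IsIntegral.isIntegral x
  -- separability and degree of the minimal polynomial
  have hsepx : (minpoly k x).Separable := by
    have h1 := Algebra.IsSeparable.isSeparable k
      (⟨x, Algebra.self_mem_adjoin_singleton k x⟩ : Algebra.adjoin k ({x} : Set (k ⊗[R] A)))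
    have h2 : minpoly k (⟨x, Algebra.self_mem_adjoin_singleton k x⟩ :
        Algebra.adjoin k ({x} : Set (k ⊗[R] A))) = minpoly k x := by
      have := minpoly.algHom_eq (Algebra.adjoin k ({x} : Set (k ⊗[R] A))).val
        Subtype.val_injective
        (⟨x, Algebra.self_mem_adjoin_singleton k x⟩ : Algebra.adjoin k ({x} : Set (k ⊗[R] A)))
      simpa using this.symm
    rw [IsSeparable, h2] at h1
    exact h1
  have hdeg : (minpoly k x).natDegree = r := by
    rw [← hrk, ← Subalgebra.finrank_toSubmodule, toSubmodule_adjoin_eq_span x hxint,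
      finrank_span_eq_card (linearIndependent_pow x), Fintype.card_fin]
  -- part 1
  have hlik : LinearIndependent k (fun i : Fin r => x ^ (i : ℕ)) :=
    Groth.Agent.H88.RegularElt.linearIndependent_pow_fin x r hdeg
  have hpow : ∀ i : ℕ, x ^ i = (1 : k) ⊗ₜ[R] (ξ ^ i) := by
    intro i
    rw [hx, Algebra.TensorProduct.tmul_pow, one_pow]
  have hli : LinearIndependent R (fun i : Fin r => ξ ^ (i : ℕ)) := by
    apply Module.IsLocalRing.linearIndependent_of_flat
    have : (TensorProduct.mk R k A 1 ∘ fun i : Fin r => ξ ^ (i : ℕ)) =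
        fun i : Fin r => x ^ (i : ℕ) := by
      funext i
      simp [hpow]
    rw [this]
    exact hlik
  refine ⟨hli, ?_⟩
  -- part 2
  let ι : (Fin r →₀ R) →ₗ[R] A := Finsupp.linearCombination R (fun i : Fin r => ξ ^ (i : ℕ))
  let g : A →ₗ[R] A := LinearMap.mulLeft R ξ - LinearMap.mulRight R ξ
  have hgι : g ∘ₗ ι = 0 := by
    apply Finsupp.lhom_ext'
    intro i
    ext
    simp only [LinearMap.coe_comp, Function.comp_apply, Finsupp.lsingle_apply, ι,
      Finsupp.linearCombination_single, one_smul, g, LinearMap.sub_apply, LinearMap.mulLeft_apply,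
      LinearMap.mulRight_apply, LinearMap.zero_apply]
    rw [sub_eq_zero]
    exact ((Commute.refl ξ).pow_right _).eq
  -- the key identity relating `lTensor ι` with the linear combination over `k`
  have hone := Finsupp.linearCombination_one_tmul R k A (Fin r)
    (v := fun i : Fin r => ξ ^ (i : ℕ))
  have hιk : ∀ y, ι.lTensor k y = Finsupp.linearCombination k (fun i : Fin r => x ^ (i : ℕ))
      (TensorProduct.finsuppScalarRight R R k (Fin r) y) := by
    intro y
    have h1 := LinearMap.congr_fun hone (TensorProduct.finsuppScalarRight R R k (Fin r) y)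
    simp only [LinearMap.coe_comp, Function.comp_apply, LinearEquiv.coe_coe,
      LinearEquiv.symm_apply_apply, LinearMap.coe_restrictScalars] at h1
    rw [← h1]
    congr 2
    funext i
    exact (hpow i).symm
  have hιinj : Function.Injective (ι.lTensor k) := by
    intro y y' hyy'
    rw [hιk, hιk] at hyy'
    exact (TensorProduct.finsuppScalarRight R R k (Fin r)).injective (hlik hyy')
  have hgk : ∀ y, g.lTensor k y = x * y - y * x := by
    intro y
    induction y using TensorProduct.induction_on with
    | zero => simp
    | tmul c a =>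
      simp only [LinearMap.lTensor_tmul, g, LinearMap.sub_apply, LinearMap.mulLeft_apply,
        LinearMap.mulRight_apply, hx, Algebra.TensorProduct.tmul_mul_tmul, one_mul, mul_one,
        TensorProduct.tmul_sub]
    | add y z hy hz => rw [map_add, hy, hz, mul_add, add_mul]; abel
  have hex : ∀ y, g.lTensor k y = 0 → y ∈ LinearMap.range (ι.lTensor k) := by
    intro y hy
    rw [hgk, sub_eq_zero] at hy
    have hmem := Groth.Agent.H88.RegularElt.mem_span_pow_of_commute r hfin x hsepx hdeg y hy
    rw [← Finsupp.range_linearCombination] at hmem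
    obtain ⟨c, hc⟩ := hmem
    refine ⟨(TensorProduct.finsuppScalarRight R R k (Fin r)).symm c, ?_⟩
    rw [hιk, LinearEquiv.apply_symm_apply, hc]
  have hker := ker_le_range_of_residue ι g hgι hιinj hex
  have hξr : ξ ^ r ∈ LinearMap.ker g := by
    rw [LinearMap.mem_ker]
    simp only [g, LinearMap.sub_apply, LinearMap.mulLeft_apply, LinearMap.mulRight_apply]
    rw [sub_eq_zero]
    exact ((Commute.refl ξ).pow_right _).eq
  have := hker hξr
  rw [Finsupp.range_linearCombination] at this
  exact this

end main

end Groth.Agent.H88.RegularLocal
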