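import Mathlib
import Groth.Agent.H88.RegularLocal
import Groth.Agent.H88.RegularExists
import Groth.Agent.H3.FiniteEtaleLift

/-!
# Maximal étale subalgebras of Azumaya algebras over a local ring

* `regular_element'`: variant of `RegularLocal.regular_element` with hypotheses on the minimal
  polynomial of the residue class.
* `exists_maximal_etale`: an Azumaya algebra of rank `r²` over a local ring contains the image of
  a finite étale algebra `R[X]/(P)` of rank `r`, injectively on the special fibre.
-/

set_option autoImplicit false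

open TensorProduct Polynomial

namespace Groth.Agent.H88.RegularLocal2

universe u v w

open Groth.Agent.H88.RegularLocal

variable (R : Type u) [CommRing R] [IsLocalRing R] (A : Type u) [Ring A] [Algebra R A]
  [IsAzumaya R A]

theorem regular_element' (r : ℕ) (hA : Module.finrank R A = r ^ 2) (ξ : A)
    (hsepx : (minpoly (IsLocalRing.ResidueField R)
      ((1 : IsLocalRing.ResidueField R) ⊗ₜ[R] ξ)).Separable)
    (hdeg : (minpoly (IsLocalRing.ResidueField R)
      ((1 : IsLocalRing.ResidueField R) ⊗ₜ[R] ξ)).natDegree = r) :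
    LinearIndependent R (fun i : Fin r => ξ ^ (i : ℕ)) ∧
      ξ ^ r ∈ Submodule.span R (Set.range (fun i : Fin r => ξ ^ (i : ℕ))) := by
  classical
  have hfree : Module.Free R A := Module.free_of_flat_of_isLocalRing
  set k := IsLocalRing.ResidueField R with hk
  set x : k ⊗[R] A := (1 : k) ⊗ₜ[R] ξ with hx
  have hAz : IsAzumaya k (k ⊗[R] A) := Groth.Agent.S19588.result R k A
  have hcentral : Algebra.IsCentral k (k ⊗[R] A) := inferInstance
  have hsimple : IsSimpleRing (k ⊗[R] A) :=
    Groth.Agent.H88.AzumayaFibre.isSimpleRing_of_isAzumaya k (k ⊗[R] A)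
  have hfin : Module.finrank k (k ⊗[R] A) = r ^ 2 := by
    rw [Module.finrank_baseChange, hA]
  -- part 1
  have hlik : LinearIndependent k (fun i : Fin r => x ^ (i : ℕ)) :=
    Groth.Agent.H88.RegularElt.linearIndependent_pow_fin x r hdeg
  have hpow : ∀ i : ℕ, x ^ i = (1 : k) ⊗ₜ[R] (ξ ^ i) := by
    intro i
    rw [hx, Algebra.TensorProduct.tmul_pow, one_pow]
  have hli : LinearIndependent R (fun i : Fin r => ξ ^ (i : ℕ)) := by
    apply Module.IsLocalRing.linearIndependent_of_flat
    have : (TensorProduct.mk R k A 1 ∘ fun i : Fin r => ξ ^ (i : ℕ)) =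
        fun i : Fin r => x ^ (i : ℕ) := by
      funext i
      simp [hpow]
    rw [this]
    exact hlik
  refine ⟨hli, ?_⟩
  -- part 2
  let ι : (Fin r →₀ R) →ₗ[R] A := Finsupp.linearCombination R (fun i : Fin r => ξ ^ (i : ℕ))
  let g : A →ₗ[R] A := LinearMap.mulLeft R ξ - LinearMap.mulRight R ξ
  have hgι : g ∘ₗ ι = 0 := by
    apply Finsupp.lhom_ext'
    intro i
    ext
    simp only [LinearMap.coe_comp, Function.comp_apply, Finsupp.lsingle_apply, ι,
      Finsupp.linearCombination_single, one_smul, g, LinearMap.sub_apply, LinearMap.mulLeft_apply,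
      LinearMap.mulRight_apply, LinearMap.zero_apply]
    rw [sub_eq_zero]
    exact ((Commute.refl ξ).pow_right _).eq
  have hone := Finsupp.linearCombination_one_tmul R k A (Fin r)
    (v := fun i : Fin r => ξ ^ (i : ℕ))
  have hιk : ∀ y, ι.lTensor k y = Finsupp.linearCombination k (fun i : Fin r => x ^ (i : ℕ))
      (TensorProduct.finsuppScalarRight R R k (Fin r) y) := by
    intro y
    have h1 := LinearMap.congr_fun hone (TensorProduct.finsuppScalarRight R R k (Fin r) y)
    simp only [LinearMap.coe_comp, Function.comp_apply, LinearEquiv.coe_coe,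
      LinearEquiv.symm_apply_apply, LinearMap.coe_restrictScalars] at h1
    rw [← h1]
    congr 2
    funext i
    exact (hpow i).symm
  have hιinj : Function.Injective (ι.lTensor k) := by
    intro y y' hyy'
    rw [hιk, hιk] at hyy'
    exact (TensorProduct.finsuppScalarRight R R k (Fin r)).injective (hlik hyy')
  have hgk : ∀ y, g.lTensor k y = x * y - y * x := by
    intro y
    induction y using TensorProduct.induction_on with
    | zero => simp
    | tmul c a =>
      simp only [LinearMap.lTensor_tmul, g, LinearMap.sub_apply, LinearMap.mulLeft_apply,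
        LinearMap.mulRight_apply, hx, Algebra.TensorProduct.tmul_mul_tmul, one_mul, mul_one,
        TensorProduct.tmul_sub]
    | add y z hy hz => rw [map_add, hy, hz, mul_add, add_mul]; abel
  have hex : ∀ y, g.lTensor k y = 0 → y ∈ LinearMap.range (ι.lTensor k) := by
    intro y hy
    rw [hgk, sub_eq_zero] at hy
    have hmem := Groth.Agent.H88.RegularElt.mem_span_pow_of_commute r hfin x hsepx hdeg y hy
    rw [← Finsupp.range_linearCombination] at hmem
    obtain ⟨c, hc⟩ := hmem
    refine ⟨(TensorProduct.finsuppScalarRight R R k (Fin r)).symm c, ?_⟩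
    rw [hιk, LinearEquiv.apply_symm_apply, hc]
  have hker := ker_le_range_of_residue ι g hgι hιinj hex
  have hξr : ξ ^ r ∈ LinearMap.ker g := by
    rw [LinearMap.mem_ker]
    simp only [g, LinearMap.sub_apply, LinearMap.mulLeft_apply, LinearMap.mulRight_apply]
    rw [sub_eq_zero]
    exact ((Commute.refl ξ).pow_right _).eq
  have := hker hξr
  rw [Finsupp.range_linearCombination] at this
  exact this

/-- The data of a regular element: a monic polynomial `P` of degree `r`, separable modulo the
maximal ideal, and an element `ξ` with `P(ξ) = 0` whose powers below `r` are independent on the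
special fibre. -/
theorem exists_regular_poly (r : ℕ) (hA : Module.finrank R A = r ^ 2) :
    ∃ (P : R[X]) (ξ : A), P.Monic ∧ P.natDegree = r ∧
      (P.map (IsLocalRing.residue R)).Separable ∧ aeval ξ P = 0 ∧
      LinearIndependent R (fun i : Fin r => ξ ^ (i : ℕ)) ∧
      LinearIndependent (IsLocalRing.ResidueField R)
        (fun i : Fin r => ((1 : IsLocalRing.ResidueField R) ⊗ₜ[R] ξ) ^ (i : ℕ)) := by
  classical
  have hfree : Module.Free R A := Module.free_of_flat_of_isLocalRing
  set k := IsLocalRing.ResidueField R with hk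
  have hAz : IsAzumaya k (k ⊗[R] A) := Groth.Agent.S19588.result R k A
  have hcentral : Algebra.IsCentral k (k ⊗[R] A) := inferInstance
  have hsimple : IsSimpleRing (k ⊗[R] A) :=
    Groth.Agent.H88.AzumayaFibre.isSimpleRing_of_isAzumaya k (k ⊗[R] A)
  have hfin : Module.finrank k (k ⊗[R] A) = r ^ 2 := by
    rw [Module.finrank_baseChange, hA]
  obtain ⟨x, hsepx, hdegx⟩ := Groth.Agent.H88.RegularExists.exists_regular k (k ⊗[R] A) r hfin
  obtain ⟨ξ, hξ⟩ := TensorProduct.mk_surjective R A k IsLocalRing.residue_surjective x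
  have hξ' : (1 : k) ⊗ₜ[R] ξ = x := hξ
  obtain ⟨hli, hmem⟩ := regular_element' R A r hA ξ (by rw [hξ']; exact hsepx)
    (by rw [hξ']; exact hdegx)
  obtain ⟨c, hc⟩ := (Submodule.mem_span_range_iff_exists_fun R).mp hmem
  set q : R[X] := ∑ i : Fin r, C (c i) * X ^ (i : ℕ) with hq
  have hqdeg : q.degree < (r : WithBot ℕ) := degree_sum_fin_lt c
  have hPm : (X ^ r - q).Monic := monic_X_pow_sub hqdeg
  have hPdeg : (X ^ r - q).natDegree = r := by
    have h1 : (X ^ r - q).degree = ((X : R[X]) ^ r).degree :=
      degree_sub_eq_left_of_degree_lt (by rw [degree_X_pow]; exact hqdeg)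
    rw [degree_X_pow] at h1
    exact natDegree_eq_of_degree_eq_some h1
  have hroot : aeval ξ (X ^ r - q) = 0 := by
    rw [map_sub, map_pow, aeval_X, hq, map_sum, ← hc, sub_eq_zero]
    refine Finset.sum_congr rfl fun i _ => ?_
    rw [map_mul, aeval_C, map_pow, aeval_X, Algebra.smul_def]
  have hlik : LinearIndependent k (fun i : Fin r => ((1 : k) ⊗ₜ[R] ξ) ^ (i : ℕ)) := by
    rw [hξ']
    exact Groth.Agent.H88.RegularElt.linearIndependent_pow_fin x r hdegx
  refine ⟨X ^ r - q, ξ, hPm, hPdeg, ?_, hroot, hli, hlik⟩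
  -- the reduction of `P` is the minimal polynomial of `x`
  have hxint : IsIntegral k x := Algebra.IsIntegral.isIntegral x
  have hPbar : (X ^ r - q).map (IsLocalRing.residue R) = minpoly k x := by
    have hm : ((X ^ r - q).map (IsLocalRing.residue R)).Monic := hPm.map _
    have hr0 : aeval x ((X ^ r - q).map (IsLocalRing.residue R)) = 0 := by
      have h1 : aeval x ((X ^ r - q).map (algebraMap R k)) = aeval x (X ^ r - q) :=
        Polynomial.aeval_map_algebraMap k x _
      have h2 : aeval x (X ^ r - q) =
          (Algebra.TensorProduct.includeRight : A →ₐ[R] k ⊗[R] A) (aeval ξ (X ^ r - q)) := by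
        rw [← Polynomial.aeval_algHom_apply, ← hξ']
        rfl
      have h3 : (X ^ r - q).map (IsLocalRing.residue R) = (X ^ r - q).map (algebraMap R k) := rfl
      rw [h3, h1, h2, hroot, map_zero]
    refine Polynomial.eq_of_monic_of_dvd_of_natDegree_le (minpoly.monic hxint) hm
      (minpoly.dvd k x hr0) ?_
    rw [hPm.natDegree_map, hPdeg, hdegx]
  rw [hPbar]
  exact hsepx

theorem exists_maximal_etale (r : ℕ) (hA : Module.finrank R A = r ^ 2) :
    ∃ (E : Type u) (_ : CommRing E) (_ : Algebra R E), Algebra.Etale R E ∧ Module.Finite R E ∧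
      Module.Free R E ∧ Module.finrank R E = r ∧ ∃ u : E →ₐ[R] A,
        Function.Injective (u.toLinearMap.lTensor (IsLocalRing.ResidueField R)) := by
  classical
  obtain ⟨P, ξ, hPm, hPdeg, hPsep, hroot, hli, hlik⟩ := exists_regular_poly R A r hA
  set k := IsLocalRing.ResidueField R with hk
  have hEt : Algebra.Etale R (AdjoinRoot P) :=
    Groth.Agent.H3.etale_adjoinRoot_of_separable P hPm hPsep
  let pb := AdjoinRoot.powerBasis' hPm
  have hdim : pb.dim = r := hPdeg
  let u : AdjoinRoot P →ₐ[R] A :=
    Ideal.Quotient.liftₐ (Ideal.span {P}) (Polynomial.aeval ξ) (by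
      intro a ha
      obtain ⟨c, rfl⟩ := Ideal.mem_span_singleton.mp ha
      rw [map_mul, hroot, zero_mul])
  have huroot : u (AdjoinRoot.root P) = ξ := by
    show Ideal.Quotient.liftₐ _ _ _ (Ideal.Quotient.mk _ X) = ξ
    rw [Ideal.Quotient.liftₐ_apply, Ideal.Quotient.lift_mk]
    simp
  refine ⟨AdjoinRoot P, inferInstance, inferInstance, hEt, hPm.finite_adjoinRoot,
    hPm.free_adjoinRoot, ?_, u, ?_⟩
  · rw [← hdim]
    exact pb.finrank
  · let bE : Module.Basis (Fin r) R (AdjoinRoot P) := pb.basis.reindex (finCongr hdim)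
    have hbE : ∀ i : Fin r, bE i = AdjoinRoot.root P ^ (i : ℕ) := by
      intro i
      simp [bE, pb]
    let TB : Module.Basis (Fin r) k (k ⊗[R] AdjoinRoot P) := Algebra.TensorProduct.basis k bE
    let F : k ⊗[R] AdjoinRoot P →ₗ[k] k ⊗[R] A := LinearMap.baseChange k u.toLinearMap
    have hF : ∀ i, F (TB i) = ((1 : k) ⊗ₜ[R] ξ) ^ (i : ℕ) := by
      intro i
      rw [Algebra.TensorProduct.basis_apply, LinearMap.baseChange_tmul, hbE,
        AlgHom.toLinearMap_apply, map_pow, huroot, Algebra.TensorProduct.tmul_pow, one_pow]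
    have hinj : Function.Injective F := by
      have h1 : ∀ z, F z = Finsupp.linearCombination k
          (fun i : Fin r => ((1 : k) ⊗ₜ[R] ξ) ^ (i : ℕ)) (TB.repr z) := by
        intro z
        conv_lhs => rw [← TB.linearCombination_repr z]
        rw [Finsupp.apply_linearCombination]
        have h0 : (⇑F ∘ ⇑TB) = fun i : Fin r => ((1 : k) ⊗ₜ[R] ξ) ^ (i : ℕ) := funext hF
        rw [h0]
      intro z z' hzz'
      rw [h1, h1] at hzz'
      exact TB.repr.injective (hlik hzz')
    intro z z' h
    apply hinj
    have h2 : ∀ w, F w = u.toLinearMap.lTensor k w := by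
      intro w
      rfl
    rw [h2, h2]
    exact h

end Groth.Agent.H88.RegularLocal2
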