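import Mathlib
import Groth.Agent.H88.RegularExists

/-!
# The subalgebra generated by a separable element is separable

If `x` is an element of a finite-dimensional algebra over a field whose minimal polynomial is
separable, every element of `k[x]` has separable minimal polynomial.
-/

set_option autoImplicit false

open TensorProduct Polynomial

namespace Groth.Agent.H88.RegularSep

universe u v

variable {k : Type u} [Field k] {A : Type v} [Ring A] [Algebra k A] [FiniteDimensional k A]

theorem separable_minpoly_aeval (x : A) (hx : (minpoly k x).Separable) (g : k[X]) :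
    (minpoly k (aeval x g)).Separable := by
  classical
  set K := AlgebraicClosure k with hK
  have hxint : IsIntegral k x := Algebra.IsIntegral.isIntegral x
  have hyint : IsIntegral k (aeval x g) := Algebra.IsIntegral.isIntegral _
  let Λ : K ⊗[k] A →ₐ[K] Module.End K (K ⊗[k] A) := Algebra.lmul K (K ⊗[k] A)
  have hΛinj : Function.Injective Λ := by
    intro a b hab
    have := LinearMap.congr_fun hab 1
    simpa [Λ] using this
  set f : Module.End K (K ⊗[k] A) := Λ ((1 : K) ⊗ₜ[k] x) with hf
  have hfmin : minpoly K f = (minpoly k x).map (algebraMap k K) := by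
    rw [hf, minpoly.algHom_eq Λ hΛinj, Groth.Agent.H88.RegularExists.minpoly_one_tmul x hxint]
  have hfss : f.IsSemisimple := by
    apply Module.End.isSemisimple_of_squarefree_aeval_eq_zero (p := minpoly K f)
    · rw [hfmin]
      exact (hx.map (f := algebraMap k K)).squarefree
    · exact minpoly.aeval K f
  have hy : Λ ((1 : K) ⊗ₜ[k] (aeval x g)) = aeval f (g.map (algebraMap k K)) := by
    have h1 : (1 : K) ⊗ₜ[k] (aeval x g) = aeval ((1 : K) ⊗ₜ[k] x) g := by
      have := Polynomial.aeval_algHom_apply
        (Algebra.TensorProduct.includeRight : A →ₐ[k] K ⊗[k] A) x g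
      exact this.symm
    rw [h1, ← Polynomial.aeval_map_algebraMap K ((1 : K) ⊗ₜ[k] x) g, hf,
      Polynomial.aeval_algHom_apply]
  have hss : (Λ ((1 : K) ⊗ₜ[k] (aeval x g))).IsSemisimple := by
    rw [hy]
    exact hfss.aeval _
  have hsq : Squarefree (minpoly K (Λ ((1 : K) ⊗ₜ[k] (aeval x g)))) := hss.minpoly_squarefree
  rw [minpoly.algHom_eq Λ hΛinj,
    Groth.Agent.H88.RegularExists.minpoly_one_tmul (aeval x g) hyint] at hsq
  have hsep : ((minpoly k (aeval x g)).map (algebraMap k K)).Separable :=
    PerfectField.separable_iff_squarefree.mpr hsq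
  exact (Polynomial.separable_map (algebraMap k K)).mp hsep

theorem isSeparable_adjoin_singleton (x : A) (hx : (minpoly k x).Separable) :
    Algebra.IsSeparable k (Algebra.adjoin k ({x} : Set A)) := by
  refine ⟨fun z => ?_⟩
  have hz : ∀ w : A, w ∈ Algebra.adjoin k ({x} : Set A) → ∃ g : k[X], aeval x g = w := by
    intro w hw
    rw [Algebra.adjoin_singleton_eq_range_aeval] at hw
    exact hw
  obtain ⟨g, hg⟩ := hz (z : A) z.2
  have h2 : minpoly k z = minpoly k (z : A) := by
    have := minpoly.algHom_eq (Algebra.adjoin k ({x} : Set A)).val Subtype.val_injective z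
    simpa using this.symm
  rw [IsSeparable, h2]
  have hg' : (z : A) = aeval x g := hg.symm
  rw [hg']
  exact separable_minpoly_aeval x hx g

theorem finrank_adjoin_singleton (x : A) :
    Module.finrank k (Algebra.adjoin k ({x} : Set A)) = (minpoly k x).natDegree := by
  have hxint : IsIntegral k x := Algebra.IsIntegral.isIntegral x
  have h1 : Subalgebra.toSubmodule (Algebra.adjoin k ({x} : Set A)) =
      Submodule.span k (Set.range fun i : Fin (minpoly k x).natDegree => x ^ (i : ℕ)) := by
    apply le_antisymm
    · intro y hy
      rw [Subalgebra.mem_toSubmodule, Algebra.adjoin_singleton_eq_range_aeval] at hy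
      obtain ⟨f, rfl⟩ := hy
      exact hxint.mem_span_pow ⟨f, rfl⟩
    · rw [Submodule.span_le]
      rintro _ ⟨i, rfl⟩
      exact pow_mem (Algebra.self_mem_adjoin_singleton k x) _
  rw [← Subalgebra.finrank_toSubmodule, h1, finrank_span_eq_card (linearIndependent_pow x),
    Fintype.card_fin]

end Groth.Agent.H88.RegularSep
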