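import Mathlib.RingTheory.Ideal.KrullsHeightTheorem
import Mathlib.RingTheory.Ideal.MinimalPrime.Noetherian
import Mathlib.Logic.Relation

/-!
# Connecting systems of parameters by single-coordinate changes (helper88)

For a Noetherian local ring `R` and an ideal `I ≤ 𝔪`, call `u : Fin d → R` an `I`-sop if all
`u i ∈ 𝔪` and `𝔪 ≤ √(I + (u))`.  Any two `I`-sops of the same length are connected by a chain of
`I`-sops in which consecutive terms differ in at most one coordinate.
-/

set_option autoImplicit false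
set_option linter.unusedSectionVars false

namespace Groth.Agent.H88.SopChain

open IsLocalRing

section seq

variable {α : Type*}

/-- Turn a `ReflTransGen` chain into an explicit finite sequence. -/
lemma exists_seq_of_reflTransGen {r : α → α → Prop} {p : α → Prop} {a b : α}
    (h : Relation.ReflTransGen r a b) (hp : p a) (hr : ∀ x y, r x y → p y) :
    ∃ (m : ℕ) (w : Fin (m + 1) → α), w 0 = a ∧ w (Fin.last m) = b ∧ (∀ k, p (w k)) ∧
      ∀ k : Fin m, r (w k.castSucc) (w k.succ) := by
  induction h with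
  | refl => exact ⟨0, fun _ => a, rfl, rfl, fun _ => hp, fun k => k.elim0⟩
  | tail hab hbc ih =>
    rename_i b c
    obtain ⟨m, w, h0, hl, hpw, hstep⟩ := ih
    refine ⟨m + 1, Fin.snoc w c, ?_, ?_, ?_, ?_⟩
    · have : (0 : Fin (m + 1 + 1)) = Fin.castSucc (0 : Fin (m + 1)) := rfl
      rw [this, Fin.snoc_castSucc, h0]
    · exact Fin.snoc_last _ _
    · intro k
      refine Fin.lastCases ?_ (fun k' => ?_) k
      · rw [Fin.snoc_last]; exact hr _ _ hbc
      · rw [Fin.snoc_castSucc]; exact hpw k'
    · intro k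
      refine Fin.lastCases ?_ (fun k' => ?_) k
      · rw [Fin.snoc_castSucc, Fin.succ_last, Fin.snoc_last, hl]; exact hbc
      · have : (Fin.castSucc k').succ = Fin.castSucc k'.succ := rfl
        rw [Fin.snoc_castSucc, this, Fin.snoc_castSucc]
        exact hstep k'

end seq

variable {R : Type*} [CommRing R] [IsLocalRing R] [IsNoetherianRing R]

/-- Relative system of parameters. -/
def IsSopRel (I : Ideal R) {d : ℕ} (u : Fin d → R) : Prop :=
  (∀ i, u i ∈ maximalIdeal R) ∧ maximalIdeal R ≤ (I ⊔ Ideal.span (Set.range u)).radical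

/-- One step of the chain. -/
def Step (I : Ideal R) {d : ℕ} (a b : Fin d → R) : Prop :=
  IsSopRel I a ∧ IsSopRel I b ∧ ∃ i, ∀ i', i' ≠ i → a i' = b i'

/-- "Dimension at most one" over `J` when `𝔪` is the radical of `J + (x)`. -/
lemma eq_maximalIdeal_of_lt (J : Ideal R) (x : R) (hx : x ∈ maximalIdeal R)
    (hJx : maximalIdeal R ≤ (J ⊔ Ideal.span {x}).radical)
    (q P : Ideal R) [P.IsPrime] (hq : q ∈ J.minimalPrimes) (hqP : q < P) :
    P = maximalIdeal R := by
  by_contra hne
  have hPm : P ≤ maximalIdeal R := le_maximalIdeal (Ideal.IsPrime.ne_top ‹_›)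
  have hPlt : P < maximalIdeal R := lt_of_le_of_ne hPm hne
  have hqprime : q.IsPrime := hq.1.1
  have hmin : maximalIdeal R ∈ (q ⊔ Ideal.span {x}).minimalPrimes := by
    refine ⟨⟨inferInstance, ?_⟩, ?_⟩
    · refine sup_le (hqP.le.trans hPm) ?_
      rw [Ideal.span_le, Set.singleton_subset_iff]; exact hx
    · rintro Q ⟨hQprime, hQ⟩ -
      have h1 : J ⊔ Ideal.span {x} ≤ Q := sup_le (hq.1.2.trans (le_sup_left.trans hQ))
        (le_sup_right.trans hQ)
      exact hJx.trans (hQprime.radical_le_iff.mpr h1)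
  have hht := Ideal.map_height_le_one_of_mem_minimalPrimes hmin
  have hQprime : (P.map (Ideal.Quotient.mk q)).IsPrime :=
    Ideal.isPrime_map_quotientMk_of_isPrime hqP.le
  have hmprime : ((maximalIdeal R).map (Ideal.Quotient.mk q)).IsPrime :=
    Ideal.isPrime_map_quotientMk_of_isPrime (hqP.le.trans hPm)
  have hcomap : ∀ K : Ideal R, q ≤ K →
      (K.map (Ideal.Quotient.mk q)).comap (Ideal.Quotient.mk q) = K := by
    intro K hK
    rw [Ideal.comap_map_of_surjective _ Ideal.Quotient.mk_surjective, ← RingHom.ker_eq_comap_bot,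
      Ideal.mk_ker, sup_of_le_left hK]
  have hlt : P.map (Ideal.Quotient.mk q) < (maximalIdeal R).map (Ideal.Quotient.mk q) := by
    refine lt_of_le_of_ne (Ideal.map_mono hPm) ?_
    intro heq
    apply hne
    rw [← hcomap P hqP.le, heq, hcomap _ (hqP.le.trans hPm)]
  have h0 := (Ideal.height_le_iff (n := 1)).mp (by exact_mod_cast hht) _ hQprime hlt
  have h0' : (P.map (Ideal.Quotient.mk q)).height = 0 :=
    Order.lt_one_iff.mp (by exact_mod_cast h0)
  have : IsDomain (R ⧸ q) := Ideal.Quotient.isDomain q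
  rw [Ideal.height_eq_zero_iff_eq_bot] at h0'
  have : P = q := by
    rw [← hcomap P hqP.le, h0', ← RingHom.ker_eq_comap_bot, Ideal.mk_ker]
  exact hqP.ne this.symm

/-- Prime avoidance: an element of `𝔪` outside all minimal primes `≠ 𝔪` of two ideals. -/
lemma exists_avoiding (J₁ J₂ : Ideal R) :
    ∃ w ∈ maximalIdeal R, ∀ q : Ideal R, (q ∈ J₁.minimalPrimes ∨ q ∈ J₂.minimalPrimes) →
      q ≠ maximalIdeal R → w ∉ q := by
  classical
  have hfin : (J₁.minimalPrimes ∪ J₂.minimalPrimes).Finite :=
    (Ideal.finite_minimalPrimes_of_isNoetherianRing R J₁).union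
      (Ideal.finite_minimalPrimes_of_isNoetherianRing R J₂)
  let S : Finset (Ideal R) := hfin.toFinset.filter (fun q => q ≠ maximalIdeal R)
  by_contra hcon
  push Not at hcon
  have hsub : ((maximalIdeal R : Ideal R) : Set R) ⊆ ⋃ q ∈ (↑S : Set (Ideal R)), (q : Set R) := by
    intro w hw
    obtain ⟨q, hq, hqm, hwq⟩ := hcon w hw
    simp only [Set.mem_iUnion]
    refine ⟨q, ?_, hwq⟩
    simp only [S, Finset.coe_filter, Set.Finite.mem_toFinset, Set.mem_union,
      Set.mem_ofPred_eq]
    exact ⟨hq, hqm⟩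
  have hprime : ∀ q ∈ S, q ≠ (⊥ : Ideal R) → q ≠ (⊥ : Ideal R) → q.IsPrime := by
    intro q hq _ _
    simp only [S, Finset.mem_filter, Set.Finite.mem_toFinset, Set.mem_union] at hq
    rcases hq.1 with h | h
    · exact h.1.1
    · exact h.1.1
  obtain ⟨q, hqS, hmq⟩ := (Ideal.subset_union_prime (f := fun q : Ideal R => q) ⊥ ⊥ hprime).mp hsub
  simp only [S, Finset.mem_filter, Set.Finite.mem_toFinset, Set.mem_union] at hqS
  have hqprime : q.IsPrime := by
    rcases hqS.1 with h | h
    · exact h.1.1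
    · exact h.1.1
  exact hqS.2 (le_antisymm (le_maximalIdeal hqprime.ne_top) hmq)

lemma span_range_cons {d : ℕ} (w : R) (t : Fin d → R) :
    Ideal.span (Set.range (Fin.cons w t : Fin (d + 1) → R)) =
      Ideal.span {w} ⊔ Ideal.span (Set.range t) := by
  rw [Fin.range_cons, Ideal.span_insert]

/-- Replacing the first coordinate of an `I`-sop by a generic element of `𝔪`. -/
lemma isSopRel_cons_of_avoiding (I : Ideal R) {d : ℕ} (x w : R) (t : Fin d → R)
    (hsop : IsSopRel I (Fin.cons x t : Fin (d + 1) → R)) (hw : w ∈ maximalIdeal R)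
    (havoid : ∀ q : Ideal R, q ∈ (I ⊔ Ideal.span (Set.range t)).minimalPrimes →
      q ≠ maximalIdeal R → w ∉ q) :
    IsSopRel I (Fin.cons w t : Fin (d + 1) → R) := by
  refine ⟨?_, ?_⟩
  · intro i
    refine Fin.cases ?_ (fun j => ?_) i
    · simpa using hw
    · simpa using hsop.1 j.succ
  · rw [Ideal.radical_eq_sInf]
    refine le_sInf ?_
    rintro P ⟨hP, hPprime⟩
    rw [span_range_cons] at hP
    have hJP : I ⊔ Ideal.span (Set.range t) ≤ P :=
      sup_le (le_sup_left.trans hP) ((le_sup_right.trans le_sup_right).trans hP)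
    have hwP : w ∈ P := hP (Ideal.mem_sup_right (Ideal.mem_sup_left
      (Ideal.subset_span (Set.mem_singleton w))))
    obtain ⟨q, hq, hqP⟩ := Ideal.exists_minimalPrimes_le hJP
    by_cases hqm : q = maximalIdeal R
    · rw [← hqm]; exact hqP
    · have hwq := havoid q hq hqm
      have hlt : q < P := lt_of_le_of_ne hqP (fun h => hwq (h ▸ hwP))
      have hx : x ∈ maximalIdeal R := by simpa using hsop.1 0
      have hrad : maximalIdeal R ≤
          ((I ⊔ Ideal.span (Set.range t)) ⊔ Ideal.span {x}).radical := by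
        have := hsop.2
        rw [span_range_cons] at this
        convert this using 2
        rw [sup_assoc, sup_comm (Ideal.span (Set.range t))]
      exact (eq_maximalIdeal_of_lt _ x hx hrad q P hq hlt).ge

lemma isSopRel_tail (I : Ideal R) {d : ℕ} (w : R) (t : Fin d → R) :
    IsSopRel I (Fin.cons w t : Fin (d + 1) → R) ↔
      (w ∈ maximalIdeal R ∧ IsSopRel (I ⊔ Ideal.span {w}) t) := by
  have hid : I ⊔ Ideal.span (Set.range (Fin.cons w t : Fin (d + 1) → R)) =
      (I ⊔ Ideal.span {w}) ⊔ Ideal.span (Set.range t) := by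
    rw [span_range_cons, sup_assoc]
  constructor
  · rintro ⟨h1, h2⟩
    refine ⟨by simpa using h1 0, fun i => by simpa using h1 i.succ, ?_⟩
    rw [← hid]; exact h2
  · rintro ⟨hw, h1, h2⟩
    refine ⟨fun i => ?_, ?_⟩
    · refine Fin.cases ?_ (fun j => ?_) i
      · simpa using hw
      · simpa using h1 j
    · rw [hid]; exact h2

/-- Main theorem: any two `I`-sops of the same length are connected. -/
theorem chain (d : ℕ) : ∀ (I : Ideal R) (u v : Fin d → R), IsSopRel I u → IsSopRel I v →
    Relation.ReflTransGen (Step I) u v := by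
  induction d with
  | zero =>
    intro I u v _ _
    have : u = v := funext fun i => i.elim0
    rw [this]
  | succ d ih =>
    intro I u v hu hv
    obtain ⟨w, hw, havoid⟩ := exists_avoiding (I ⊔ Ideal.span (Set.range (Fin.tail u)))
      (I ⊔ Ideal.span (Set.range (Fin.tail v)))
    have hu' : IsSopRel I (Fin.cons (u 0) (Fin.tail u) : Fin (d + 1) → R) := by
      rw [Fin.cons_self_tail]; exact hu
    have hv' : IsSopRel I (Fin.cons (v 0) (Fin.tail v) : Fin (d + 1) → R) := by
      rw [Fin.cons_self_tail]; exact hv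
    have hwu : IsSopRel I (Fin.cons w (Fin.tail u) : Fin (d + 1) → R) :=
      isSopRel_cons_of_avoiding I (u 0) w _ hu' hw (fun q hq => havoid q (Or.inl hq))
    have hwv : IsSopRel I (Fin.cons w (Fin.tail v) : Fin (d + 1) → R) :=
      isSopRel_cons_of_avoiding I (v 0) w _ hv' hw (fun q hq => havoid q (Or.inr hq))
    have hmid := ih (I ⊔ Ideal.span {w}) (Fin.tail u) (Fin.tail v)
      ((isSopRel_tail I w _).mp hwu).2 ((isSopRel_tail I w _).mp hwv).2
    have hlift : Relation.ReflTransGen (Step I) (Fin.cons w (Fin.tail u) : Fin (d + 1) → R)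
        (Fin.cons w (Fin.tail v)) := by
      refine Relation.ReflTransGen.lift (fun t : Fin d → R => (Fin.cons w t : Fin (d + 1) → R))
        ?_ _ _ hmid
      rintro a b ⟨ha, hb, i, hi⟩
      refine ⟨(isSopRel_tail I w a).mpr ⟨hw, ha⟩, (isSopRel_tail I w b).mpr ⟨hw, hb⟩, i.succ, ?_⟩
      intro i' hi'
      refine Fin.cases ?_ (fun j hj => ?_) i' hi'
      · intro _; simp
      · simp only [Fin.cons_succ]
        exact hi j (fun h => hj (by rw [h]))
    have hfirst : Step I u (Fin.cons w (Fin.tail u)) := by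
      refine ⟨hu, hwu, 0, ?_⟩
      intro i' hi'
      obtain ⟨j, rfl⟩ := Fin.exists_succ_eq.mpr hi'
      simp [Fin.tail]
    have hlast : Step I (Fin.cons w (Fin.tail v)) v := by
      refine ⟨hwv, hv, 0, ?_⟩
      intro i' hi'
      obtain ⟨j, rfl⟩ := Fin.exists_succ_eq.mpr hi'
      simp [Fin.tail]
    exact (Relation.ReflTransGen.head hfirst hlift).tail hlast

end Groth.Agent.H88.SopChain
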