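import Mathlib
import Groth.Agent.H88.SplitAlg

/-!
# Simultaneous splitting algebras for finitely many monic polynomials
-/

namespace Groth.Agent.H88

open Polynomial

universe u

/-- A finite free algebra in which every member of a finite list of monic polynomials splits. -/
theorem exists_split_algebra_list : ∀ (l : List ℕ) (R : Type u) [CommRing R] (f : ℕ → R[X]),
    (∀ i ∈ l, (f i).Monic) →
    ∃ (S' : Type u) (_ : CommRing S') (_ : Algebra R S'), Module.Finite R S' ∧ Module.Free R S' ∧
      (Nontrivial R → Nontrivial S') ∧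
      ∀ i ∈ l, ∃ (n : ℕ) (t : Fin n → S'), (f i).map (algebraMap R S') = ∏ j, (X - C (t j)) := by
  intro l
  induction l with
  | nil =>
    intro R _ f _
    exact ⟨R, inferInstance, inferInstance, inferInstance, inferInstance, fun h ↦ h, by simp⟩
  | cons a l ih =>
    intro R _ f hf
    obtain ⟨S₁, _, _, hfin₁, hfree₁, hnt₁, t₁, ht₁⟩ :=
      exists_split_algebra (f a).natDegree R (f a) (hf a (by simp)) rfl
    obtain ⟨S', _, _, hfin', hfree', hnt', hsplit⟩ :=
      ih S₁ (fun i ↦ (f i).map (algebraMap R S₁)) (fun i hi ↦ (hf i (by simp [hi])).map _)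
    letI alg : Algebra R S' := ((algebraMap S₁ S').comp (algebraMap R S₁)).toAlgebra
    haveI : IsScalarTower R S₁ S' := IsScalarTower.of_algebraMap_eq (fun _ ↦ rfl)
    have hmap : ∀ g : R[X], g.map (algebraMap R S') =
        (g.map (algebraMap R S₁)).map (algebraMap S₁ S') := by
      intro g
      rw [Polynomial.map_map]; rfl
    refine ⟨S', inferInstance, alg, Module.Finite.trans S₁ S', ?_, fun h ↦ hnt' (hnt₁ h), ?_⟩
    · exact Module.Free.of_basis
        ((Module.Free.chooseBasis R S₁).smulTower (Module.Free.chooseBasis S₁ S'))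
    · intro i hi
      rcases List.mem_cons.mp hi with rfl | hi
      · refine ⟨_, fun j ↦ algebraMap S₁ S' (t₁ j), ?_⟩
        rw [hmap, ht₁, Polynomial.map_prod]
        simp
      · obtain ⟨n, t, ht⟩ := hsplit i hi
        exact ⟨n, t, by rw [hmap, ht]⟩

/-- A finite free (hence finitely presented, faithfully flat, surjective on spectra) algebra
in which each of finitely many monic polynomials splits into linear factors. -/
theorem exists_split_cover_finset (R : Type u) [CommRing R] {ι : Type*} (T : Finset ι)
    (f : ι → R[X]) (hf : ∀ i ∈ T, (f i).Monic) :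
    ∃ (S' : Type u) (_ : CommRing S') (_ : Algebra R S'), Module.Finite R S' ∧ Module.Free R S' ∧
      Algebra.FinitePresentation R S' ∧ Module.FaithfullyFlat R S' ∧
      Function.Surjective (PrimeSpectrum.comap (algebraMap R S')) ∧
      ∀ i ∈ T, ∃ (n : ℕ) (t : Fin n → S'),
        (f i).map (algebraMap R S') = ∏ j, (X - C (t j)) := by
  classical
  let e := T.equivFin
  let F : ℕ → R[X] := fun k ↦ if h : k < T.card then f (e.symm ⟨k, h⟩) else 1
  have hF : ∀ k ∈ List.range T.card, (F k).Monic := by
    intro k hk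
    have hk' : k < T.card := List.mem_range.mp hk
    simp only [F, hk', dif_pos]
    exact hf _ (e.symm ⟨k, hk'⟩).2
  obtain ⟨S', _, _, hfin, hfree, hnt, hsplit⟩ :=
    exists_split_algebra_list (List.range T.card) R F hF
  have hff : Module.FaithfullyFlat R S' := by
    rcases subsingleton_or_nontrivial R with h | h
    · refine ⟨fun {m} hm ↦ ?_⟩
      exact absurd (Subsingleton.elim m ⊤) hm.ne_top
    · haveI := hnt h
      infer_instance
  refine ⟨S', inferInstance, inferInstance, hfin, hfree, ?_, hff, ?_, ?_⟩
  · haveI : Module.FinitePresentation R S' := Module.finitePresentation_of_projective R S'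
    infer_instance
  · exact PrimeSpectrum.comap_surjective_of_faithfullyFlat
  · intro i hi
    have hk : (e ⟨i, hi⟩ : ℕ) < T.card := (e ⟨i, hi⟩).2
    obtain ⟨n, t, ht⟩ := hsplit (e ⟨i, hi⟩) (List.mem_range.mpr hk)
    refine ⟨n, t, ?_⟩
    rw [← ht]
    simp only [F, hk, dif_pos]
    congr 2
    have : e.symm ⟨(e ⟨i, hi⟩ : ℕ), hk⟩ = ⟨i, hi⟩ := by
      rw [Fin.eta, Equiv.symm_apply_apply]
    rw [this]

end Groth.Agent.H88
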