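import Mathlib
import Groth.Agent.H88.EtaleFreeLocal

/-!
# `E ⊗ A ≅ End_E(A)` for an Azumaya algebra free over a commutative subalgebra

Non-local version of `EtaleFreeLocal.nonempty_algEquiv_end`: if `A` is an Azumaya `R`-algebra,
free of rank `r²` over `R` and free of rank `r` as a right module over a commutative `R`-algebra
`E` mapping to `A`, then `E ⊗ A ≅ End_E(A) ≅ M_r(E)`.
-/

set_option autoImplicit false

open TensorProduct

namespace Groth.Agent.H88.SplitEnd

universe u

open Groth.Agent.H88.EtaleFreeLocal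

variable (R : Type u) [CommRing R] (A : Type u) [Ring A] [Algebra R A]
  [IsAzumaya R A] [Module.Free R A] (r : ℕ) (hA : Module.finrank R A = r ^ 2) (E : Type u)
  [CommRing E] [Nontrivial E] [Algebra R E] (u : E →ₐ[R] A)
  [Module E A] (hmod : ∀ (e : E) (a : A), e • a = a * u e)
  (bE : Module.Basis (Fin r) E A)

include hA hmod bE in
theorem nonempty_algEquiv_end (hr : 0 < r) :
    Nonempty ((E ⊗[R] A) ≃ₐ[E] Module.End E A) := by
  classical
  have hntR : Nontrivial R := (algebraMap R E).domain_nontrivial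
  have hst : IsScalarTower R E A := ⟨fun c e a => by
    rw [hmod, hmod, map_smul, mul_smul_comm]⟩
  have hfreeE : Module.Free E A := Module.Free.of_basis bE
  have hfinE : Module.Finite E A := Module.Finite.of_basis bE
  have hrkE : Module.finrank E A = r := by
    rw [Module.finrank_eq_card_basis bE, Fintype.card_fin]
  have hAzE : IsAzumaya E (E ⊗[R] A) := Groth.Agent.S19588.result R E A
  let Φ : E ⊗[R] A →ₐ[E] Module.End E A := actHom u hmod
  have hbij : Function.Bijective Φ.toLinearMap := by
    apply Groth.Agent.H88.AzumayaFibre.bijective_of_fibres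
    intro P hP
    set κ := P.ResidueField with hκ
    have hAzκ : IsAzumaya κ (κ ⊗[E] (E ⊗[R] A)) := Groth.Agent.S19588.result E κ (E ⊗[R] A)
    have hsimple : IsSimpleRing (κ ⊗[E] (E ⊗[R] A)) :=
      Groth.Agent.H88.AzumayaFibre.isSimpleRing_of_isAzumaya κ _
    let Ψ : κ ⊗[E] (E ⊗[R] A) →ₐ[κ] κ ⊗[E] (Module.End E A) :=
      Algebra.TensorProduct.map (AlgHom.id κ κ) Φ
    have hΨ : ∀ t, Ψ t = Φ.toLinearMap.lTensor κ t := by
      intro t
      induction t using TensorProduct.induction_on with
      | zero => simp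
      | tmul c e => simp [Ψ]
      | add s t hs ht => simp only [map_add, hs, ht]
    have hd1 : Module.finrank κ (κ ⊗[E] (E ⊗[R] A)) = r ^ 2 := by
      rw [Module.finrank_baseChange, Module.finrank_baseChange, hA]
    have hd2 : Module.finrank κ (κ ⊗[E] (Module.End E A)) = r ^ 2 := by
      rw [Module.finrank_baseChange, Module.finrank_linearMap, hrkE, sq]
    have hnt : Nontrivial (κ ⊗[E] (Module.End E A)) := by
      apply Module.nontrivial_of_finrank_pos (R := κ)
      rw [hd2]
      positivity
    have hinjΨ : Function.Injective Ψ := RingHom.injective Ψ.toRingHom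
    have hinj : Function.Injective (Φ.toLinearMap.lTensor κ) := by
      intro s t h
      apply hinjΨ
      rw [hΨ, hΨ, h]
    have hsurjΨ : Function.Surjective Ψ :=
      (LinearMap.injective_iff_surjective_of_finrank_eq_finrank
        (f := Ψ.toLinearMap) (hd1.trans hd2.symm)).mp hinjΨ
    refine ⟨hinj, ?_⟩
    intro y
    obtain ⟨x, hx⟩ := hsurjΨ y
    exact ⟨x, by rw [← hΨ, hx]⟩
  exact ⟨AlgEquiv.ofBijective Φ hbij⟩

include hA hmod bE in
theorem nonempty_algEquiv_matrix (hr : 0 < r) :
    Nonempty ((E ⊗[R] A) ≃ₐ[E] Matrix (Fin r) (Fin r) E) := by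
  classical
  obtain ⟨e⟩ := nonempty_algEquiv_end R A r hA E u hmod bE hr
  exact ⟨e.trans (LinearMap.toMatrixAlgEquiv bE)⟩

end Groth.Agent.H88.SplitEnd
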