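import Mathlib
import Groth.Agent.H88.SplitEnd
import Groth.Agent.H3.FiniteEtaleLift

/-!
# Splitting an Azumaya algebra from explicit data

Let `B` be an Azumaya algebra over `T`, `P` a monic polynomial of degree `r ≥ 1` with invertible
discriminant, `ξ ∈ B` a root of `P` and `y₁, …, y_r ∈ B` such that the `y_j ξ^i` form a `T`-basis
of `B`. Then `E = T[X]/(P)` is finite étale faithfully flat over `T` and `E ⊗ B ≅ M_r(E)`.
-/

set_option autoImplicit false

open TensorProduct Polynomial

namespace Groth.Agent.H88.SplitData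

universe u

variable (T : Type u) [CommRing T] [Nontrivial T] (B : Type u) [Ring B] [Algebra T B]
  [IsAzumaya T B]

theorem isUnit_mk_derivative (r : ℕ) (hr : 0 < r) (P : T[X]) (hdeg : P.natDegree = r)
    (hres : IsUnit (resultant P (derivative P) r (r - 1))) :
    IsUnit (AdjoinRoot.mk P (derivative P)) := by
  have h1 : P.natDegree ≤ r := hdeg.le
  have h2 : (derivative P).natDegree ≤ r - 1 := by
    rw [← hdeg]
    exact natDegree_derivative_le P
  obtain ⟨p, q, -, -, e⟩ := exists_mul_add_mul_eq_C_resultant (m := r) (n := r - 1) P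
    (derivative P) h1 h2 (Or.inl hr.ne')
  have h3 : AdjoinRoot.mk P (derivative P) * AdjoinRoot.mk P q =
      AdjoinRoot.mk P (C (resultant P (derivative P) r (r - 1))) := by
    rw [← e, map_add, map_mul, map_mul, AdjoinRoot.mk_self, zero_mul, zero_add]
  have h4 : IsUnit (AdjoinRoot.mk P (C (resultant P (derivative P) r (r - 1)))) := by
    have : AdjoinRoot.mk P (C (resultant P (derivative P) r (r - 1))) =
        algebraMap T (AdjoinRoot P) (resultant P (derivative P) r (r - 1)) := rfl
    rw [this]
    exact hres.map _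
  rw [← h3] at h4
  exact isUnit_of_mul_isUnit_left h4

theorem split_of_data (r : ℕ) (hr : 0 < r) (P : T[X]) (hP : P.Monic) (hdeg : P.natDegree = r)
    (hres : IsUnit (resultant P (derivative P) r (r - 1)))
    (ξ : B) (hroot : aeval ξ P = 0) (y : Fin r → B)
    (hψ : Function.Bijective (Fintype.linearCombination T
      (fun ji : Fin r × Fin r => y ji.1 * ξ ^ (ji.2 : ℕ)))) :
    Module.Finite T (AdjoinRoot P) ∧ Algebra.Etale T (AdjoinRoot P) ∧
      Module.FaithfullyFlat T (AdjoinRoot P) ∧
      Nonempty ((AdjoinRoot P ⊗[T] B) ≃ₐ[AdjoinRoot P] Matrix (Fin r) (Fin r) (AdjoinRoot P)) := by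
  classical
  have hfin : Module.Finite T (AdjoinRoot P) := hP.finite_adjoinRoot
  have hfree : Module.Free T (AdjoinRoot P) := hP.free_adjoinRoot
  let pb := AdjoinRoot.powerBasis' hP
  have hdim : pb.dim = r := hdeg
  have hrkE : Module.finrank T (AdjoinRoot P) = r := by
    rw [← hdim]
    exact pb.finrank
  have hntE : Nontrivial (AdjoinRoot P) := by
    apply Module.nontrivial_of_finrank_pos (R := T)
    rw [hrkE]
    exact hr
  have hEt : Algebra.Etale T (AdjoinRoot P) :=
    Groth.Agent.H3.etale_adjoinRoot_of_isUnit_derivative P hP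
      (isUnit_mk_derivative T r hr P hdeg hres)
  refine ⟨hfin, hEt, inferInstance, ?_⟩
  -- the map to `B`
  let u : AdjoinRoot P →ₐ[T] B :=
    Ideal.Quotient.liftₐ (Ideal.span {P}) (Polynomial.aeval ξ) (by
      intro a ha
      obtain ⟨c, rfl⟩ := Ideal.mem_span_singleton.mp ha
      rw [map_mul, hroot, zero_mul])
  have huroot : u (AdjoinRoot.root P) = ξ := by
    show Ideal.Quotient.liftₐ _ _ _ (Ideal.Quotient.mk _ X) = ξ
    rw [Ideal.Quotient.liftₐ_apply, Ideal.Quotient.lift_mk]
    simp
  letI modEB : Module (AdjoinRoot P) B :=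
    Module.compHom B (RingHom.toOpposite u.toRingHom (fun x y => by
      show Commute (u x) (u y)
      rw [Commute, SemiconjBy, ← map_mul, ← map_mul, mul_comm]))
  have hmod : ∀ (e : AdjoinRoot P) (b : B), e • b = b * u e := fun e b => rfl
  have hst : IsScalarTower T (AdjoinRoot P) B := ⟨fun c e a => by
    rw [hmod, hmod, map_smul, mul_smul_comm]⟩
  -- `B` is free of rank `r²`
  let ψ := Fintype.linearCombination T (fun ji : Fin r × Fin r => y ji.1 * ξ ^ (ji.2 : ℕ))
  let bT : Module.Basis (Fin r × Fin r) T B :=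
    Module.Basis.ofEquivFun (LinearEquiv.ofBijective ψ hψ).symm
  have hfreeB : Module.Free T B := Module.Free.of_basis bT
  have hA : Module.finrank T B = r ^ 2 := by
    rw [Module.finrank_eq_card_basis bT, Fintype.card_prod, Fintype.card_fin, sq]
  -- the `E`-linear map
  let φ : (Fin r → AdjoinRoot P) →ₗ[AdjoinRoot P] B := Fintype.linearCombination (AdjoinRoot P) y
  have hsurj : Function.Surjective φ := by
    intro b
    obtain ⟨c, rfl⟩ := hψ.2 b
    refine ⟨fun j => ∑ i : Fin r, c (j, i) • AdjoinRoot.root P ^ (i : ℕ), ?_⟩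
    show Fintype.linearCombination (AdjoinRoot P) y _ = Fintype.linearCombination T _ c
    rw [Fintype.linearCombination_apply, Fintype.linearCombination_apply, Fintype.sum_prod_type]
    refine Finset.sum_congr rfl fun j _ => ?_
    rw [hmod, map_sum, Finset.mul_sum]
    refine Finset.sum_congr rfl fun i _ => ?_
    rw [map_smul, map_pow, huroot, mul_smul_comm]
  have hfr : Module.finrank T (Fin r → AdjoinRoot P) = Module.finrank T B := by
    rw [Module.finrank_pi_fintype, hA]
    simp [hrkE, sq]
  let i0 : (Fin r → AdjoinRoot P) ≃ₗ[T] B := LinearEquiv.ofFinrankEq _ _ hfr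
  have hinj : Function.Injective φ :=
    OrzechProperty.injective_of_surjective_of_injective i0.toLinearMap (φ.restrictScalars T)
      i0.injective hsurj
  let bE : Module.Basis (Fin r) (AdjoinRoot P) B :=
    Module.Basis.ofEquivFun (LinearEquiv.ofBijective φ ⟨hinj, hsurj⟩).symm
  exact Groth.Agent.H88.SplitEnd.nonempty_algEquiv_matrix T B r hA (AdjoinRoot P) u hmod bE hr

end Groth.Agent.H88.SplitData
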