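import Mathlib
import Groth.Agent.H88.SplitFactor

/-!
# Factoring a standard étale algebra through a local ring of a splitting algebra
-/

namespace Groth.Agent.H88

open Polynomial

universe u

/-- Local version of `exists_factor_of_split`: the algebra maps to the localisation at `q'`,
and the maximal ideal pulls back to `q`. -/
theorem exists_atPrime_factor_of_split {R T S' : Type u} [CommRing R] [CommRing T] [CommRing S']
    [Algebra R T] [Algebra R S'] (P : StandardEtalePresentation R T) {n : ℕ} (t : Fin n → S')
    (ht : P.f.map (algebraMap R S') = ∏ i, (X - C (t i)))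
    (q : Ideal T) [q.IsPrime] (q' : Ideal S') [q'.IsPrime] (h : q'.under R = q.under R) :
    ∃ ψ : T →ₐ[R] Localization.AtPrime q',
      (IsLocalRing.maximalIdeal (Localization.AtPrime q')).comap ψ = q := by
  obtain ⟨g', hg', φ, hφ⟩ := exists_factor_of_split P t ht q q' h
  have hunit : IsUnit (algebraMap S' (Localization.AtPrime q') g') :=
    (IsLocalization.AtPrime.isUnit_to_map_iff _ q' g').mpr hg'
  have hf : ∀ y : Submonoid.powers g',
      IsUnit (IsScalarTower.toAlgHom R S' (Localization.AtPrime q') y) := by
    rintro ⟨y, k, rfl⟩
    simpa using hunit.pow k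
  let lam : Localization.Away g' →ₐ[R] Localization.AtPrime q' :=
    IsLocalization.liftAlgHom (M := Submonoid.powers g') hf
  have hlam : ∀ s : S', lam (algebraMap S' (Localization.Away g') s) =
      algebraMap S' (Localization.AtPrime q') s := by
    intro s
    simp [lam]
  have hJ : (IsLocalRing.maximalIdeal (Localization.AtPrime q')).comap lam =
      q'.map (algebraMap S' (Localization.Away g')) := by
    rw [← IsLocalization.map_comap (Submonoid.powers g') (Localization.Away g')
      ((IsLocalRing.maximalIdeal (Localization.AtPrime q')).comap lam)]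
    congr 1
    ext s
    simp only [Ideal.mem_comap, hlam]
    exact IsLocalization.AtPrime.to_map_mem_maximal_iff _ q' s
  refine ⟨lam.comp φ, ?_⟩
  rw [← hφ, ← hJ]
  rfl

end Groth.Agent.H88
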