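import Mathlib

/-!
# Auxiliary lemmas on `scaleRoots`, separability and resultants
-/

set_option autoImplicit false

open Polynomial

namespace Groth.Agent.H88.SplitLocal0

theorem separable_scaleRoots {k : Type*} [Field k] (p : k[X]) (hp : p.Separable) (c : k)
    (hc : c ≠ 0) : (scaleRoots p c).Separable := by
  have hp0 : p ≠ 0 := hp.ne_zero
  let K := AlgebraicClosure k
  have h1 : (scaleRoots p c).map (algebraMap k K) =
      scaleRoots (p.map (algebraMap k K)) (algebraMap k K c) :=
    map_scaleRoots p c _ (by simpa using hp0)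
  have hq0 : p.map (algebraMap k K) ≠ 0 := by simpa using hp0
  have hcK : algebraMap k K c ≠ 0 := by simpa using hc
  rw [← separable_map (algebraMap k K), h1,
    ← nodup_roots_iff_of_splits (scaleRoots_ne_zero hq0 _) (IsAlgClosed.splits _),
    roots_scaleRoots _ (isUnit_iff_ne_zero.mpr hcK)]
  exact (nodup_roots ((separable_map _).mpr hp)).map (mul_right_injective₀ hcK)

theorem isUnit_resultant_of_separable (S : Type*) [CommRing S] [IsLocalRing S] (Q : S[X])
    (hQ : Q.Monic) (r : ℕ) (hdeg : Q.natDegree = r)
    (hsep : (Q.map (IsLocalRing.residue S)).Separable) :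
    IsUnit (resultant Q (derivative Q) r (r - 1)) := by
  apply isUnit_of_map_unit (IsLocalRing.residue S)
  rw [← resultant_map_map, ← derivative_map]
  set q := Q.map (IsLocalRing.residue S) with hq
  have hqm : q.Monic := hQ.map _
  have hqdeg : q.natDegree = r := by rw [hq, hQ.natDegree_map, hdeg]
  have hle : (derivative q).natDegree ≤ r - 1 := by
    rw [← hqdeg]
    exact natDegree_derivative_le q
  obtain ⟨kk, hkk⟩ := Nat.exists_eq_add_of_le hle
  rw [hkk, resultant_add_right_deg _ _ _ _ _ le_rfl]
  have hc : q.coeff r = 1 := by rw [← hqdeg]; exact hqm.coeff_natDegree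
  rw [hc, one_pow, one_mul]
  subst hqdeg
  exact (isUnit_resultant_iff_isCoprime hqm).mpr hsep

end Groth.Agent.H88.SplitLocal0
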