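import Mathlib
import Groth.Agent.H88.SplitLocal0
import Groth.Agent.H88.RegularLocal2
import Groth.Agent.H88.EtaleFreeLocal
import Groth.Agent.H1.CSADim

/-!
# Local splitting data with global numerators

For an Azumaya algebra `A` over `R` and a prime `p`, we produce a monic polynomial `P ∈ R[X]`,
an element `x₀ ∈ A` and elements `y_j ∈ A` such that, after localizing at `p`, `P(x₀) = 0`,
`P` has invertible discriminant, and the `y_j x₀^i` form a basis.
-/

set_option autoImplicit false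

open TensorProduct Polynomial

namespace Groth.Agent.H88.SplitLocal

universe u

section poly

variable (R : Type u) [CommRing R] [IsLocalRing R] (A : Type u) [Ring A] [Algebra R A]

theorem maximal_etale_of_poly (r : ℕ) (P : R[X]) (ξ : A) (hPm : P.Monic)
    (hPdeg : P.natDegree = r) (hroot : aeval ξ P = 0)
    (hlik : LinearIndependent (IsLocalRing.ResidueField R)
      (fun i : Fin r => ((1 : IsLocalRing.ResidueField R) ⊗ₜ[R] ξ) ^ (i : ℕ))) :
    ∃ u : AdjoinRoot P →ₐ[R] A, u (AdjoinRoot.root P) = ξ ∧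
      Function.Injective (u.toLinearMap.lTensor (IsLocalRing.ResidueField R)) := by
  classical
  set k := IsLocalRing.ResidueField R with hk
  let pb := AdjoinRoot.powerBasis' hPm
  have hdim : pb.dim = r := hPdeg
  let u : AdjoinRoot P →ₐ[R] A :=
    Ideal.Quotient.liftₐ (Ideal.span {P}) (Polynomial.aeval ξ) (by
      intro a ha
      obtain ⟨c, rfl⟩ := Ideal.mem_span_singleton.mp ha
      rw [map_mul, hroot, zero_mul])
  have huroot : u (AdjoinRoot.root P) = ξ := by
    show Ideal.Quotient.liftₐ _ _ _ (Ideal.Quotient.mk _ X) = ξ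
    rw [Ideal.Quotient.liftₐ_apply, Ideal.Quotient.lift_mk]
    simp
  refine ⟨u, huroot, ?_⟩
  let bE : Module.Basis (Fin r) R (AdjoinRoot P) := pb.basis.reindex (finCongr hdim)
  have hbE : ∀ i : Fin r, bE i = AdjoinRoot.root P ^ (i : ℕ) := by
    intro i
    simp [bE, pb]
  let TB : Module.Basis (Fin r) k (k ⊗[R] AdjoinRoot P) := Algebra.TensorProduct.basis k bE
  let F : k ⊗[R] AdjoinRoot P →ₗ[k] k ⊗[R] A := LinearMap.baseChange k u.toLinearMap
  have hF : ∀ i, F (TB i) = ((1 : k) ⊗ₜ[R] ξ) ^ (i : ℕ) := by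
    intro i
    rw [Algebra.TensorProduct.basis_apply, LinearMap.baseChange_tmul, hbE,
      AlgHom.toLinearMap_apply, map_pow, huroot, Algebra.TensorProduct.tmul_pow, one_pow]
  have hinj : Function.Injective F := by
    have h1 : ∀ z, F z = Finsupp.linearCombination k
        (fun i : Fin r => ((1 : k) ⊗ₜ[R] ξ) ^ (i : ℕ)) (TB.repr z) := by
      intro z
      conv_lhs => rw [← TB.linearCombination_repr z]
      rw [Finsupp.apply_linearCombination]
      have h0 : (⇑F ∘ ⇑TB) = fun i : Fin r => ((1 : k) ⊗ₜ[R] ξ) ^ (i : ℕ) := funext hF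
      rw [h0]
    intro z z' hzz'
    rw [h1, h1] at hzz'
    exact TB.repr.injective (hlik hzz')
  intro z z' h
  apply hinj
  have h2 : ∀ w, F w = u.toLinearMap.lTensor k w := by
    intro w
    rfl
  rw [h2, h2]
  exact h

end poly

section main

variable (R : Type u) [CommRing R] (A : Type u) [Ring A] [Algebra R A] [IsAzumaya R A]
  (p : Ideal R) [p.IsPrime]

theorem exists_local_data :
    ∃ (r : ℕ) (_ : 0 < r) (P : R[X]) (x₀ : A) (y : Fin r → A), P.Monic ∧ P.natDegree = r ∧
      resultant P (derivative P) r (r - 1) ∉ p ∧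
      (1 : Localization.AtPrime p) ⊗ₜ[R] (aeval x₀ P) = 0 ∧
      Function.Bijective (Finsupp.linearCombination (Localization.AtPrime p)
        (fun ji : Fin r × Fin r =>
          (1 : Localization.AtPrime p) ⊗ₜ[R] (y ji.1 * x₀ ^ (ji.2 : ℕ)))) := by
  classical
  set S := Localization.AtPrime p with hS
  have hAzS : IsAzumaya S (S ⊗[R] A) := Groth.Agent.S19588.result R S A
  have hfreeS : Module.Free S (S ⊗[R] A) := Module.free_of_flat_of_isLocalRing
  set k := IsLocalRing.ResidueField S with hk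
  have hAzk : IsAzumaya k (k ⊗[S] (S ⊗[R] A)) := Groth.Agent.S19588.result S k (S ⊗[R] A)
  have hsimple : IsSimpleRing (k ⊗[S] (S ⊗[R] A)) :=
    Groth.Agent.H88.AzumayaFibre.isSimpleRing_of_isAzumaya k (k ⊗[S] (S ⊗[R] A))
  obtain ⟨r, hr2⟩ := Groth.Agent.H1.isSquare_finrank k (k ⊗[S] (S ⊗[R] A))
  have hA : Module.finrank S (S ⊗[R] A) = r ^ 2 := by
    have h1 : Module.finrank k (k ⊗[S] (S ⊗[R] A)) = Module.finrank S (S ⊗[R] A) :=
      Module.finrank_baseChange
    rw [← h1, hr2, sq]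
  have hr : 0 < r := by
    have h1 : 0 < Module.finrank k (k ⊗[S] (S ⊗[R] A)) := Module.finrank_pos
    rw [hr2] at h1
    exact Nat.pos_of_ne_zero (fun h0 => by rw [h0] at h1; simp at h1)
  obtain ⟨P, ξ, hPm, hPdeg, hPsep, hroot, hli, hlik⟩ :=
    Groth.Agent.H88.RegularLocal2.exists_regular_poly S (S ⊗[R] A) r hA
  -- denominators
  obtain ⟨⟨x₁, s₁⟩, hs₁⟩ := IsLocalizedModule.surj p.primeCompl (TensorProduct.mk R S A 1) ξ
  obtain ⟨s₂, hs₂⟩ := IsLocalization.exist_integer_multiples p.primeCompl (Finset.range r) P.coeff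
  set s : R := (s₁ : R) * (s₂ : R) with hs
  have hsmem : s ∈ p.primeCompl := mul_mem s₁.2 s₂.2
  set σ : S := algebraMap R S s with hσdef
  have hσ : IsUnit σ := IsLocalization.map_units S ⟨s, hsmem⟩
  set x₀ : A := (s₂ : R) • x₁ with hx₀
  have hξ' : σ • ξ = (1 : S) ⊗ₜ[R] x₀ := by
    calc σ • ξ = s • ξ := algebraMap_smul S s ξ
      _ = ((s₂ : R) * (s₁ : R)) • ξ := by rw [hs, mul_comm]
      _ = (s₂ : R) • ((s₁ : R) • ξ) := mul_smul _ _ _
      _ = (s₂ : R) • ((1 : S) ⊗ₜ[R] x₁) := by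
        congr 1
      _ = (1 : S) ⊗ₜ[R] x₀ := (TensorProduct.tmul_smul _ _ _).symm
  set Q : S[X] := scaleRoots P σ with hQ
  have hQm : Q.Monic := (monic_scaleRoots_iff σ).mpr hPm
  have hQdeg : Q.natDegree = r := by rw [hQ, natDegree_scaleRoots, hPdeg]
  have hQroot : aeval (σ • ξ) Q = 0 := by
    have h1 : σ • ξ = algebraMap S (S ⊗[R] A) σ * ξ := Algebra.smul_def σ ξ
    rw [h1]
    exact scaleRoots_aeval_eq_zero hroot
  have hσk : IsLocalRing.residue S σ ≠ 0 := (hσ.map (IsLocalRing.residue S)).ne_zero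
  have hQsep : (Q.map (IsLocalRing.residue S)).Separable := by
    rw [hQ, map_scaleRoots P σ _ (by rw [hPm.leadingCoeff, map_one]; exact one_ne_zero)]
    exact Groth.Agent.H88.SplitLocal0.separable_scaleRoots _ hPsep _ hσk
  have hQlift : Q ∈ lifts (algebraMap R S) := by
    rw [lifts_iff_coeff_lifts]
    intro n
    rw [hQ, coeff_scaleRoots, hPdeg]
    by_cases hn : n < r
    · obtain ⟨b, hb⟩ := hs₂ n (Finset.mem_range.mpr hn)
      obtain ⟨m, hm⟩ : ∃ m, r - n = m + 1 := ⟨r - n - 1, by omega⟩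
      refine ⟨b * (s₁ : R) * s ^ m, ?_⟩
      rw [map_mul, map_mul, hb, map_pow, hm, pow_succ, ← hσdef, hσdef, hs, map_mul,
        Algebra.smul_def]
      ring
    · have h1 : r - n = 0 := by omega
      rw [h1, pow_zero, mul_one]
      rcases eq_or_lt_of_le (not_lt.mp hn) with h | h
      · refine ⟨1, ?_⟩
        rw [map_one, ← h, ← hPdeg]
        exact hPm.coeff_natDegree.symm
      · refine ⟨0, ?_⟩
        rw [map_zero]
        exact (coeff_eq_zero_of_natDegree_lt (by rw [hPdeg]; exact h)).symm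
  obtain ⟨PR, hPRmap, hPRdeg, hPRm⟩ := lifts_and_natDegree_eq_and_monic hQlift hQm
  have hPRdeg' : PR.natDegree = r := hPRdeg.trans hQdeg
  -- resultant
  have hres : resultant PR (derivative PR) r (r - 1) ∉ p := by
    have hu : IsUnit (algebraMap R S (resultant PR (derivative PR) r (r - 1))) := by
      rw [← resultant_map_map, ← derivative_map, hPRmap]
      exact Groth.Agent.H88.SplitLocal0.isUnit_resultant_of_separable S Q hQm r hQdeg hQsep
    intro hmem
    exact ((IsLocalization.AtPrime.isUnit_to_map_iff S p _).mp hu) hmem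
  -- root
  have hrootR : (1 : S) ⊗ₜ[R] (aeval x₀ PR) = 0 := by
    have h1 : (1 : S) ⊗ₜ[R] (aeval x₀ PR) = aeval ((1 : S) ⊗ₜ[R] x₀) Q := by
      rw [← hPRmap, aeval_map_algebraMap]
      exact (aeval_algHom_apply (Algebra.TensorProduct.includeRight : A →ₐ[R] S ⊗[R] A)
        x₀ PR).symm
    rw [h1, ← hξ']
    exact hQroot
  refine ⟨r, hr, PR, x₀, ?_⟩
  -- the étale algebra
  have hlik' : LinearIndependent k (fun i : Fin r => ((1 : k) ⊗ₜ[S] (σ • ξ)) ^ (i : ℕ)) := by
    let w : Fin r → kˣ := fun i => (hσ.map (IsLocalRing.residue S)).unit ^ (i : ℕ)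
    have h0 := hlik.units_smul w
    have h1 : (1 : k) ⊗ₜ[S] (σ • ξ) = (IsLocalRing.residue S σ) • ((1 : k) ⊗ₜ[S] ξ) := by
      rw [TensorProduct.tmul_smul, TensorProduct.smul_tmul', TensorProduct.smul_tmul',
        Algebra.smul_def, smul_eq_mul]
      rfl
    have h2 : (fun i : Fin r => ((1 : k) ⊗ₜ[S] (σ • ξ)) ^ (i : ℕ)) =
        w • (fun i : Fin r => ((1 : k) ⊗ₜ[S] ξ) ^ (i : ℕ)) := by
      funext i
      rw [Pi.smul_apply', h1, _root_.smul_pow, Units.smul_def]
      simp [w]
    rw [h2]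
    exact h0
  obtain ⟨u, huroot, hu⟩ :=
    maximal_etale_of_poly S (S ⊗[R] A) r Q (σ • ξ) hQm hQdeg hQroot hlik'
  have hEt : Algebra.Etale S (AdjoinRoot Q) :=
    Groth.Agent.H3.etale_adjoinRoot_of_separable Q hQm hQsep
  have hEfin : Module.Finite S (AdjoinRoot Q) := hQm.finite_adjoinRoot
  have hEfree : Module.Free S (AdjoinRoot Q) := hQm.free_adjoinRoot
  let pb := AdjoinRoot.powerBasis' hQm
  have hdim : pb.dim = r := hQdeg
  have hE : Module.finrank S (AdjoinRoot Q) = r := by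
    rw [← hdim]
    exact pb.finrank
  let pbb : Module.Basis (Fin r) S (AdjoinRoot Q) := pb.basis.reindex (finCongr hdim)
  have hpbb : ∀ i : Fin r, pbb i = AdjoinRoot.root Q ^ (i : ℕ) := by
    intro i
    simp [pbb, pb]
  letI modEB : Module (AdjoinRoot Q) (S ⊗[R] A) :=
    Module.compHom (S ⊗[R] A) (RingHom.toOpposite u.toRingHom (fun x y => by
      show Commute (u x) (u y)
      rw [Commute, SemiconjBy, ← map_mul, ← map_mul, mul_comm]))
  have hmod : ∀ (e : AdjoinRoot Q) (b : S ⊗[R] A), e • b = b * u e := fun e b => rfl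
  have hst : IsScalarTower S (AdjoinRoot Q) (S ⊗[R] A) := ⟨fun c e a => by
    rw [hmod, hmod, map_smul, mul_smul_comm]⟩
  obtain ⟨bE⟩ := Groth.Agent.H88.EtaleFreeLocal.nonempty_basis_local S (S ⊗[R] A) r hA
    (AdjoinRoot Q) hE u hu hmod
  -- numerators for the basis
  choose ys hys using fun j =>
    IsLocalizedModule.surj p.primeCompl (TensorProduct.mk R S A 1) (bE j)
  let y : Fin r → A := fun j => (ys j).1
  let w : Fin r → AdjoinRoot Q := fun j =>
    algebraMap S (AdjoinRoot Q) (algebraMap R S ((ys j).2 : R))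
  have hw : ∀ j, IsUnit (w j) := fun j => (IsLocalization.map_units S (ys j).2).map _
  let bE' : Module.Basis (Fin r) (AdjoinRoot Q) (S ⊗[R] A) := bE.isUnitSMul hw
  have hbE' : ∀ j, bE' j = (1 : S) ⊗ₜ[R] y j := by
    intro j
    rw [Module.Basis.isUnitSMul_apply]
    have h1 : w j • bE j = (algebraMap R S ((ys j).2 : R)) • bE j :=
      algebraMap_smul (AdjoinRoot Q) _ _
    rw [h1, algebraMap_smul S]
    exact hys j
  refine ⟨y, hPRm, hPRdeg', hres, hrootR, ?_⟩
  set v : Fin r × Fin r → S ⊗[R] A :=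
    fun ji => (1 : S) ⊗ₜ[R] (y ji.1 * x₀ ^ (ji.2 : ℕ)) with hv
  have hv' : ∀ j i, v (j, i) = bE' j * (σ • ξ) ^ (i : ℕ) := by
    intro j i
    rw [hbE', hξ', Algebra.TensorProduct.tmul_pow, one_pow, Algebra.TensorProduct.tmul_mul_tmul,
      one_mul]
  have hsurj : Function.Surjective (Finsupp.linearCombination S v) := by
    rw [← LinearMap.range_eq_top, Finsupp.range_linearCombination, eq_top_iff]
    intro b _
    rw [← bE'.sum_repr b]
    refine Submodule.sum_mem _ fun j _ => ?_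
    rw [hmod, ← pbb.sum_repr (bE'.repr b j), map_sum, Finset.mul_sum]
    refine Submodule.sum_mem _ fun i _ => ?_
    rw [map_smul, hpbb, map_pow, huroot, mul_smul_comm, ← hv']
    exact Submodule.smul_mem _ _ (Submodule.subset_span ⟨(j, i), rfl⟩)
  have hfr : Module.finrank S (Fin r × Fin r →₀ S) = Module.finrank S (S ⊗[R] A) := by
    rw [Module.finrank_finsupp_self, Fintype.card_prod, Fintype.card_fin, hA, sq]
  let i0 : (Fin r × Fin r →₀ S) ≃ₗ[S] (S ⊗[R] A) := LinearEquiv.ofFinrankEq _ _ hfr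
  have hinj : Function.Injective (Finsupp.linearCombination S v) :=
    OrzechProperty.injective_of_surjective_of_injective i0.toLinearMap
      (Finsupp.linearCombination S v) i0.injective hsurj
  exact ⟨hinj, hsurj⟩

end main

end Groth.Agent.H88.SplitLocal
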