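import Mathlib.NumberTheory.Bernoulli
import Mathlib.RingTheory.PowerSeries.Inverse
import Mathlib.Algebra.Polynomial.Degree.Defs
import Mathlib.Algebra.Polynomial.Eval.Defs

set_option autoImplicit false

namespace Groth.Agent.H88

open PowerSeries Finset

/-- the series `B(x) = x / (1 - e^{-x})` -/
noncomputable abbrev BB : ℚ⟦X⟧ := bernoulli'PowerSeries ℚ

theorem coeff_BB (n : ℕ) : coeff n BB = bernoulli' n / (n.factorial : ℚ) := by
  simp [BB, bernoulli'PowerSeries]

theorem constantCoeff_BB : constantCoeff BB = 1 := by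
  rw [← coeff_zero_eq_constantCoeff_apply, coeff_BB]
  simp

theorem rescale_neg_one_BB : rescale (-1 : ℚ) BB = bernoulliPowerSeries ℚ := by
  ext n
  rw [coeff_rescale, coeff_BB]
  simp only [bernoulliPowerSeries, coeff_mk, bernoulli, eq_ratCast, Rat.cast_eq_id, id_eq]
  ring

theorem exp_sub_one_ne_zero : (exp ℚ - 1 : ℚ⟦X⟧) ≠ 0 := by
  intro h
  have := congrArg (coeff 1) h
  simp [coeff_exp] at this

theorem rescale_neg_one_BB_mul_exp : rescale (-1 : ℚ) BB * exp ℚ = BB := by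
  have h1 := bernoulliPowerSeries_mul_exp_sub_one ℚ
  have h2 := bernoulli'PowerSeries_mul_exp_sub_one ℚ
  apply mul_right_cancel₀ exp_sub_one_ne_zero
  rw [h2, rescale_neg_one_BB, mul_assoc, mul_comm (exp ℚ), ← mul_assoc, h1]

theorem rescale_neg_BB_mul_exp (a : ℚ) :
    rescale (-a) BB * rescale a (exp ℚ) = rescale a BB := by
  have := congrArg (rescale a) rescale_neg_one_BB_mul_exp
  rw [map_mul, rescale_rescale] at this
  rw [← this]
  congr 2
  ring_nf

/-- the Todd-class integrand -/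
noncomputable def toddProduct (n d : ℕ) (s : ℤ) (p : ℕ) : ℚ⟦X⟧ :=
  (rescale (-(d : ℚ)) BB)⁻¹ * rescale (-((d : ℚ) * p)) BB * BB ^ (n + 1) *
    rescale ((d : ℚ) * p - d - n - 1 + s) (exp ℚ)

/-- the part of the Todd-class integrand not depending on `p` -/
noncomputable def toddH (n d : ℕ) (s : ℤ) : ℚ⟦X⟧ :=
  (rescale (-(d : ℚ)) BB)⁻¹ * BB ^ (n + 1) * rescale (-(d : ℚ) - n - 1 + s) (exp ℚ)

theorem toddProduct_eq (n d : ℕ) (s : ℤ) (p : ℕ) :
    toddProduct n d s p = rescale ((d : ℚ) * p) BB * toddH n d s := by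
  unfold toddProduct toddH
  have h1 : rescale ((d : ℚ) * p - d - n - 1 + s) (exp ℚ) =
      rescale ((d : ℚ) * p) (exp ℚ) * rescale (-(d : ℚ) - n - 1 + s) (exp ℚ) := by
    rw [exp_mul_exp_eq_exp_add]
    congr 2
    ring
  rw [h1, ← rescale_neg_BB_mul_exp ((d : ℚ) * p)]
  ring

theorem coeff_toddProduct (n d : ℕ) (s : ℤ) (p : ℕ) (m : ℕ) :
    coeff m (toddProduct n d s p) = ∑ k ∈ range (m + 1),
      (((d : ℚ) * p) ^ k * (bernoulli' k / (k.factorial : ℚ))) * coeff (m - k) (toddH n d s) := by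
  rw [toddProduct_eq, coeff_mul, Finset.Nat.sum_antidiagonal_eq_sum_range_succ
    (fun i j => coeff i (rescale ((d : ℚ) * p) BB) * coeff j (toddH n d s))]
  apply Finset.sum_congr rfl
  intro k _
  rw [coeff_rescale, coeff_BB]

theorem constantCoeff_rescale_BB (a : ℚ) : constantCoeff (rescale a BB) = 1 := by
  rw [← coeff_zero_eq_constantCoeff_apply, coeff_rescale, coeff_BB]
  simp

theorem constantCoeff_rescale_exp (a : ℚ) : constantCoeff (rescale a (exp ℚ)) = 1 := by
  rw [← coeff_zero_eq_constantCoeff_apply, coeff_rescale, coeff_exp]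
  simp

theorem coeff_zero_toddH (n d : ℕ) (s : ℤ) : coeff 0 (toddH n d s) = 1 := by
  rw [coeff_zero_eq_constantCoeff_apply]
  unfold toddH
  rw [map_mul, map_mul, constantCoeff_inv, constantCoeff_rescale_BB, map_pow, constantCoeff_BB,
    constantCoeff_rescale_exp]
  simp

theorem coeff_one_BB : coeff 1 BB = 1 / 2 := by
  rw [coeff_BB]; simp

theorem coeff_one_inv_of_constantCoeff_eq_one (f : ℚ⟦X⟧) (hf : constantCoeff f = 1) :
    coeff 1 f⁻¹ = - coeff 1 f := by
  have h := PowerSeries.mul_inv_cancel f (by rw [hf]; exact one_ne_zero)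
  have h1 := congrArg (coeff 1) h
  rw [coeff_one_mul, constantCoeff_inv, hf] at h1
  simp at h1
  linarith

theorem coeff_one_toddH (n d : ℕ) (s : ℤ) :
    coeff 1 (toddH n d s) = (2 * (s : ℚ) - d - n - 1) / 2 := by
  unfold toddH
  rw [coeff_one_mul, coeff_one_mul, constantCoeff_rescale_exp, map_mul, constantCoeff_inv,
    constantCoeff_rescale_BB, map_pow, constantCoeff_BB, coeff_one_pow, constantCoeff_BB,
    coeff_one_inv_of_constantCoeff_eq_one _ (constantCoeff_rescale_BB _), coeff_rescale,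
    coeff_rescale, coeff_one_BB, coeff_exp]
  simp
  ring

theorem toddProduct_leading (n d : ℕ) (s : ℤ) (hn : 2 ≤ n) :
    ∃ P : Polynomial ℚ, P.natDegree ≤ n - 2 ∧ ∀ p : ℕ,
      coeff n (toddProduct n d s p) =
        bernoulli' n * ((d : ℚ) * p) ^ n / (Nat.factorial n : ℚ) +
          (2 * (s : ℚ) - d - n - 1) / 2 * bernoulli' (n - 1) * ((d : ℚ) * p) ^ (n - 1) /
            (Nat.factorial (n - 1) : ℚ) +
          P.eval (p : ℚ) := by
  obtain ⟨m, rfl⟩ : ∃ m, n = m + 2 := ⟨n - 2, by omega⟩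
  refine ⟨∑ k ∈ range (m + 1), Polynomial.C ((d : ℚ) ^ k * (bernoulli' k / (k.factorial : ℚ)) *
    coeff (m + 2 - k) (toddH (m + 2) d s)) * Polynomial.X ^ k, ?_, ?_⟩
  · apply Polynomial.natDegree_sum_le_of_forall_le
    intro k hk
    have hk' : k ≤ m := Nat.lt_succ_iff.1 (mem_range.1 hk)
    refine le_trans (Polynomial.natDegree_C_mul_X_pow_le _ _) ?_
    omega
  · intro p
    rw [coeff_toddProduct, Finset.sum_range_succ, Finset.sum_range_succ]
    have e1 : m + 2 - (m + 1) = 1 := by omega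
    have e2 : m + 2 - (m + 2) = 0 := by omega
    have e3 : m + 2 - 1 = m + 1 := by omega
    rw [e1, e2, e3, coeff_one_toddH, coeff_zero_toddH, Polynomial.eval_finsetSum]
    simp only [Polynomial.eval_mul, Polynomial.eval_C, Polynomial.eval_pow, Polynomial.eval_X]
    have : ∀ k ∈ range (m + 1), ((d : ℚ) * p) ^ k * (bernoulli' k / (k.factorial : ℚ)) *
        coeff (m + 2 - k) (toddH (m + 2) d s) = (d : ℚ) ^ k * (bernoulli' k / (k.factorial : ℚ)) *
        coeff (m + 2 - k) (toddH (m + 2) d s) * (p : ℚ) ^ k := by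
      intro k _
      ring
    rw [Finset.sum_congr rfl this]
    ring

theorem coeff_zero_mul' (f g : ℚ⟦X⟧) : coeff 0 (f * g) = coeff 0 f * coeff 0 g := by
  simp [coeff_mul]

theorem coeff_one_mul' (f g : ℚ⟦X⟧) :
    coeff 1 (f * g) = coeff 0 f * coeff 1 g + coeff 1 f * coeff 0 g := by
  rw [coeff_mul, show Finset.antidiagonal 1 = {(0, 1), (1, 0)} from rfl,
    Finset.sum_insert (by decide), Finset.sum_singleton]

theorem coeff_two_mul' (f g : ℚ⟦X⟧) :
    coeff 2 (f * g) = coeff 0 f * coeff 2 g + coeff 1 f * coeff 1 g + coeff 2 f * coeff 0 g := by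
  rw [coeff_mul, show Finset.antidiagonal 2 = {(0, 2), (1, 1), (2, 0)} from rfl,
    Finset.sum_insert (by decide), Finset.sum_insert (by decide), Finset.sum_singleton]
  ring

theorem coeff_three_mul' (f g : ℚ⟦X⟧) :
    coeff 3 (f * g) = coeff 0 f * coeff 3 g + coeff 1 f * coeff 2 g + coeff 2 f * coeff 1 g +
      coeff 3 f * coeff 0 g := by
  rw [coeff_mul, show Finset.antidiagonal 3 = {(0, 3), (1, 2), (2, 1), (3, 0)} from rfl,
    Finset.sum_insert (by decide), Finset.sum_insert (by decide), Finset.sum_insert (by decide),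
    Finset.sum_singleton]
  ring

theorem coeff_inv_jet (f : ℚ⟦X⟧) (hf : coeff 0 f = 1) :
    coeff 0 f⁻¹ = 1 ∧ coeff 1 f⁻¹ = - coeff 1 f ∧
    coeff 2 f⁻¹ = (coeff 1 f) ^ 2 - coeff 2 f ∧
    coeff 3 f⁻¹ = - coeff 3 f + 2 * coeff 1 f * coeff 2 f - (coeff 1 f) ^ 3 := by
  have hf' : constantCoeff f = 1 := by rw [← coeff_zero_eq_constantCoeff_apply, hf]
  have h := PowerSeries.mul_inv_cancel f (by rw [hf']; exact one_ne_zero)
  have h0 : coeff 0 f⁻¹ = 1 := by
    rw [coeff_zero_eq_constantCoeff_apply, constantCoeff_inv, hf', inv_one]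
  have h1 := congrArg (coeff 1) h
  have h2 := congrArg (coeff 2) h
  have h3 := congrArg (coeff 3) h
  rw [coeff_one_mul', hf, h0] at h1
  rw [coeff_two_mul', hf, h0] at h2
  rw [coeff_three_mul', hf, h0] at h3
  simp only [coeff_one, one_ne_zero, if_false, OfNat.ofNat_ne_zero] at h1 h2 h3
  have g1 : coeff 1 f⁻¹ = - coeff 1 f := by linarith
  have g2 : coeff 2 f⁻¹ = (coeff 1 f) ^ 2 - coeff 2 f := by
    rw [g1] at h2; linear_combination h2
  refine ⟨h0, g1, g2, ?_⟩
  rw [g1, g2] at h3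
  linear_combination h3

theorem coeff_jet_BB : coeff 0 BB = 1 ∧ coeff 1 BB = 1 / 2 ∧ coeff 2 BB = 1 / 12 ∧ coeff 3 BB = 0 := by
  refine ⟨?_, ?_, ?_, ?_⟩ <;> rw [coeff_BB] <;> simp [Nat.factorial] <;> norm_num

theorem coeff_three_toddProduct (d p : ℕ) :
    coeff 3 (toddProduct 3 d 1 p) = -((d : ℚ) * (d + 2) * (p - 1) * (d * p - d - 2)) / 24 := by
  obtain ⟨b0, b1, b2, b3⟩ := coeff_jet_BB
  have hr0 : coeff 0 (rescale (-(d : ℚ)) BB) = 1 := by rw [coeff_rescale, b0]; simp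
  obtain ⟨i0, i1, i2, i3⟩ := coeff_inv_jet (rescale (-(d : ℚ)) BB) hr0
  rw [coeff_rescale, b1] at i1
  rw [coeff_rescale, coeff_rescale, b1, b2] at i2
  rw [coeff_rescale, coeff_rescale, coeff_rescale, b1, b2, b3] at i3
  rw [coeff_toddProduct]
  simp only [Finset.sum_range_succ, Finset.sum_range_zero, zero_add]
  have e4 : BB ^ (3 + 1) = BB * BB * (BB * BB) := by ring
  have hexp : ∀ k, coeff k (rescale (-(d : ℚ) - (3 : ℕ) - 1 + ((1 : ℤ) : ℚ)) (exp ℚ)) =
      (-(d : ℚ) - 3) ^ k * (1 / (k.factorial : ℚ)) := by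
    intro k
    rw [coeff_rescale, coeff_exp]
    simp
  simp only [toddH, e4, coeff_three_mul', coeff_two_mul', coeff_one_mul', coeff_zero_mul', hexp,
    b0, b1, b2, b3, i0, i1, i2, i3, Nat.sub_self, Nat.sub_zero, Nat.reduceSub]
  simp [Nat.factorial]
  ring

end Groth.Agent.H88
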