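import Groth.Agent.H88.Todd
import Groth.Agent.H88.BernoulliSign
import Groth.Agent.H88.PolyNeg

set_option autoImplicit false

namespace Groth.Agent.H88

open PowerSeries Finset

theorem toddProduct_eventually_neg (n d : ℕ) (s : ℤ) (hn : 2 ≤ n) (hd : 1 ≤ d)
    (h : bernoulli' n < 0 ∨
      (bernoulli' n = 0 ∧ (2 * (s : ℚ) - d - n - 1) * bernoulli' (n - 1) < 0)) :
    ∃ N : ℕ, ∀ p : ℕ, N ≤ p → coeff n (toddProduct n d s p) < 0 := by
  obtain ⟨P, hP, hform⟩ := toddProduct_leading n d s hn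
  have hd' : (0 : ℚ) < d := by exact_mod_cast hd
  rcases h with h | ⟨h0, h1⟩
  · -- leading term of degree n
    set a : ℚ := bernoulli' n * (d : ℚ) ^ n / (n.factorial : ℚ) with ha
    set b : ℚ := (2 * (s : ℚ) - d - n - 1) / 2 * bernoulli' (n - 1) * (d : ℚ) ^ (n - 1) /
      ((n - 1).factorial : ℚ) with hb
    have ha_neg : a < 0 := by
      rw [ha]
      apply div_neg_of_neg_of_pos
      · exact mul_neg_of_neg_of_pos h (by positivity)
      · exact_mod_cast Nat.factorial_pos n
    have hdeg : (Polynomial.C b * Polynomial.X ^ (n - 1) + P).natDegree < n := by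
      refine lt_of_le_of_lt (Polynomial.natDegree_add_le _ _) ?_
      rw [max_lt_iff]
      constructor
      · exact lt_of_le_of_lt (Polynomial.natDegree_C_mul_X_pow_le _ _) (by omega)
      · omega
    obtain ⟨N, hN⟩ := eventually_neg_of_leading n a ha_neg _ hdeg
    refine ⟨N, fun p hp => ?_⟩
    have := hN p hp
    rw [hform p]
    simp only [Polynomial.eval_add, Polynomial.eval_mul, Polynomial.eval_C, Polynomial.eval_pow,
      Polynomial.eval_X] at this
    rw [ha, hb] at this
    have e : bernoulli' n * ((d : ℚ) * p) ^ n / (n.factorial : ℚ) +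
        (2 * (s : ℚ) - d - n - 1) / 2 * bernoulli' (n - 1) * ((d : ℚ) * p) ^ (n - 1) /
          ((n - 1).factorial : ℚ) + Polynomial.eval (p : ℚ) P =
        bernoulli' n * (d : ℚ) ^ n / (n.factorial : ℚ) * (p : ℚ) ^ n +
        ((2 * (s : ℚ) - d - n - 1) / 2 * bernoulli' (n - 1) * (d : ℚ) ^ (n - 1) /
          ((n - 1).factorial : ℚ) * (p : ℚ) ^ (n - 1) + Polynomial.eval (p : ℚ) P) := by
      rw [mul_pow, mul_pow]; ring
    rw [e]
    exact this
  · set b : ℚ := (2 * (s : ℚ) - d - n - 1) / 2 * bernoulli' (n - 1) * (d : ℚ) ^ (n - 1) /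
      ((n - 1).factorial : ℚ) with hb
    have hb_neg : b < 0 := by
      rw [hb]
      apply div_neg_of_neg_of_pos
      · have : (2 * (s : ℚ) - d - n - 1) / 2 * bernoulli' (n - 1) * (d : ℚ) ^ (n - 1) =
            ((2 * (s : ℚ) - d - n - 1) * bernoulli' (n - 1)) * ((d : ℚ) ^ (n - 1) / 2) := by ring
        rw [this]
        exact mul_neg_of_neg_of_pos h1 (by positivity)
      · exact_mod_cast Nat.factorial_pos (n - 1)
    have hdeg : P.natDegree < n - 1 := by omega
    obtain ⟨N, hN⟩ := eventually_neg_of_leading (n - 1) b hb_neg P hdeg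
    refine ⟨N, fun p hp => ?_⟩
    have := hN p hp
    rw [hform p, h0]
    rw [hb] at this
    have e : (0 : ℚ) * ((d : ℚ) * p) ^ n / (n.factorial : ℚ) +
        (2 * (s : ℚ) - d - n - 1) / 2 * bernoulli' (n - 1) * ((d : ℚ) * p) ^ (n - 1) /
          ((n - 1).factorial : ℚ) + Polynomial.eval (p : ℚ) P =
        (2 * (s : ℚ) - d - n - 1) / 2 * bernoulli' (n - 1) * (d : ℚ) ^ (n - 1) /
          ((n - 1).factorial : ℚ) * (p : ℚ) ^ (n - 1) + Polynomial.eval (p : ℚ) P := by
      rw [mul_pow]; ring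
    rw [e]
    exact this

end Groth.Agent.H88
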