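import Mathlib

/-!
# The trace ideal of a nonzero f.g. projective module over a ring with `A/J` simple

If `A / J(A)` is a simple ring and `P` is a nonzero finitely generated projective `A`-module,
then the trace ideal `∑_f f(P)` (over `f : P → A`) is all of `A`. Consequently `P` is faithful.
-/

set_option autoImplicit false

namespace Groth.Agent.H88.TraceIdeal

universe u v

variable (A : Type u) [Ring A] (P : Type v) [AddCommGroup P] [Module A P]

/-- The trace ideal, as a left ideal. -/
def trace : Submodule A A := ⨆ f : P →ₗ[A] A, LinearMap.range f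

variable {A P}

lemma apply_mem_trace (f : P →ₗ[A] A) (p : P) : f p ∈ trace A P :=
  (le_iSup (fun f : P →ₗ[A] A => LinearMap.range f) f) ⟨p, rfl⟩

lemma mul_mem_trace {t : A} (ht : t ∈ trace A P) (b : A) : t * b ∈ trace A P := by
  refine Submodule.iSup_induction (fun f : P →ₗ[A] A => LinearMap.range f)
    (motive := fun t => t * b ∈ trace A P) ht ?_ ?_ ?_
  · rintro f _ ⟨p, rfl⟩
    exact apply_mem_trace ((LinearMap.toSpanSingleton A A b) ∘ₗ f) p
  · rw [zero_mul]
    exact Submodule.zero_mem _
  · intro x y hx hy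
    rw [add_mul]
    exact Submodule.add_mem _ hx hy

lemma mem_trace_smul_top [Module.Projective A P] (x : P) :
    x ∈ trace A P • (⊤ : Submodule A P) := by
  obtain ⟨s, hs⟩ := Module.projective_def'.mp (inferInstance : Module.Projective A P)
  have h1 : x = Finsupp.linearCombination A id (s x) := by
    have := LinearMap.congr_fun hs x
    simpa using this.symm
  rw [h1, Finsupp.linearCombination_apply]
  refine Submodule.sum_mem _ fun p _ => ?_
  refine Submodule.smul_mem_smul ?_ Submodule.mem_top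
  exact apply_mem_trace ((Finsupp.lapply p) ∘ₗ s) x

variable (A P)

theorem one_mem_trace [IsSimpleRing (A ⧸ Ring.jacobson A)] [Module.Finite A P]
    [Module.Projective A P] [Nontrivial P] : (1 : A) ∈ trace A P := by
  classical
  -- some element of the trace ideal is outside the radical
  obtain ⟨t₀, ht₀, ht₀J⟩ : ∃ t₀ ∈ trace A P, t₀ ∉ Ring.jacobson A := by
    by_contra hcon
    push Not at hcon
    have hle : trace A P ≤ Ring.jacobson A := fun t ht => hcon t ht
    have h1 : (⊤ : Submodule A P) ≤ Ring.jacobson A • (⊤ : Submodule A P) := by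
      intro x _
      exact Submodule.smul_mono_left hle (mem_trace_smul_top x)
    have h2 : (⊤ : Submodule A P) = ⊥ :=
      Submodule.FG.eq_bot_of_le_jacobson_smul Module.Finite.fg_top h1
    exact top_ne_bot h2
  let π := Ideal.Quotient.mk (Ring.jacobson A)
  have hπsurj : Function.Surjective π := Ideal.Quotient.mk_surjective
  let I : TwoSidedIdeal (A ⧸ Ring.jacobson A) := TwoSidedIdeal.mk' (π '' (trace A P : Set A))
    ⟨0, Submodule.zero_mem _, map_zero _⟩
    (by
      rintro _ _ ⟨x, hx, rfl⟩ ⟨y, hy, rfl⟩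
      exact ⟨x + y, Submodule.add_mem _ hx hy, map_add _ _ _⟩)
    (by
      rintro _ ⟨x, hx, rfl⟩
      exact ⟨-x, Submodule.neg_mem _ hx, map_neg _ _⟩)
    (by
      rintro x _ ⟨y, hy, rfl⟩
      obtain ⟨a, rfl⟩ := hπsurj x
      exact ⟨a * y, Submodule.smul_mem _ a hy, map_mul _ _ _⟩)
    (by
      rintro _ y ⟨x, hx, rfl⟩
      obtain ⟨b, rfl⟩ := hπsurj y
      exact ⟨x * b, mul_mem_trace hx b, map_mul _ _ _⟩)
  have hπt₀ : π t₀ ≠ 0 := by
    intro h
    exact ht₀J (Ideal.Quotient.eq_zero_iff_mem.mp h)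
  have hmem : π t₀ ∈ I := by
    rw [TwoSidedIdeal.mem_mk']
    exact ⟨t₀, ht₀, rfl⟩
  have h1I : (1 : A ⧸ Ring.jacobson A) ∈ I := IsSimpleRing.one_mem_of_ne_zero_mem I hπt₀ hmem
  rw [TwoSidedIdeal.mem_mk'] at h1I
  obtain ⟨t₁, ht₁, ht₁1⟩ := h1I
  have hJ : t₁ - 1 ∈ Ring.jacobson A := by
    rw [← Ideal.Quotient.eq_zero_iff_mem, map_sub, map_one]
    exact sub_eq_zero.mpr ht₁1
  by_contra hne
  have hTne : (trace A P : Ideal A) ≠ ⊤ := by
    intro h
    apply hne
    rw [h]
    exact Submodule.mem_top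
  obtain ⟨m, hm, hTm⟩ := Ideal.exists_le_maximal (trace A P : Ideal A) hTne
  have hJm : Ring.jacobson A ≤ m := Ring.jacobson_le_of_isMaximal m
  have h1m : (1 : A) ∈ m := by
    have : (1 : A) = t₁ - (t₁ - 1) := by abel
    rw [this]
    exact Submodule.sub_mem _ (hTm ht₁) (hJm hJ)
  exact hm.ne_top ((Ideal.eq_top_iff_one m).mpr h1m)

/-- A nonzero f.g. projective module over such a ring is faithful. -/
theorem eq_zero_of_smul_eq_zero [IsSimpleRing (A ⧸ Ring.jacobson A)] [Module.Finite A P]
    [Module.Projective A P] [Nontrivial P] (c : A) (hc : ∀ x : P, c • x = 0) : c = 0 := by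
  have h1 := one_mem_trace A P
  have key : ∀ t ∈ trace A P, c * t = 0 := by
    intro t ht
    refine Submodule.iSup_induction (fun f : P →ₗ[A] A => LinearMap.range f)
      (motive := fun t => c * t = 0) ht ?_ ?_ ?_
    · rintro f _ ⟨p, rfl⟩
      rw [← smul_eq_mul, ← map_smul, hc, map_zero]
    · exact mul_zero c
    · intro x y hx hy
      rw [mul_add, hx, hy, add_zero]
  have := key 1 h1
  rwa [mul_one] at this

end Groth.Agent.H88.TraceIdeal
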